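import Mathlib

/-! An element of prime order centralising a normal subgroup for numerical reasons. -/

set_option autoImplicit false

namespace CfsgLib.J3

theorem commute_of_normal {H : Type*} [Group H] [Finite H] {p : ℕ} [Fact p.Prime] {w : H}
    (hw : orderOf w = p) {N : Subgroup H} (hN : N.Normal) (hpN : ¬ p ∣ Nat.card N)
    (hnum : ∀ q k c : ℕ, q.Prime → q ^ k ∣ Nat.card N → c ≤ k → q ^ c % p = q ^ k % p → c = k) :
    ∀ x ∈ N, Commute w x := by
  have hP : IsPGroup p (Subgroup.zpowers w) :=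
    IsPGroup.of_card (n := 1) (by rw [Nat.card_zpowers, hw, pow_one])
  suffices h : Nat.card N ∣ Nat.card (N ⊓ Subgroup.centralizer ({w} : Set H) : Subgroup H) by
    intro x hx
    have heq : N ⊓ Subgroup.centralizer ({w} : Set H) = N := by
      refine Subgroup.eq_of_le_of_card_ge inf_le_left (Nat.le_of_dvd Nat.card_pos h)
    rw [← heq] at hx
    exact (Subgroup.mem_centralizer_singleton_iff.1 hx.2).symm
  rw [Nat.dvd_iff_prime_pow_dvd_dvd]
  intro q k hq hk
  have : Fact q.Prime := ⟨hq⟩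
  -- a Sylow subgroup of N invariant under w
  let ψ : Subgroup.zpowers w →* MulAut N := MulAut.conjNormal.comp (Subgroup.zpowers w).subtype
  letI act : MulDistribMulAction (Subgroup.zpowers w) N := MulDistribMulAction.compHom N ψ
  have hsyl : ¬ p ∣ Nat.card (Sylow q N) := by
    obtain ⟨Q⟩ : Nonempty (Sylow q N) := inferInstance
    exact fun h => hpN (h.trans (Q.card_dvd_index.trans (Subgroup.index_dvd_card _)))
  obtain ⟨Q, hQ⟩ := hP.nonempty_fixed_point_of_prime_not_dvd_card (Sylow q N) hsyl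
  obtain ⟨m, hm⟩ : ∃ m, Nat.card Q = q ^ m := Q.isPGroup'.exists_card_eq
  have hkm : k ≤ m := by
    have h1 := Q.pow_dvd_card_of_pow_dvd_card hk
    rw [hm] at h1
    exact (Nat.pow_dvd_pow_iff_le_right hq.one_lt).1 h1
  set Q' : Subgroup H := (Q : Subgroup N).map N.subtype with hQ'
  have hcardQ : Nat.card Q' = q ^ m := by
    rw [hQ', Nat.card_congr ((Q : Subgroup N).equivMapOfInjective N.subtype N.subtype_injective).toEquiv.symm]
    exact hm
  have hnorm : ∀ g ∈ Subgroup.zpowers w, ∀ x ∈ Q', g * x * g⁻¹ ∈ Q' := by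
    rintro g hg _ ⟨x, hx, rfl⟩
    have hfix := hQ ⟨g, hg⟩
    have h1 : (⟨g, hg⟩ : Subgroup.zpowers w) • x ∈
        (((⟨g, hg⟩ : Subgroup.zpowers w) • Q : Sylow q N) : Subgroup N) := by
      rw [Sylow.pointwise_smul_def]; exact Subgroup.smul_mem_pointwise_smul _ _ _ hx
    rw [hfix] at h1
    exact ⟨_, h1, rfl⟩
  letI act' : MulAction (Subgroup.zpowers w) Q' :=
    { smul := fun g x => ⟨(g : H) * x * (g : H)⁻¹, hnorm g g.2 x x.2⟩
      one_smul := fun x => Subtype.ext (by show (1 : H) * x * (1 : H)⁻¹ = x; simp)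
      mul_smul := fun g h x => Subtype.ext (by
        show ((g : H) * h) * x * ((g : H) * h)⁻¹ = g * (h * x * (h : H)⁻¹) * (g : H)⁻¹
        group) }
  have hfixed := hP.card_modEq_card_fixedPoints Q'
  set C : Subgroup H := Q' ⊓ Subgroup.centralizer ({w} : Set H)
  have hfp : Nat.card (MulAction.fixedPoints (Subgroup.zpowers w) Q') = Nat.card C := by
    refine Nat.card_congr
      { toFun := fun x => ⟨(x.1 : H), x.1.2, Subgroup.mem_centralizer_singleton_iff.2 ?_⟩
        invFun := fun y => ⟨⟨y.1, y.2.1⟩, fun g => Subtype.ext ?_⟩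
        left_inv := fun x => rfl
        right_inv := fun y => rfl }
    · have h1 := congrArg Subtype.val (x.2 ⟨w, Subgroup.mem_zpowers w⟩)
      have h2 : w * (x.1 : H) * w⁻¹ = x.1 := h1
      exact ((mul_inv_eq_iff_eq_mul.1 h2)).symm
    · show (g : H) * y.1 * (g : H)⁻¹ = y.1
      obtain ⟨i, hi⟩ := g.2
      have hcy : Commute w y.1 := (Subgroup.mem_centralizer_singleton_iff.1 y.2.2).symm
      have hc : Commute (w ^ i) y.1 := hcy.zpow_left i
      rw [← (show w ^ i = g.1 from hi), hc.eq, mul_inv_cancel_right]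
  obtain ⟨c, hcm, hc⟩ : ∃ c ≤ m, Nat.card C = q ^ c := by
    have h1 := Subgroup.card_dvd_of_le (inf_le_left : C ≤ Q')
    rw [hcardQ] at h1
    exact (Nat.dvd_prime_pow hq).1 h1
  rw [hcardQ, hfp, hc] at hfixed
  have hqm : q ^ m ∣ Nat.card N := by rw [← hm]; exact Subgroup.card_subgroup_dvd_card _
  have hcm' : c = m := hnum q m c hq hqm hcm hfixed.symm
  refine (pow_dvd_pow q hkm).trans ?_
  rw [← hcm', ← hc]
  exact Subgroup.card_dvd_of_le (inf_le_inf_right _ (Subgroup.map_subtype_le _))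

theorem mem_of_dvd_card {H : Type*} [Group H] [Finite H] {p : ℕ} [hp : Fact p.Prime] {N : Subgroup H}
    (hN : N.Normal) (hone : ¬ p ^ 2 ∣ Nat.card H) (hdvd : p ∣ Nat.card N) {u : H} (hu : u ^ p = 1) :
    u ∈ N := by
  by_cases h1 : u = 1
  · rw [h1]; exact N.one_mem
  have huo : orderOf u = p := orderOf_eq_prime hu h1
  obtain ⟨v, hv⟩ := exists_prime_orderOf_dvd_card' p hdvd
  have hvo : orderOf (v : H) = p := by rw [Subgroup.orderOf_coe, hv]
  have hfac : p ^ (Nat.card H).factorization p = p := by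
    have h0 : (Nat.card H).factorization p = 1 := by
      have h2 : p ∣ Nat.card H := hdvd.trans N.card_subgroup_dvd_card
      have h3 := (hp.out.pow_dvd_iff_le_factorization Nat.card_pos.ne').not.1 hone
      have h4 := (hp.out.pow_dvd_iff_le_factorization (k := 1) Nat.card_pos.ne').1 (by rwa [pow_one])
      omega
    rw [h0, pow_one]
  let P := Sylow.ofCard (Subgroup.zpowers (v : H)) (by rw [Nat.card_zpowers, hvo, hfac])
  let Q := Sylow.ofCard (Subgroup.zpowers u) (by rw [Nat.card_zpowers, huo, hfac])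
  obtain ⟨g, hg⟩ := MulAction.exists_smul_eq H P Q
  have huQ : u ∈ ((g • P : Sylow p H) : Subgroup H) := by
    rw [hg]; exact Subgroup.mem_zpowers u
  rw [Sylow.coe_subgroup_smul, Subgroup.mem_pointwise_smul_iff_inv_smul_mem] at huQ
  simp only [MulAut.smul_def, MulAut.conj_inv_apply] at huQ
  have h5 : g⁻¹ * u * g ∈ N := (Subgroup.zpowers_le.2 v.2) huQ
  have h6 := hN.conj_mem _ h5 g
  simpa [mul_assoc] using h6

end CfsgLib.J3
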