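import Cfsg.Agent.Lib.Sporadic.J3.Simple
import Cfsg.Agent.Lib.Sporadic.J3.Normal

/-! Order, centre and simplicity for the triple cover of J3 and J3. -/

set_option autoImplicit false

namespace CfsgLib.J3

open Cfsg.Spor Matrix

variable {F : Type*} [Field F] [Fintype F] {ω : F} (hF : Fintype.card F = 4) (hω : ω ^ 2 + ω + 1 = 0)

include hF in
theorem two_eq_zero : (2 : F) = 0 := by
  have h4 : ((4 : ℕ) : F) = 0 := by rw [← hF]; exact Nat.cast_card_eq_zero F
  have h : (2 : F) * 2 = 0 := by rw [← h4]; norm_num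
  exact mul_self_eq_zero.1 h

theorem omCode_bits : ∀ r c : F9, bits omCode (fi r) (fi c) = (false, decide (r = c)) := by decide +kernel

theorem toM_omCode : toM F ω omCode = ω • 1 := by
  ext r c
  rw [toM, Matrix.of_apply, omCode_bits, Matrix.smul_apply, Matrix.one_apply]
  by_cases h : r = c <;> simp [h, el]

theorem gX_ne_one : beq gX one = false ∧ beq gY one = false ∧ okb gX = true ∧ okb gY = true := by
  decide +kernel

include hF hω

theorem exists_coe {m : Matrix F9 F9 F} (h : m ∈ GS F ω) :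
    ∃ g : threeJ3 F ω, ((g : GL F9 F) : Matrix F9 F9 F) = m := by
  obtain ⟨g, hg, he⟩ := (mem_GS_iff_exists (two_eq_zero hF) hω).1 h
  exact ⟨⟨g, hg⟩, he⟩

theorem pow_three {c : F} (hc : c ≠ 0) : c ^ 3 = 1 := by
  have := FiniteField.pow_card_sub_one_eq_one c hc
  rwa [hF] at this

theorem mem_center_iff_scalar (g : threeJ3 F ω) :
    g ∈ Subgroup.center (threeJ3 F ω) ↔ ∃ c : F, ((g : GL F9 F) : Matrix F9 F9 F) = c • 1 := by
  have h2 := two_eq_zero hF
  constructor
  · intro hg
    obtain ⟨x, hx⟩ := exists_coe hF hω (gX_mem (F := F) (ω := ω) h2 hω)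
    obtain ⟨y, hy⟩ := exists_coe hF hω (gY_mem (F := F) (ω := ω) h2 hω)
    refine commutant h2 hω ?_ ?_
    · rw [← hx]
      exact congrArg (fun t : threeJ3 F ω => ((t : GL F9 F) : Matrix F9 F9 F)) (Subgroup.mem_center_iff.1 hg x)
    · rw [← hy]
      exact congrArg (fun t : threeJ3 F ω => ((t : GL F9 F) : Matrix F9 F9 F)) (Subgroup.mem_center_iff.1 hg y)
  · rintro ⟨c, hc⟩
    refine Subgroup.mem_center_iff.2 fun k => Subtype.ext (Units.ext ?_)
    simp [hc]

theorem card_center : Nat.card (Subgroup.center (threeJ3 F ω)) = 3 := by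
  have h2 := two_eq_zero hF
  have hall : ∀ c : Fˣ, ∃ g : Subgroup.center (threeJ3 F ω),
      (((g : threeJ3 F ω) : GL F9 F) : Matrix F9 F9 F) = (c : F) • 1 := by
    intro c
    have hne : ω ≠ 0 := fun e => by simp [e] at hω
    have hne1 : ω ≠ 1 := fun e => by
      subst e; exact one_ne_zero (α := F) (by linear_combination hω - h2)
    have hsq : ω ^ 2 ≠ 1 := fun e => hne (by linear_combination hω - e - h2)
    have hsq' : ω ^ 2 ≠ ω := fun e => hne1 (mul_left_cancel₀ hne (by rw [← pow_two, e, mul_one]))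
    classical
    have hsub : ({0, 1, ω, ω ^ 2} : Finset F) = Finset.univ := by
      refine Finset.eq_univ_of_card _ ?_
      rw [hF, Finset.card_insert_of_notMem, Finset.card_insert_of_notMem, Finset.card_pair]
      · exact Ne.symm hsq'
      · simp [Ne.symm hne1, Ne.symm hsq]
      · simp [Ne.symm hne, Ne.symm (pow_ne_zero 2 hne)]
    have hc := Finset.mem_univ (c : F)
    rw [← hsub] at hc
    simp only [Finset.mem_insert, Finset.mem_singleton] at hc
    have hom : (ω • 1 : Matrix F9 F9 F) ∈ GS F ω := by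
      obtain ⟨-, -, -, -, -, -, -, -, -, -, -, -, -, -, -, -, -, ho, he, -⟩ := misc
      rw [← toM_omCode, beq_eq he]
      exact triple_mem h2 hω ho
    have hmem : ((c : F) • 1 : Matrix F9 F9 F) ∈ GS F ω := by
      rcases hc with h | h | h | h
      · exact absurd h c.ne_zero
      · rw [h, one_smul]; exact Submonoid.one_mem _
      · rw [h]; exact hom
      · rw [h]
        have := Submonoid.mul_mem _ hom hom
        rwa [smul_mul_smul_comm, ← pow_two, one_mul] at this
    obtain ⟨g, hg⟩ := exists_coe hF hω hmem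
    exact ⟨⟨g, (mem_center_iff_scalar hF hω g).2 ⟨_, hg⟩⟩, hg⟩
  choose f hf using hall
  have hbij : Function.Bijective f := by
    constructor
    · intro a b hab
      have h := hf a
      rw [hab, hf b] at h
      have h' := congrFun (congrFun h (fz 0)) (fz 0)
      exact Units.ext (by simpa using h'.symm)
    · intro g
      obtain ⟨c, hc⟩ := (mem_center_iff_scalar hF hω g.1).1 g.2
      have hc0 : c ≠ 0 := by
        intro h0
        have h1 := (g.1 : GL F9 F).mul_inv
        rw [hc, h0, zero_smul, zero_mul] at h1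
        exact zero_ne_one h1
      exact ⟨Units.mk0 c hc0, Subtype.ext (Subtype.ext (Units.ext ((hf _).trans (by rw [hc]; rfl))))⟩
  rw [← Nat.card_eq_of_bijective f hbij, Nat.card_units, Nat.card_eq_fintype_card, hF]

theorem card_J3 : Nat.card (J3 F ω) = 50232960 := by
  have h := Subgroup.card_eq_card_quotient_mul_card_subgroup (Subgroup.center (threeJ3 F ω))
  rw [card_threeJ3 (two_eq_zero hF) hω, card_center hF hω] at h
  show Nat.card (threeJ3 F ω ⧸ Subgroup.center (threeJ3 F ω)) = _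
  omega

/-- elements of prime order `p ≠ 3` commuting modulo the centre commute -/
theorem commute_lift {p : ℕ} (hp3 : Nat.Coprime p 3) {g w : threeJ3 F ω} (hw : w ^ p = 1)
    (h : Commute (QuotientGroup.mk' (Subgroup.center (threeJ3 F ω)) w)
      (QuotientGroup.mk' (Subgroup.center (threeJ3 F ω)) g)) : Commute w g := by
  set z := g * w * g⁻¹ * w⁻¹ with hz
  have hzc : z ∈ Subgroup.center (threeJ3 F ω) := by
    rw [← QuotientGroup.eq_one_iff]
    show QuotientGroup.mk' (Subgroup.center (threeJ3 F ω)) z = 1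
    rw [hz, map_mul, map_mul, map_mul, map_inv, map_inv, ← h.eq, mul_inv_cancel_right, mul_inv_cancel]
  have hconj : g * w * g⁻¹ = z * w := by rw [hz]; group
  have hzp : z ^ p = 1 := by
    have h1 : (z * w) ^ p = 1 := by rw [← hconj, conj_pow, hw, mul_one, mul_inv_cancel]
    have hzw : Commute z w := (Subgroup.mem_center_iff.1 hzc w).symm
    rw [hzw.mul_pow, hw, mul_one] at h1
    exact h1
  have hz3 : z ^ 3 = 1 := by
    have := pow_card_eq_one' (x := (⟨z, hzc⟩ : Subgroup.center (threeJ3 F ω)))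
    rw [card_center hF hω] at this
    exact congrArg Subtype.val this
  have hz1 : z = 1 := by
    rw [← orderOf_eq_one_iff]
    have h1 : orderOf z ∣ Nat.gcd p 3 :=
      Nat.dvd_gcd (orderOf_dvd_of_pow_eq_one hzp) (orderOf_dvd_of_pow_eq_one hz3)
    rw [hp3] at h1
    exact Nat.dvd_one.1 h1
  rw [hz1, one_mul, mul_inv_eq_iff_eq_mul] at hconj
  exact hconj.symm

theorem coe_pow_eq {a : M2} {p : ℕ} (h : beq (lprod (List.replicate p a)) one = true) (g : threeJ3 F ω)
    (hg : ((g : GL F9 F) : Matrix F9 F9 F) = toM F ω a) : g ^ p = 1 := by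
  refine Subtype.ext (Units.ext ?_)
  rw [Subgroup.coe_pow, Units.val_pow_eq_pow_val, hg, ← List.prod_replicate, ← List.map_replicate,
    ← toM_lprod (two_eq_zero hF) hω, beq_eq h, toM_one]
  rfl

/-- J3 is simple. -/
theorem isSimple_J3 : IsSimpleGroup (J3 F ω) := by
  have h2 := two_eq_zero hF
  obtain ⟨-, -, -, -, -, -, -, -, -, -, -, -, -, -, -, hX19, hY17, -, -, sa, sb, eX, ta, tb, eY, -⟩ := misc
  obtain ⟨gx, hgx⟩ := exists_coe hF hω (gX_mem (F := F) (ω := ω) h2 hω)
  obtain ⟨gy, hgy⟩ := exists_coe hF hω (gY_mem (F := F) (ω := ω) h2 hω)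
  set π := QuotientGroup.mk' (Subgroup.center (threeJ3 F ω))
  have hgx19 : gx ^ 19 = 1 := coe_pow_eq hF hω hX19 gx hgx
  have hgy17 : gy ^ 17 = 1 := coe_pow_eq hF hω hY17 gy hgy
  have hne : ∀ (a : M2) (g : threeJ3 F ω), ((g : GL F9 F) : Matrix F9 F9 F) = toM F ω a →
      beq a one = false → okb a = true → ∀ p, Nat.Coprime p 3 → g ^ p = 1 → π g ≠ 1 := by
    intro a g hg hb ha p hp hgp h1
    have hgc : g ∈ Subgroup.center (threeJ3 F ω) := (QuotientGroup.eq_one_iff g).1 h1
    have h3 : g ^ 3 = 1 := by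
      have := pow_card_eq_one' (x := (⟨g, hgc⟩ : Subgroup.center (threeJ3 F ω)))
      rw [card_center hF hω] at this
      exact congrArg Subtype.val this
    have hd : orderOf g ∣ Nat.gcd p 3 :=
      Nat.dvd_gcd (orderOf_dvd_of_pow_eq_one hgp) (orderOf_dvd_of_pow_eq_one h3)
    rw [hp, Nat.dvd_one, orderOf_eq_one_iff] at hd
    rw [hd] at hg
    have : a = one := toM_injective h2 hω ha (by decide) (by rw [← hg, toM_one]; rfl)
    rw [this] at hb
    exact absurd hb (by decide)
  have hox : orderOf (π gx) = 19 := by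
    haveI := Fact.mk (show Nat.Prime 19 by norm_num)
    exact orderOf_eq_prime (by rw [← map_pow, hgx19, map_one])
      (hne gX gx hgx gX_ne_one.1 gX_ne_one.2.2.1 19 (by norm_num) hgx19)
  have hoy : orderOf (π gy) = 17 := by
    haveI := Fact.mk (show Nat.Prime 17 by norm_num)
    exact orderOf_eq_prime (by rw [← map_pow, hgy17, map_one])
      (hne gY gy hgy gX_ne_one.2.1 gX_ne_one.2.2.2 17 (by norm_num) hgy17)
  have hcard := card_J3 hF hω
  haveI : Nontrivial (J3 F ω) := Finite.one_lt_card_iff_nontrivial.1 (by rw [hcard]; norm_num)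
  refine ⟨fun N hN => or_iff_not_imp_left.2 fun hNne => ?_⟩
  -- membership from a split
  have hsplit : ∀ (p : ℕ) (A B : M2 × (ℕ × ℕ × ℕ)) (C : M2) (g : threeJ3 F ω),
      (∀ u : J3 F ω, u ^ p = 1 → u ∈ N) → chkSplit A p = true → chkSplit B p = true →
      beq C (mul A.1 B.1) = true → ((g : GL F9 F) : Matrix F9 F9 F) = toM F ω C → π g ∈ N := by
    intro p A B C g hall hA hB hC hg
    simp only [chkSplit, Bool.and_eq_true] at hA hB
    obtain ⟨a, ha⟩ := exists_coe hF hω (show toM F ω A.1 ∈ GS F ω by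
      rw [beq_eq hA.1.2]; exact triple_mem h2 hω hA.1.1)
    obtain ⟨b, hb⟩ := exists_coe hF hω (show toM F ω B.1 ∈ GS F ω by
      rw [beq_eq hB.1.2]; exact triple_mem h2 hω hB.1.1)
    have hgab : g = a * b := Subtype.ext (Units.ext (by
      rw [Subgroup.coe_mul, Units.val_mul, hg, ha, hb, beq_eq hC, toM_mul h2 hω]))
    rw [hgab, map_mul]
    refine N.mul_mem (hall _ ?_) (hall _ ?_)
    · rw [← map_pow, coe_pow_eq hF hω hA.2 a ha, map_one]
    · rw [← map_pow, coe_pow_eq hF hω hB.2 b hb, map_one]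
  haveI h19 := Fact.mk (show Nat.Prime 19 by norm_num)
  haveI h17 := Fact.mk (show Nat.Prime 17 by norm_num)
  -- `19` dividing the order gives everything
  have htop : 19 ∣ Nat.card N → N = ⊤ := by
    intro hdvd
    have hall : ∀ u : J3 F ω, u ^ 19 = 1 → u ∈ N := fun u hu =>
      mem_of_dvd_card hN (by rw [hcard]; norm_num) hdvd hu
    have hx : π gx ∈ N := hall _ (by rw [← map_pow, hgx19, map_one])
    have hy : π gy ∈ N := hsplit 19 sYa sYb gY gy hall ta tb eY hgy
    refine eq_top_iff.2 fun q _ => ?_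
    obtain ⟨g, rfl⟩ := QuotientGroup.mk'_surjective (Subgroup.center (threeJ3 F ω)) q
    have hm : ((g : GL F9 F) : Matrix F9 F9 F) ∈ GS F ω := (mem_GS_iff_exists h2 hω).2 ⟨g.1, g.2, rfl⟩
    suffices h : GS F ω ≤ ((N.comap π).toSubmonoid.map ((Units.coeHom _).comp (threeJ3 F ω).subtype)) by
      obtain ⟨k, hk, he⟩ := h hm
      have : k = g := Subtype.ext (Units.ext he)
      exact this ▸ hk
    refine Submonoid.closure_le.2 ?_
    rintro x (rfl | rfl)
    · exact ⟨gx, hx, hgx⟩
    · exact ⟨gy, hy, hgy⟩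
  by_cases hd19 : 19 ∣ Nat.card N
  · exact htop hd19
  exfalso
  have hd17 : ¬ 17 ∣ Nat.card N := by
    intro hdvd
    apply hd19
    have hall : ∀ u : J3 F ω, u ^ 17 = 1 → u ∈ N := fun u hu =>
      mem_of_dvd_card hN (by rw [hcard]; norm_num) hdvd hu
    rw [← hox, ← Subgroup.orderOf_mk (π gx) (hsplit 17 sXa sXb gX gx hall sa sb eX hgx)]
    exact orderOf_dvd_natCard _
  have hNdvd : Nat.card N ∣ 2 ^ 7 * 3 ^ 5 * 5 := by
    have h1 : Nat.card N ∣ (2 ^ 7 * 3 ^ 5 * 5) * 17 * 19 := by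
      have := N.card_subgroup_dvd_card
      rw [hcard] at this
      exact this
    have c19 : Nat.Coprime (Nat.card N) 19 := ((Nat.Prime.coprime_iff_not_dvd h19.out).2 hd19).symm
    have c17 : Nat.Coprime (Nat.card N) 17 := ((Nat.Prime.coprime_iff_not_dvd h17.out).2 hd17).symm
    exact c17.dvd_of_dvd_mul_right (c19.dvd_of_dvd_mul_right h1)
  have hq : ∀ q k : ℕ, q.Prime → q ^ k ∣ Nat.card N →
      k = 0 ∨ (q = 2 ∧ k ≤ 7) ∨ (q = 3 ∧ k ≤ 5) ∨ (q = 5 ∧ k ≤ 1) := by
    intro q k hq hk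
    rcases Nat.eq_zero_or_pos k with h0 | h0
    · exact Or.inl h0
    right
    have hk' := hk.trans hNdvd
    have hq1 : q ∣ 2 ^ 7 * 3 ^ 5 * 5 := (dvd_pow_self q h0.ne').trans hk'
    rcases (Nat.Prime.dvd_mul hq).1 hq1 with h | h
    · rcases (Nat.Prime.dvd_mul hq).1 h with h | h
      · have := (Nat.prime_dvd_prime_iff_eq hq Nat.prime_two).1 (hq.dvd_of_dvd_pow h)
        subst this
        refine Or.inl ⟨rfl, Nat.le_of_not_lt fun hgt => ?_⟩
        exact absurd ((pow_dvd_pow 2 hgt).trans hk') (by norm_num)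
      · have := (Nat.prime_dvd_prime_iff_eq hq Nat.prime_three).1 (hq.dvd_of_dvd_pow h)
        subst this
        refine Or.inr (Or.inl ⟨rfl, Nat.le_of_not_lt fun hgt => ?_⟩)
        exact absurd ((pow_dvd_pow 3 hgt).trans hk') (by norm_num)
    · have := (Nat.prime_dvd_prime_iff_eq hq Nat.prime_five).1 h
      subst this
      refine Or.inr (Or.inr ⟨rfl, Nat.le_of_not_lt fun hgt => ?_⟩)
      exact absurd ((pow_dvd_pow 5 hgt).trans hk') (by norm_num)
  have hnum : ∀ p : ℕ, (p = 19 ∨ p = 17) → ∀ q k c : ℕ, q.Prime → q ^ k ∣ Nat.card N → c ≤ k →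
      q ^ c % p = q ^ k % p → c = k := by
    intro p hp q k c hqp hk hck he
    rcases hq q k hqp hk with h | ⟨h, h'⟩ | ⟨h, h'⟩ | ⟨h, h'⟩
    · omega
    all_goals
      subst h
      rcases hp with rfl | rfl <;> revert he <;> interval_cases k <;> interval_cases c <;> norm_num
  have hcx := commute_of_normal hox hN hd19 (hnum 19 (Or.inl rfl))
  have hcy := commute_of_normal hoy hN hd17 (hnum 17 (Or.inr rfl))
  apply hNne
  rw [Subgroup.eq_bot_iff_forall]
  intro q hq'
  obtain ⟨g, rfl⟩ := QuotientGroup.mk'_surjective (Subgroup.center (threeJ3 F ω)) q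
  have c1 := commute_lift hF hω (p := 19) (by norm_num) hgx19 (hcx _ hq')
  have c2 := commute_lift hF hω (p := 17) (by norm_num) hgy17 (hcy _ hq')
  refine (QuotientGroup.eq_one_iff g).2 ((mem_center_iff_scalar hF hω g).2 (commutant h2 hω ?_ ?_))
  · rw [← hgx]
    exact congrArg (fun t : threeJ3 F ω => ((t : GL F9 F) : Matrix F9 F9 F)) c1.eq
  · rw [← hgy]
    exact congrArg (fun t : threeJ3 F ω => ((t : GL F9 F) : Matrix F9 F9 F)) c2.eq

end CfsgLib.J3
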