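import Cfsg.Agent.Lib.Sporadic.J3.Code

/-! Certificate data for the triple cover of J3 (generated). -/

set_option autoImplicit false
set_option maxRecDepth 100000

namespace CfsgLib.J3

def tEX_0 : BT (ℕ × ℕ × ℕ) := (.node 16 (.node 8 (.node 4 (.node 2 (.node 1 (.leaf (1, 0, 0)) (.leaf (2, 0, 0))) (.node 3 (.leaf (4, 0, 0)) (.leaf (6, 0, 0)))) (.node 6 (.node 5 (.leaf (8, 0, 0)) (.leaf (10, 0, 0))) (.node 7 (.leaf (12, 0, 0)) (.leaf (14, 0, 0))))) (.node 12 (.node 10 (.node 9 (.leaf (16, 0, 0)) (.leaf (18, 0, 0))) (.node 11 (.leaf (20, 0, 0)) (.leaf (22, 0, 0)))) (.node 14 (.node 13 (.leaf (24, 0, 0)) (.leaf (26, 0, 0))) (.node 15 (.leaf (28, 0, 0)) (.leaf (30, 0, 0)))))) (.node 24 (.node 20 (.node 18 (.node 17 (.leaf (32, 0, 0)) (.leaf (34, 0, 0))) (.node 19 (.leaf (36, 0, 0)) (.leaf (38, 0, 0)))) (.node 22 (.node 21 (.leaf (40, 0, 0)) (.leaf (42, 0, 0))) (.node 23 (.leaf (44, 0, 0)) (.leaf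 (46, 0, 0))))) (.node 28 (.node 26 (.node 25 (.leaf (48, 0, 0)) (.leaf (50, 0, 0))) (.node 27 (.leaf (52, 0, 0)) (.leaf (54, 0, 0)))) (.node 30 (.node 29 (.leaf (56, 0, 0)) (.leaf (58, 0, 0))) (.node 31 (.leaf (60, 0, 0)) (.leaf (62, 0, 0)))))))

def tEX_1 : BT (ℕ × ℕ × ℕ) := (.node 48 (.node 40 (.node 36 (.node 34 (.node 33 (.leaf (64, 0, 0)) (.leaf (66, 0, 0))) (.node 35 (.leaf (68, 0, 0)) (.leaf (70, 0, 0)))) (.node 38 (.node 37 (.leaf (72, 0, 0)) (.leaf (74, 0, 0))) (.node 39 (.leaf (76, 0, 0)) (.leaf (78, 0, 0))))) (.node 44 (.node 42 (.node 41 (.leaf (80, 0, 0)) (.leaf (82, 0, 0))) (.node 43 (.leaf (84, 0, 0)) (.leaf (86, 0, 0)))) (.node 46 (.node 45 (.leaf (88, 0, 0)) (.leaf (90, 0, 0))) (.node 47 (.leaf (92, 0, 0)) (.leaf (94, 0, 0)))))) (.node 56 (.node 52 (.node 50 (.node 49 (.leaf (96, 0, 0)) (.leaf (98, 0, 0))) (.node 51 (.leaf (100, 0, 0)) (.leaf (102, 0, 0)))) (.node 54 (.node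 53 (.leaf (104, 0, 0)) (.leaf (106, 0, 0))) (.node 55 (.leaf (108, 0, 0)) (.leaf (110, 0, 0))))) (.node 60 (.node 58 (.node 57 (.leaf (112, 0, 0)) (.leaf (114, 0, 0))) (.node 59 (.leaf (116, 0, 0)) (.leaf (118, 0, 0)))) (.node 62 (.node 61 (.leaf (120, 0, 0)) (.leaf (122, 0, 0))) (.node 63 (.leaf (124, 0, 0)) (.leaf (126, 0, 0)))))))

def tEX_2 : BT (ℕ × ℕ × ℕ) := (.node 80 (.node 72 (.node 68 (.node 66 (.node 65 (.leaf (128, 0, 0)) (.leaf (130, 0, 0))) (.node 67 (.leaf (132, 0, 0)) (.leaf (134, 0, 0)))) (.node 70 (.node 69 (.leaf (136, 0, 0)) (.leaf (138, 0, 0))) (.node 71 (.leaf (140, 0, 0)) (.leaf (142, 0, 0))))) (.node 76 (.node 74 (.node 73 (.leaf (144, 0, 0)) (.leaf (146, 0, 0))) (.node 75 (.leaf (148, 0, 0)) (.leaf (150, 0, 0)))) (.node 78 (.node 77 (.leaf (152, 0, 0)) (.leaf (154, 0, 0))) (.node 79 (.leaf (156, 0, 0)) (.leaf (158, 0, 0)))))) (.node 88 (.node 84 (.node 82 (.node 81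 (.leaf (160, 0, 0)) (.leaf (162, 0, 0))) (.node 83 (.leaf (164, 0, 0)) (.leaf (166, 0, 0)))) (.node 86 (.node 85 (.leaf (168, 0, 0)) (.leaf (170, 0, 0))) (.node 87 (.leaf (172, 0, 0)) (.leaf (174, 0, 0))))) (.node 92 (.node 90 (.node 89 (.leaf (176, 0, 0)) (.leaf (178, 0, 0))) (.node 91 (.leaf (180, 0, 0)) (.leaf (182, 0, 0)))) (.node 94 (.node 93 (.leaf (184, 0, 0)) (.leaf (186, 0, 0))) (.node 95 (.leaf (188, 0, 0)) (.leaf (190, 0, 0)))))))

def tEX_3 : BT (ℕ × ℕ × ℕ) := (.node 112 (.node 104 (.node 100 (.node 98 (.node 97 (.leaf (192, 0, 0)) (.leaf (194, 0, 0))) (.node 99 (.leaf (196, 0, 0)) (.leaf (198, 0, 0)))) (.node 102 (.node 101 (.leaf (200, 0, 0)) (.leaf (202, 0, 0))) (.node 103 (.leaf (204, 0, 0)) (.leaf (206, 0, 0))))) (.node 108 (.node 106 (.node 105 (.leaf (208, 0, 0)) (.leaf (210, 0, 0))) (.node 107 (.leaf (212, 0, 0)) (.leaf (214, 0, 0)))) (.node 110 (.node 109 (.leaf (216,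 0, 0)) (.leaf (218, 0, 0))) (.node 111 (.leaf (220, 0, 0)) (.leaf (222, 0, 0)))))) (.node 120 (.node 116 (.node 114 (.node 113 (.leaf (224, 0, 0)) (.leaf (225, 0, 0))) (.node 115 (.leaf (227, 0, 0)) (.leaf (229, 0, 0)))) (.node 118 (.node 117 (.leaf (231, 0, 0)) (.leaf (233, 0, 0))) (.node 119 (.leaf (235, 0, 0)) (.leaf (237, 0, 0))))) (.node 124 (.node 122 (.node 121 (.leaf (239, 0, 0)) (.leaf (241, 0, 0))) (.node 123 (.leaf (243, 0, 0)) (.leaf (245, 0, 0)))) (.node 126 (.node 125 (.leaf (247, 0, 0)) (.leaf (249, 0, 0))) (.node 127 (.leaf (251, 0, 0)) (.leaf (253, 0, 0)))))))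

def tEX_4 : BT (ℕ × ℕ × ℕ) := (.node 144 (.node 136 (.node 132 (.node 130 (.node 129 (.leaf (255, 0, 0)) (.leaf (257, 0, 0))) (.node 131 (.leaf (259, 0, 0)) (.leaf (261, 0, 0)))) (.node 134 (.node 133 (.leaf (263, 0, 0)) (.leaf (264, 0, 0))) (.node 135 (.leaf (266, 0, 0)) (.leaf (268, 0, 0))))) (.node 140 (.node 138 (.node 137 (.leaf (270, 0, 0)) (.leaf (272, 0, 0))) (.node 139 (.leaf (274, 0, 0)) (.leaf (276, 0, 0)))) (.node 142 (.node 141 (.leaf (37, 69, 11)) (.leaf (279, 0, 0))) (.node 143 (.leaf (281, 0, 0)) (.leaf (127, 100, 26)))))) (.node 152 (.node 148 (.node 146 (.node 145 (.leaf (284, 0, 0)) (.leaf (286, 0, 0))) (.node 147 (.leaf (288, 0, 0)) (.leaf (290, 0, 0)))) (.node 150 (.node 149 (.leaf (292, 0, 0)) (.leaf (294, 0, 0))) (.node 151 (.leaf (296, 0, 0)) (.leaf (298, 0, 0))))) (.node 156 (.node 154 (.node 153 (.leaf (300, 0, 0)) (.leaf (302, 0, 0))) (.node 155 (.leaf (304, 0,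 0)) (.leaf (306, 0, 0)))) (.node 158 (.node 157 (.leaf (308, 0, 0)) (.leaf (310, 0, 0))) (.node 159 (.leaf (312, 0, 0)) (.leaf (314, 0, 0)))))))

def tEX_5 : BT (ℕ × ℕ × ℕ) := (.node 176 (.node 168 (.node 164 (.node 162 (.node 161 (.leaf (316, 0, 0)) (.leaf (318, 0, 0))) (.node 163 (.leaf (320, 0, 0)) (.leaf (322, 0, 0)))) (.node 166 (.node 165 (.leaf (324, 0, 0)) (.leaf (326, 0, 0))) (.node 167 (.leaf (328, 0, 0)) (.leaf (330, 0, 0))))) (.node 172 (.node 170 (.node 169 (.leaf (332, 0, 0)) (.leaf (334, 0, 0))) (.node 171 (.leaf (336, 0, 0)) (.leaf (338, 0, 0)))) (.node 174 (.node 173 (.leaf (340, 0, 0)) (.leaf (342, 0, 0))) (.node 175 (.leaf (344, 0, 0)) (.leaf (346, 0, 0)))))) (.node 184 (.node 180 (.node 178 (.node 177 (.leaf (348, 0, 0)) (.leaf (350, 0, 0))) (.node 179 (.leaf (351, 0, 0)) (.leaf (353, 0, 0)))) (.node 182 (.node 181 (.leaf (355, 0, 0)) (.leaf (357, 0, 0))) (.node 183 (.leaf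 (359, 0, 0)) (.leaf (361, 0, 0))))) (.node 188 (.node 186 (.node 185 (.leaf (362, 0, 0)) (.leaf (364, 0, 0))) (.node 187 (.leaf (366, 0, 0)) (.leaf (368, 0, 0)))) (.node 190 (.node 189 (.leaf (370, 0, 0)) (.leaf (372, 0, 0))) (.node 191 (.leaf (374, 0, 0)) (.leaf (376, 0, 0)))))))

def tEX_6 : BT (ℕ × ℕ × ℕ) := (.node 208 (.node 200 (.node 196 (.node 194 (.node 193 (.leaf (378, 0, 0)) (.leaf (380, 0, 0))) (.node 195 (.leaf (382, 0, 0)) (.leaf (384, 0, 0)))) (.node 198 (.node 197 (.leaf (386, 0, 0)) (.leaf (388, 0, 0))) (.node 199 (.leaf (390, 0, 0)) (.leaf (392, 0, 0))))) (.node 204 (.node 202 (.node 201 (.leaf (394, 0, 0)) (.leaf (393, 39, 74))) (.node 203 (.leaf (397, 0, 0)) (.leaf (399, 0, 0)))) (.node 206 (.node 205 (.leaf (401, 0, 0)) (.leaf (403, 0, 0))) (.node 207 (.leaf (405, 0, 0)) (.leaf (407, 0, 0)))))) (.node 216 (.node 212 (.node 210 (.node 209 (.leaf (409, 0, 0)) (.leaf (411,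 0, 0))) (.node 211 (.leaf (413, 0, 0)) (.leaf (415, 0, 0)))) (.node 214 (.node 213 (.leaf (417, 0, 0)) (.leaf (331, 209, 12))) (.node 215 (.leaf (419, 0, 0)) (.leaf (421, 0, 0))))) (.node 220 (.node 218 (.node 217 (.leaf (423, 0, 0)) (.leaf (425, 0, 0))) (.node 219 (.leaf (427, 0, 0)) (.leaf (429, 0, 0)))) (.node 222 (.node 221 (.leaf (431, 0, 0)) (.leaf (433, 0, 0))) (.node 223 (.leaf (434, 0, 0)) (.leaf (436, 0, 0)))))))

def tEX_7 : BT (ℕ × ℕ × ℕ) := (.node 240 (.node 232 (.node 228 (.node 226 (.node 225 (.leaf (438, 0, 0)) (.leaf (440, 0, 0))) (.node 227 (.leaf (441, 43, 7)) (.leaf (443, 0, 0)))) (.node 230 (.node 229 (.leaf (445, 0, 0)) (.leaf (447, 0, 0))) (.node 231 (.leaf (449, 0, 0)) (.leaf (451, 0, 0))))) (.node 236 (.node 234 (.node 233 (.leaf (453, 0, 0)) (.leaf (455, 0, 0))) (.node 235 (.leaf (457, 0, 0)) (.leaf (459, 0, 0)))) (.node 238 (.node 237 (.leaf (461, 0, 0)) (.leaf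 (463, 0, 0))) (.node 239 (.leaf (464, 0, 0)) (.leaf (466, 0, 0)))))) (.node 248 (.node 244 (.node 242 (.node 241 (.leaf (232, 143, 3)) (.leaf (469, 0, 0))) (.node 243 (.leaf (471, 0, 0)) (.leaf (473, 0, 0)))) (.node 246 (.node 245 (.leaf (475, 0, 0)) (.leaf (477, 0, 0))) (.node 247 (.leaf (479, 0, 0)) (.leaf (481, 0, 0))))) (.node 252 (.node 250 (.node 249 (.leaf (483, 0, 0)) (.leaf (485, 0, 0))) (.node 251 (.leaf (487, 0, 0)) (.leaf (489, 0, 0)))) (.node 254 (.node 253 (.leaf (491, 0, 0)) (.leaf (493, 0, 0))) (.node 255 (.leaf (495, 0, 0)) (.leaf (497, 0, 0)))))))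

def tEX_8 : BT (ℕ × ℕ × ℕ) := (.node 272 (.node 264 (.node 260 (.node 258 (.node 257 (.leaf (499, 0, 0)) (.leaf (501, 0, 0))) (.node 259 (.leaf (503, 0, 0)) (.leaf (505, 0, 0)))) (.node 262 (.node 261 (.leaf (507, 0, 0)) (.leaf (509, 0, 0))) (.node 263 (.leaf (511, 0, 0)) (.leaf (513, 0, 0))))) (.node 268 (.node 266 (.node 265 (.leaf (514, 0, 0)) (.leaf (516, 0, 0))) (.node 267 (.leaf (518, 0, 0)) (.leaf (520, 0, 0)))) (.node 270 (.node 269 (.leaf (522, 0, 0)) (.leaf (524, 0, 0))) (.node 271 (.leaf (526, 0, 0)) (.leaf (528, 0, 0)))))) (.node 280 (.node 276 (.node 274 (.node 273 (.leaf (530, 0, 0)) (.leaf (532, 0, 0))) (.node 275 (.leaf (534, 0, 0)) (.leaf (536, 0, 0)))) (.node 278 (.node 277 (.leaf (83, 239, 23)) (.leaf (539, 0, 0))) (.node 279 (.leaf (541, 0, 0)) (.leaf (543, 0, 0))))) (.node 284 (.node 282 (.node 281 (.leaf (545, 0, 0)) (.leaf (547, 0, 0))) (.node 283 (.leaf (549, 0, 0))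 (.leaf (551, 0, 0)))) (.node 286 (.node 285 (.leaf (553, 0, 0)) (.leaf (555, 0, 0))) (.node 287 (.leaf (557, 0, 0)) (.leaf (559, 0, 0)))))))

def tEX_9 : BT (ℕ × ℕ × ℕ) := (.node 304 (.node 296 (.node 292 (.node 290 (.node 289 (.leaf (561, 0, 0)) (.leaf (563, 0, 0))) (.node 291 (.leaf (565, 0, 0)) (.leaf (567, 0, 0)))) (.node 294 (.node 293 (.leaf (569, 0, 0)) (.leaf (571, 0, 0))) (.node 295 (.leaf (573, 0, 0)) (.leaf (574, 0, 0))))) (.node 300 (.node 298 (.node 297 (.leaf (576, 0, 0)) (.leaf (578, 0, 0))) (.node 299 (.leaf (580, 0, 0)) (.leaf (582, 0, 0)))) (.node 302 (.node 301 (.leaf (584, 0, 0)) (.leaf (586, 0, 0))) (.node 303 (.leaf (588, 0, 0)) (.leaf (590, 0, 0)))))) (.node 312 (.node 308 (.node 306 (.node 305 (.leaf (592, 0, 0)) (.leaf (365, 138, 70))) (.node 307 (.leaf (595, 0, 0)) (.leaf (597, 0, 0)))) (.node 310 (.node 309 (.leaf (598, 0, 0)) (.leaf (599, 0, 0))) (.node 311 (.leaf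 (601, 0, 0)) (.leaf (45, 208, 14))))) (.node 316 (.node 314 (.node 313 (.leaf (319, 267, 89)) (.leaf (604, 0, 0))) (.node 315 (.leaf (605, 0, 0)) (.leaf (607, 0, 0)))) (.node 318 (.node 317 (.leaf (609, 0, 0)) (.leaf (611, 0, 0))) (.node 319 (.leaf (613, 0, 0)) (.leaf (615, 0, 0)))))))

def tEX_10 : BT (ℕ × ℕ × ℕ) := (.node 336 (.node 328 (.node 324 (.node 322 (.node 321 (.leaf (617, 0, 0)) (.leaf (619, 0, 0))) (.node 323 (.leaf (621, 0, 0)) (.leaf (623, 0, 0)))) (.node 326 (.node 325 (.leaf (625, 0, 0)) (.leaf (627, 0, 0))) (.node 327 (.leaf (629, 0, 0)) (.leaf (568, 202, 76))))) (.node 332 (.node 330 (.node 329 (.leaf (632, 0, 0)) (.leaf (634, 0, 0))) (.node 331 (.leaf (636, 0, 0)) (.leaf (638, 0, 0)))) (.node 334 (.node 333 (.leaf (640, 0, 0)) (.leaf (642, 0, 0))) (.node 335 (.leaf (644, 0, 0)) (.leaf (646, 0, 0)))))) (.node 344 (.node 340 (.node 338 (.node 337 (.leaf (648, 0, 0)) (.leaf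 (650, 0, 0))) (.node 339 (.leaf (652, 0, 0)) (.leaf (654, 0, 0)))) (.node 342 (.node 341 (.leaf (656, 0, 0)) (.leaf (658, 0, 0))) (.node 343 (.leaf (660, 0, 0)) (.leaf (662, 0, 0))))) (.node 348 (.node 346 (.node 345 (.leaf (664, 0, 0)) (.leaf (666, 0, 0))) (.node 347 (.leaf (668, 0, 0)) (.leaf (670, 0, 0)))) (.node 350 (.node 349 (.leaf (672, 0, 0)) (.leaf (674, 0, 0))) (.node 351 (.leaf (676, 0, 0)) (.leaf (678, 0, 0)))))))

def tEX_11 : BT (ℕ × ℕ × ℕ) := (.node 368 (.node 360 (.node 356 (.node 354 (.node 353 (.leaf (680, 0, 0)) (.leaf (682, 0, 0))) (.node 355 (.leaf (684, 0, 0)) (.leaf (686, 0, 0)))) (.node 358 (.node 357 (.leaf (688, 0, 0)) (.leaf (690, 0, 0))) (.node 359 (.leaf (692, 0, 0)) (.leaf (693, 0, 0))))) (.node 364 (.node 362 (.node 361 (.leaf (695, 0, 0)) (.leaf (697, 0, 0))) (.node 363 (.leaf (699, 0, 0)) (.leaf (701, 0, 0)))) (.node 366 (.node 365 (.leaf (702, 0, 0)) (.leaf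 (704, 0, 0))) (.node 367 (.leaf (706, 0, 0)) (.leaf (708, 0, 0)))))) (.node 376 (.node 372 (.node 370 (.node 369 (.leaf (710, 0, 0)) (.leaf (712, 0, 0))) (.node 371 (.leaf (714, 0, 0)) (.leaf (716, 0, 0)))) (.node 374 (.node 373 (.leaf (718, 0, 0)) (.leaf (720, 0, 0))) (.node 375 (.leaf (722, 0, 0)) (.leaf (724, 0, 0))))) (.node 380 (.node 378 (.node 377 (.leaf (726, 0, 0)) (.leaf (728, 0, 0))) (.node 379 (.leaf (730, 0, 0)) (.leaf (732, 0, 0)))) (.node 382 (.node 381 (.leaf (734, 0, 0)) (.leaf (736, 0, 0))) (.node 383 (.leaf (738, 0, 0)) (.leaf (740, 0, 0)))))))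

def tEX_12 : BT (ℕ × ℕ × ℕ) := (.node 400 (.node 392 (.node 388 (.node 386 (.node 385 (.leaf (742, 0, 0)) (.leaf (484, 176, 9))) (.node 387 (.leaf (744, 0, 0)) (.leaf (746, 0, 0)))) (.node 390 (.node 389 (.leaf (748, 0, 0)) (.leaf (750, 0, 0))) (.node 391 (.leaf (751, 0, 0)) (.leaf (753, 0, 0))))) (.node 396 (.node 394 (.node 393 (.leaf (755, 0, 0)) (.leaf (757, 0, 0))) (.node 395 (.leaf (759, 0, 0)) (.leaf (761, 0, 0)))) (.node 398 (.node 397 (.leaf (763, 0, 0)) (.leaf (765, 0, 0))) (.node 399 (.leaf (767, 0, 0)) (.leaf (769, 0, 0)))))) (.node 408 (.node 404 (.node 402 (.node 401 (.leaf (771, 0, 0)) (.leaf (773, 0, 0))) (.node 403 (.leaf (775, 0, 0)) (.leaf (768, 193, 70)))) (.node 406 (.node 405 (.leaf (778, 0, 0)) (.leaf (780, 0, 0))) (.node 407 (.leaf (782, 0, 0)) (.leaf (784, 0, 0))))) (.node 412 (.node 410 (.node 409 (.leaf (786, 0, 0)) (.leaf (788, 0, 0))) (.node 411 (.leaf (790,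 0, 0)) (.leaf (792, 0, 0)))) (.node 414 (.node 413 (.leaf (236, 48, 74)) (.leaf (795, 0, 0))) (.node 415 (.leaf (797, 0, 0)) (.leaf (799, 0, 0)))))))

def tEX_13 : BT (ℕ × ℕ × ℕ) := (.node 432 (.node 424 (.node 420 (.node 418 (.node 417 (.leaf (801, 0, 0)) (.leaf (803, 0, 0))) (.node 419 (.leaf (805, 0, 0)) (.leaf (806, 0, 0)))) (.node 422 (.node 421 (.leaf (808, 0, 0)) (.leaf (810, 0, 0))) (.node 423 (.leaf (812, 0, 0)) (.leaf (814, 0, 0))))) (.node 428 (.node 426 (.node 425 (.leaf (432, 176, 25)) (.leaf (817, 0, 0))) (.node 427 (.leaf (819, 0, 0)) (.leaf (821, 0, 0)))) (.node 430 (.node 429 (.leaf (823, 0, 0)) (.leaf (825, 0, 0))) (.node 431 (.leaf (827, 0, 0)) (.leaf (829, 0, 0)))))) (.node 440 (.node 436 (.node 434 (.node 433 (.leaf (831, 0, 0)) (.leaf (833, 0, 0))) (.node 435 (.leaf (834, 0, 0)) (.leaf (836, 0, 0)))) (.node 438 (.node 437 (.leaf (838, 0, 0)) (.leaf (840, 0, 0))) (.node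 439 (.leaf (842, 0, 0)) (.leaf (844, 0, 0))))) (.node 444 (.node 442 (.node 441 (.leaf (846, 0, 0)) (.leaf (848, 0, 0))) (.node 443 (.leaf (850, 0, 0)) (.leaf (851, 0, 0)))) (.node 446 (.node 445 (.leaf (853, 0, 0)) (.leaf (855, 0, 0))) (.node 447 (.leaf (857, 0, 0)) (.leaf (859, 0, 0)))))))

def tEX_14 : BT (ℕ × ℕ × ℕ) := (.node 464 (.node 456 (.node 452 (.node 450 (.node 449 (.leaf (861, 0, 0)) (.leaf (863, 0, 0))) (.node 451 (.leaf (865, 0, 0)) (.leaf (867, 0, 0)))) (.node 454 (.node 453 (.leaf (869, 0, 0)) (.leaf (871, 0, 0))) (.node 455 (.leaf (873, 0, 0)) (.leaf (874, 0, 0))))) (.node 460 (.node 458 (.node 457 (.leaf (875, 0, 0)) (.leaf (877, 0, 0))) (.node 459 (.leaf (879, 0, 0)) (.leaf (881, 0, 0)))) (.node 462 (.node 461 (.leaf (882, 0, 0)) (.leaf (884, 0, 0))) (.node 463 (.leaf (886, 0, 0)) (.leaf (888, 0, 0)))))) (.node 472 (.node 468 (.node 466 (.node 465 (.leaf (890, 0, 0)) (.leaf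 (703, 248, 57))) (.node 467 (.leaf (892, 0, 0)) (.leaf (894, 0, 0)))) (.node 470 (.node 469 (.leaf (896, 0, 0)) (.leaf (898, 0, 0))) (.node 471 (.leaf (900, 0, 0)) (.leaf (347, 128, 14))))) (.node 476 (.node 474 (.node 473 (.leaf (903, 0, 0)) (.leaf (905, 0, 0))) (.node 475 (.leaf (907, 0, 0)) (.leaf (426, 140, 67)))) (.node 478 (.node 477 (.leaf (815, 144, 47)) (.leaf (911, 0, 0))) (.node 479 (.leaf (169, 235, 17)) (.leaf (913, 0, 0)))))))

def tEX_15 : BT (ℕ × ℕ × ℕ) := (.node 496 (.node 488 (.node 484 (.node 482 (.node 481 (.leaf (915, 0, 0)) (.leaf (917, 0, 0))) (.node 483 (.leaf (918, 0, 0)) (.leaf (920, 0, 0)))) (.node 486 (.node 485 (.leaf (922, 0, 0)) (.leaf (924, 0, 0))) (.node 487 (.leaf (926, 0, 0)) (.leaf (928, 0, 0))))) (.node 492 (.node 490 (.node 489 (.leaf (930, 0, 0)) (.leaf (932, 0, 0))) (.node 491 (.leaf (828, 93, 54)) (.leaf (935, 0, 0)))) (.node 494 (.node 493 (.leaf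 (937, 0, 0)) (.leaf (939, 0, 0))) (.node 495 (.leaf (826, 210, 70)) (.leaf (941, 0, 0)))))) (.node 504 (.node 500 (.node 498 (.node 497 (.leaf (943, 0, 0)) (.leaf (945, 0, 0))) (.node 499 (.leaf (947, 0, 0)) (.leaf (949, 0, 0)))) (.node 502 (.node 501 (.leaf (950, 0, 0)) (.leaf (952, 0, 0))) (.node 503 (.leaf (954, 0, 0)) (.leaf (283, 38, 64))))) (.node 508 (.node 506 (.node 505 (.leaf (957, 0, 0)) (.leaf (959, 0, 0))) (.node 507 (.leaf (961, 0, 0)) (.leaf (963, 0, 0)))) (.node 510 (.node 509 (.leaf (965, 0, 0)) (.leaf (967, 0, 0))) (.node 511 (.leaf (969, 0, 0)) (.leaf (971, 0, 0)))))))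

def tEX_16 : BT (ℕ × ℕ × ℕ) := (.node 528 (.node 520 (.node 516 (.node 514 (.node 513 (.leaf (973, 0, 0)) (.leaf (764, 225, 62))) (.node 515 (.leaf (976, 0, 0)) (.leaf (978, 0, 0)))) (.node 518 (.node 517 (.leaf (980, 0, 0)) (.leaf (982, 0, 0))) (.node 519 (.leaf (741, 246, 67)) (.leaf (984, 0, 0))))) (.node 524 (.node 522 (.node 521 (.leaf (986, 0, 0)) (.leaf (193, 153, 13))) (.node 523 (.leaf (989, 0, 0)) (.leaf (991, 0, 0)))) (.node 526 (.node 525 (.leaf (993, 0, 0)) (.leaf (995, 0, 0))) (.node 527 (.leaf (997, 0, 0)) (.leaf (999, 0, 0)))))) (.node 536 (.node 532 (.node 530 (.node 529 (.leaf (1001, 0, 0)) (.leaf (1003, 0, 0))) (.node 531 (.leaf (1005, 0, 0)) (.leaf (1007, 0, 0)))) (.node 534 (.node 533 (.leaf (1009, 0, 0)) (.leaf (1011, 0, 0))) (.node 535 (.leaf (1012, 0, 0)) (.leaf (1014, 0, 0))))) (.node 540 (.node 538 (.node 537 (.leaf (1016, 0, 0)) (.leaf (1018, 0, 0))) (.node 539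 (.leaf (1019, 0, 0)) (.leaf (1021, 0, 0)))) (.node 542 (.node 541 (.leaf (1023, 0, 0)) (.leaf (1025, 0, 0))) (.node 543 (.leaf (1027, 0, 0)) (.leaf (556, 170, 46)))))))

def tEX_17 : BT (ℕ × ℕ × ℕ) := (.node 560 (.node 552 (.node 548 (.node 546 (.node 545 (.leaf (1030, 0, 0)) (.leaf (1032, 0, 0))) (.node 547 (.leaf (1034, 0, 0)) (.leaf (1036, 0, 0)))) (.node 550 (.node 549 (.leaf (1038, 0, 0)) (.leaf (1040, 0, 0))) (.node 551 (.leaf (1042, 0, 0)) (.leaf (1044, 0, 0))))) (.node 556 (.node 554 (.node 553 (.leaf (1045, 0, 0)) (.leaf (1047, 0, 0))) (.node 555 (.leaf (1049, 0, 0)) (.leaf (1051, 0, 0)))) (.node 558 (.node 557 (.leaf (1053, 0, 0)) (.leaf (1054, 0, 0))) (.node 559 (.leaf (1055, 0, 0)) (.leaf (1057, 0, 0)))))) (.node 568 (.node 564 (.node 562 (.node 561 (.leaf (1059, 0, 0)) (.leaf (1061, 0, 0))) (.node 563 (.leaf (1063, 0, 0)) (.leaf (1065, 0, 0)))) (.node 566 (.node 565 (.leaf (1067,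 0, 0)) (.leaf (1069, 0, 0))) (.node 567 (.leaf (1071, 0, 0)) (.leaf (1073, 0, 0))))) (.node 572 (.node 570 (.node 569 (.leaf (1075, 0, 0)) (.leaf (1077, 0, 0))) (.node 571 (.leaf (1079, 0, 0)) (.leaf (1080, 0, 0)))) (.node 574 (.node 573 (.leaf (1082, 0, 0)) (.leaf (1084, 0, 0))) (.node 575 (.leaf (719, 146, 43)) (.leaf (1087, 0, 0)))))))

def tEX_18 : BT (ℕ × ℕ × ℕ) := (.node 592 (.node 584 (.node 580 (.node 578 (.node 577 (.leaf (1089, 0, 0)) (.leaf (985, 199, 79))) (.node 579 (.leaf (1091, 0, 0)) (.leaf (1093, 0, 0)))) (.node 582 (.node 581 (.leaf (1095, 0, 0)) (.leaf (1097, 0, 0))) (.node 583 (.leaf (1099, 0, 0)) (.leaf (1101, 0, 0))))) (.node 588 (.node 586 (.node 585 (.leaf (1103, 0, 0)) (.leaf (1105, 0, 0))) (.node 587 (.leaf (1107, 0, 0)) (.leaf (1109, 0, 0)))) (.node 590 (.node 589 (.leaf (1111, 0, 0)) (.leaf (1113, 0, 0))) (.node 591 (.leaf (1115, 0, 0)) (.leaf (1117, 0, 0))))))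 (.node 600 (.node 596 (.node 594 (.node 593 (.leaf (1119, 0, 0)) (.leaf (1121, 0, 0))) (.node 595 (.leaf (1123, 0, 0)) (.leaf (1125, 0, 0)))) (.node 598 (.node 597 (.leaf (1127, 0, 0)) (.leaf (1129, 0, 0))) (.node 599 (.leaf (1131, 0, 0)) (.leaf (1133, 0, 0))))) (.node 604 (.node 602 (.node 601 (.leaf (1135, 0, 0)) (.leaf (1137, 0, 0))) (.node 603 (.leaf (1139, 0, 0)) (.leaf (1141, 0, 0)))) (.node 606 (.node 605 (.leaf (1120, 22, 89)) (.leaf (1143, 0, 0))) (.node 607 (.leaf (620, 215, 63)) (.leaf (1145, 0, 0)))))))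

def tEX_19 : BT (ℕ × ℕ × ℕ) := (.node 624 (.node 616 (.node 612 (.node 610 (.node 609 (.leaf (1147, 0, 0)) (.leaf (1149, 0, 0))) (.node 611 (.leaf (1150, 0, 0)) (.leaf (1152, 0, 0)))) (.node 614 (.node 613 (.leaf (1154, 0, 0)) (.leaf (1156, 0, 0))) (.node 615 (.leaf (1157, 0, 0)) (.leaf (1159, 0, 0))))) (.node 620 (.node 618 (.node 617 (.leaf (1161, 0, 0)) (.leaf (1162, 0, 0))) (.node 619 (.leaf (1050, 204, 23)) (.leaf (1165, 0, 0)))) (.node 622 (.node 621 (.leaf (904, 15, 56)) (.leaf (1168, 0, 0))) (.node 623 (.leaf (1170, 0, 0)) (.leaf (1172, 0, 0)))))) (.node 632 (.node 628 (.node 626 (.node 625 (.leaf (696, 205, 17)) (.leaf (1175, 0, 0))) (.node 627 (.leaf (1177, 0, 0)) (.leaf (1179, 0, 0)))) (.node 630 (.node 629 (.leaf (1181, 0, 0)) (.leaf (1182, 0, 0))) (.node 631 (.leaf (1184, 0, 0)) (.leaf (1186, 0, 0))))) (.node 636 (.node 634 (.node 633 (.leaf (1188, 0, 0)) (.leaf (1167, 205,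 72))) (.node 635 (.leaf (1191, 0, 0)) (.leaf (1193, 0, 0)))) (.node 638 (.node 637 (.leaf (1195, 0, 0)) (.leaf (278, 126, 27))) (.node 639 (.leaf (1198, 0, 0)) (.leaf (0, 59, 64)))))))

def tEX_20 : BT (ℕ × ℕ × ℕ) := (.node 656 (.node 648 (.node 644 (.node 642 (.node 641 (.leaf (1201, 0, 0)) (.leaf (1164, 90, 60))) (.node 643 (.leaf (1204, 0, 0)) (.leaf (1206, 0, 0)))) (.node 646 (.node 645 (.leaf (1208, 0, 0)) (.leaf (1210, 0, 0))) (.node 647 (.leaf (1212, 0, 0)) (.leaf (1214, 0, 0))))) (.node 652 (.node 650 (.node 649 (.leaf (1216, 0, 0)) (.leaf (1218, 0, 0))) (.node 651 (.leaf (1220, 0, 0)) (.leaf (1222, 0, 0)))) (.node 654 (.node 653 (.leaf (936, 142, 43)) (.leaf (802, 39, 1))) (.node 655 (.leaf (1226, 0, 0)) (.leaf (1228, 0, 0)))))) (.node 664 (.node 660 (.node 658 (.node 657 (.leaf (1230, 0, 0)) (.leaf (564, 76, 43))) (.node 659 (.leaf (1233, 0, 0)) (.leaf (1235, 0, 0)))) (.node 662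 (.node 661 (.leaf (1236, 0, 0)) (.leaf (1238, 0, 0))) (.node 663 (.leaf (1239, 0, 0)) (.leaf (1241, 0, 0))))) (.node 668 (.node 666 (.node 665 (.leaf (1243, 0, 0)) (.leaf (1245, 0, 0))) (.node 667 (.leaf (1247, 0, 0)) (.leaf (1248, 0, 0)))) (.node 670 (.node 669 (.leaf (1250, 0, 0)) (.leaf (1252, 0, 0))) (.node 671 (.leaf (860, 193, 65)) (.leaf (1255, 0, 0)))))))

def tEX_21 : BT (ℕ × ℕ × ℕ) := (.node 688 (.node 680 (.node 676 (.node 674 (.node 673 (.leaf (1257, 0, 0)) (.leaf (1259, 0, 0))) (.node 675 (.leaf (1261, 0, 0)) (.leaf (1263, 0, 0)))) (.node 678 (.node 677 (.leaf (1265, 0, 0)) (.leaf (1267, 0, 0))) (.node 679 (.leaf (1269, 0, 0)) (.leaf (1271, 0, 0))))) (.node 684 (.node 682 (.node 681 (.leaf (1273, 0, 0)) (.leaf (1275, 0, 0))) (.node 683 (.leaf (1277, 0, 0)) (.leaf (1279, 0, 0)))) (.node 686 (.node 685 (.leaf (1281, 0, 0)) (.leaf (1283, 0, 0))) (.node 687 (.leaf (1217, 109, 74))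 (.leaf (1286, 0, 0)))))) (.node 696 (.node 692 (.node 690 (.node 689 (.leaf (1288, 0, 0)) (.leaf (1290, 0, 0))) (.node 691 (.leaf (1292, 0, 0)) (.leaf (1294, 0, 0)))) (.node 694 (.node 693 (.leaf (213, 250, 19)) (.leaf (1296, 0, 0))) (.node 695 (.leaf (1298, 0, 0)) (.leaf (1207, 170, 86))))) (.node 700 (.node 698 (.node 697 (.leaf (1301, 0, 0)) (.leaf (1302, 0, 0))) (.node 699 (.leaf (1304, 0, 0)) (.leaf (1306, 0, 0)))) (.node 702 (.node 701 (.leaf (1151, 206, 31)) (.leaf (1309, 0, 0))) (.node 703 (.leaf (1311, 0, 0)) (.leaf (1313, 0, 0)))))))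

def tEX_22 : BT (ℕ × ℕ × ℕ) := (.node 720 (.node 712 (.node 708 (.node 706 (.node 705 (.leaf (1315, 0, 0)) (.leaf (1317, 0, 0))) (.node 707 (.leaf (1319, 0, 0)) (.leaf (1321, 0, 0)))) (.node 710 (.node 709 (.leaf (1323, 0, 0)) (.leaf (1325, 0, 0))) (.node 711 (.leaf (1327, 0, 0)) (.leaf (1329, 0, 0))))) (.node 716 (.node 714 (.node 713 (.leaf (1331, 0, 0)) (.leaf (1332, 0, 0))) (.node 715 (.leaf (1334, 0, 0)) (.leaf (1336, 0, 0)))) (.node 718 (.node 717 (.leaf (1338, 0, 0)) (.leaf (1340, 0, 0))) (.node 719 (.leaf (1342, 0, 0)) (.leaf (1344, 0, 0)))))) (.node 728 (.node 724 (.node 722 (.node 721 (.leaf (1346, 0, 0)) (.leaf (1262, 238, 4))) (.node 723 (.leaf (1349, 0, 0)) (.leaf (1351, 0, 0)))) (.node 726 (.node 725 (.leaf (1353, 0, 0)) (.leaf (1355, 0, 0))) (.node 727 (.leaf (1357, 0, 0)) (.leaf (1359, 0, 0))))) (.node 732 (.node 730 (.node 729 (.leaf (1361, 0, 0)) (.leaf (1363, 0, 0))) (.node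 731 (.leaf (1365, 0, 0)) (.leaf (1367, 0, 0)))) (.node 734 (.node 733 (.leaf (1369, 0, 0)) (.leaf (1371, 0, 0))) (.node 735 (.leaf (1373, 0, 0)) (.leaf (1375, 0, 0)))))))

def tEX_23 : BT (ℕ × ℕ × ℕ) := (.node 752 (.node 744 (.node 740 (.node 738 (.node 737 (.leaf (1377, 0, 0)) (.leaf (1379, 0, 0))) (.node 739 (.leaf (242, 80, 66)) (.leaf (1382, 0, 0)))) (.node 742 (.node 741 (.leaf (398, 102, 41)) (.leaf (1385, 0, 0))) (.node 743 (.leaf (502, 199, 24)) (.leaf (1388, 0, 0))))) (.node 748 (.node 746 (.node 745 (.leaf (1390, 0, 0)) (.leaf (1392, 0, 0))) (.node 747 (.leaf (1394, 0, 0)) (.leaf (1396, 0, 0)))) (.node 750 (.node 749 (.leaf (1398, 0, 0)) (.leaf (1400, 0, 0))) (.node 751 (.leaf (1402, 0, 0)) (.leaf (1403, 0, 0)))))) (.node 760 (.node 756 (.node 754 (.node 753 (.leaf (1405, 0, 0)) (.leaf (1407, 0, 0))) (.node 755 (.leaf (1409, 0, 0)) (.leaf (1411, 0, 0)))) (.node 758 (.node 757 (.leaf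 (1189, 221, 36)) (.leaf (1414, 0, 0))) (.node 759 (.leaf (1416, 0, 0)) (.leaf (1418, 0, 0))))) (.node 764 (.node 762 (.node 761 (.leaf (1420, 0, 0)) (.leaf (1422, 0, 0))) (.node 763 (.leaf (1424, 0, 0)) (.leaf (1426, 0, 0)))) (.node 766 (.node 765 (.leaf (1427, 0, 0)) (.leaf (1429, 0, 0))) (.node 767 (.leaf (1430, 0, 0)) (.leaf (1432, 0, 0)))))))

def tEX_24 : BT (ℕ × ℕ × ℕ) := (.node 784 (.node 776 (.node 772 (.node 770 (.node 769 (.leaf (1310, 204, 31)) (.leaf (1435, 0, 0))) (.node 771 (.leaf (1437, 0, 0)) (.leaf (1439, 0, 0)))) (.node 774 (.node 773 (.leaf (1441, 0, 0)) (.leaf (1442, 0, 0))) (.node 775 (.leaf (1444, 0, 0)) (.leaf (1446, 0, 0))))) (.node 780 (.node 778 (.node 777 (.leaf (1448, 0, 0)) (.leaf (1450, 0, 0))) (.node 779 (.leaf (1452, 0, 0)) (.leaf (1454, 0, 0)))) (.node 782 (.node 781 (.leaf (1456, 0, 0)) (.leaf (1458, 0, 0))) (.node 783 (.leaf (1460, 0, 0)) (.leaf (1462, 0,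 0)))))) (.node 792 (.node 788 (.node 786 (.node 785 (.leaf (1464, 0, 0)) (.leaf (1465, 0, 0))) (.node 787 (.leaf (1467, 0, 0)) (.leaf (1469, 0, 0)))) (.node 790 (.node 789 (.leaf (1471, 0, 0)) (.leaf (1473, 0, 0))) (.node 791 (.leaf (337, 121, 14)) (.leaf (369, 191, 34))))) (.node 796 (.node 794 (.node 793 (.leaf (1476, 0, 0)) (.leaf (1478, 0, 0))) (.node 795 (.leaf (1480, 0, 0)) (.leaf (1482, 0, 0)))) (.node 798 (.node 797 (.leaf (1484, 0, 0)) (.leaf (1485, 0, 0))) (.node 799 (.leaf (1487, 0, 0)) (.leaf (1489, 0, 0)))))))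

def tEX_25 : BT (ℕ × ℕ × ℕ) := (.node 816 (.node 808 (.node 804 (.node 802 (.node 801 (.leaf (1491, 0, 0)) (.leaf (1492, 0, 0))) (.node 803 (.leaf (1493, 0, 0)) (.leaf (1495, 0, 0)))) (.node 806 (.node 805 (.leaf (1497, 0, 0)) (.leaf (1499, 0, 0))) (.node 807 (.leaf (1501, 0, 0)) (.leaf (1503, 0, 0))))) (.node 812 (.node 810 (.node 809 (.leaf (1505, 0, 0)) (.leaf (1507, 0, 0))) (.node 811 (.leaf (1509, 0, 0)) (.leaf (789, 25, 16)))) (.node 814 (.node 813 (.leaf (1512, 0, 0)) (.leaf (1513, 0, 0))) (.node 815 (.leaf (804, 83, 51)) (.leaf (1516, 0, 0)))))) (.node 824 (.node 820 (.node 818 (.node 817 (.leaf (1518, 0, 0)) (.leaf (1520, 0, 0))) (.node 819 (.leaf (67, 139, 64)) (.leaf (1522, 0, 0)))) (.node 822 (.node 821 (.leaf (1524, 0, 0)) (.leaf (1526, 0, 0))) (.node 823 (.leaf (1528, 0, 0)) (.leaf (1530, 0, 0))))) (.node 828 (.node 826 (.node 825 (.leaf (1532, 0, 0)) (.leaf (1534, 0, 0)))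 (.node 827 (.leaf (1536, 0, 0)) (.leaf (1538, 0, 0)))) (.node 830 (.node 829 (.leaf (1540, 0, 0)) (.leaf (1542, 0, 0))) (.node 831 (.leaf (1544, 0, 0)) (.leaf (1546, 0, 0)))))))

def tEX_26 : BT (ℕ × ℕ × ℕ) := (.node 848 (.node 840 (.node 836 (.node 834 (.node 833 (.leaf (1548, 0, 0)) (.leaf (1278, 34, 1))) (.node 835 (.leaf (1550, 0, 0)) (.leaf (1552, 0, 0)))) (.node 838 (.node 837 (.leaf (1554, 0, 0)) (.leaf (1555, 0, 0))) (.node 839 (.leaf (1557, 0, 0)) (.leaf (1559, 0, 0))))) (.node 844 (.node 842 (.node 841 (.leaf (1561, 0, 0)) (.leaf (1563, 0, 0))) (.node 843 (.leaf (1565, 0, 0)) (.leaf (1567, 0, 0)))) (.node 846 (.node 845 (.leaf (1568, 0, 0)) (.leaf (1570, 0, 0))) (.node 847 (.leaf (1572, 0, 0)) (.leaf (1574, 0, 0)))))) (.node 856 (.node 852 (.node 850 (.node 849 (.leaf (1576, 0, 0)) (.leaf (1578, 0, 0))) (.node 851 (.leaf (1580, 0, 0)) (.leaf (1386, 169, 89)))) (.node 854 (.node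 853 (.leaf (1582, 0, 0)) (.leaf (1584, 0, 0))) (.node 855 (.leaf (1586, 0, 0)) (.leaf (1588, 0, 0))))) (.node 860 (.node 858 (.node 857 (.leaf (1590, 0, 0)) (.leaf (1592, 0, 0))) (.node 859 (.leaf (228, 47, 25)) (.leaf (1595, 0, 0)))) (.node 862 (.node 861 (.leaf (1158, 168, 0)) (.leaf (1598, 0, 0))) (.node 863 (.leaf (1600, 0, 0)) (.leaf (1253, 57, 30)))))))

def tEX_27 : BT (ℕ × ℕ × ℕ) := (.node 880 (.node 872 (.node 868 (.node 866 (.node 865 (.leaf (1602, 0, 0)) (.leaf (1604, 0, 0))) (.node 867 (.leaf (1606, 0, 0)) (.leaf (1608, 0, 0)))) (.node 870 (.node 869 (.leaf (1610, 0, 0)) (.leaf (1551, 76, 54))) (.node 871 (.leaf (1613, 0, 0)) (.leaf (1615, 0, 0))))) (.node 876 (.node 874 (.node 873 (.leaf (1617, 0, 0)) (.leaf (27, 176, 54))) (.node 875 (.leaf (1620, 0, 0)) (.leaf (1622, 0, 0)))) (.node 878 (.node 877 (.leaf (1623, 0, 0)) (.leaf (758, 76, 13))) (.node 879 (.leaf (1626, 0, 0)) (.leaf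 (1628, 0, 0)))))) (.node 888 (.node 884 (.node 882 (.node 881 (.leaf (1630, 0, 0)) (.leaf (1632, 0, 0))) (.node 883 (.leaf (1634, 0, 0)) (.leaf (1636, 0, 0)))) (.node 886 (.node 885 (.leaf (1637, 0, 0)) (.leaf (1639, 0, 0))) (.node 887 (.leaf (1258, 217, 58)) (.leaf (1642, 0, 0))))) (.node 892 (.node 890 (.node 889 (.leaf (1644, 0, 0)) (.leaf (1646, 0, 0))) (.node 891 (.leaf (1648, 0, 0)) (.leaf (1650, 0, 0)))) (.node 894 (.node 893 (.leaf (1652, 0, 0)) (.leaf (1519, 199, 79))) (.node 895 (.leaf (1655, 0, 0)) (.leaf (1656, 0, 0)))))))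

def tEX_28 : BT (ℕ × ℕ × ℕ) := (.node 912 (.node 904 (.node 900 (.node 898 (.node 897 (.leaf (1658, 0, 0)) (.leaf (1660, 0, 0))) (.node 899 (.leaf (864, 161, 73)) (.leaf (1663, 0, 0)))) (.node 902 (.node 901 (.leaf (1665, 0, 0)) (.leaf (1667, 0, 0))) (.node 903 (.leaf (1669, 0, 0)) (.leaf (1671, 0, 0))))) (.node 908 (.node 906 (.node 905 (.leaf (1673, 0, 0)) (.leaf (280, 87, 25))) (.node 907 (.leaf (1674, 0, 0)) (.leaf (1676, 0, 0)))) (.node 910 (.node 909 (.leaf (1678, 0, 0)) (.leaf (1680, 0, 0))) (.node 911 (.leaf (1682, 0, 0)) (.leaf (1684, 0, 0)))))) (.node 920 (.node 916 (.node 914 (.node 913 (.leaf (1686, 0, 0)) (.leaf (1688, 0, 0))) (.node 915 (.leaf (1690, 0, 0)) (.leaf (1692, 0, 0)))) (.node 918 (.node 917 (.leaf (1694, 0, 0)) (.leaf (1696, 0, 0))) (.node 919 (.leaf (1698, 0, 0)) (.leaf (1700, 0, 0))))) (.node 924 (.node 922 (.node 921 (.leaf (1702, 0, 0)) (.leaf (1704, 0, 0)))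 (.node 923 (.leaf (1705, 0, 0)) (.leaf (1706, 0, 0)))) (.node 926 (.node 925 (.leaf (1707, 0, 0)) (.leaf (1709, 0, 0))) (.node 927 (.leaf (1711, 0, 0)) (.leaf (1713, 0, 0)))))))

def tEX_29 : BT (ℕ × ℕ × ℕ) := (.node 944 (.node 936 (.node 932 (.node 930 (.node 929 (.leaf (1715, 0, 0)) (.leaf (1717, 0, 0))) (.node 931 (.leaf (1719, 0, 0)) (.leaf (1721, 0, 0)))) (.node 934 (.node 933 (.leaf (1723, 0, 0)) (.leaf (1725, 0, 0))) (.node 935 (.leaf (1727, 0, 0)) (.leaf (1729, 0, 0))))) (.node 940 (.node 938 (.node 937 (.leaf (1731, 0, 0)) (.leaf (1733, 0, 0))) (.node 939 (.leaf (1223, 115, 51)) (.leaf (1736, 0, 0)))) (.node 942 (.node 941 (.leaf (1714, 27, 10)) (.leaf (1739, 0, 0))) (.node 943 (.leaf (1740, 0, 0)) (.leaf (1737, 218, 87)))))) (.node 952 (.node 948 (.node 946 (.node 945 (.leaf (1743, 0, 0)) (.leaf (1744, 0, 0))) (.node 947 (.leaf (1746, 0, 0)) (.leaf (1748, 0, 0)))) (.node 950 (.node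 949 (.leaf (1750, 0, 0)) (.leaf (1752, 0, 0))) (.node 951 (.leaf (1754, 0, 0)) (.leaf (535, 54, 41))))) (.node 956 (.node 954 (.node 953 (.leaf (1757, 0, 0)) (.leaf (1759, 0, 0))) (.node 955 (.leaf (1761, 0, 0)) (.leaf (1762, 0, 0)))) (.node 958 (.node 957 (.leaf (1764, 0, 0)) (.leaf (1766, 0, 0))) (.node 959 (.leaf (1768, 0, 0)) (.leaf (1770, 0, 0)))))))

def tEX_30 : BT (ℕ × ℕ × ℕ) := (.node 976 (.node 968 (.node 964 (.node 962 (.node 961 (.leaf (1772, 0, 0)) (.leaf (1774, 0, 0))) (.node 963 (.leaf (1440, 233, 64)) (.leaf (1777, 0, 0)))) (.node 966 (.node 965 (.leaf (1779, 0, 0)) (.leaf (1780, 0, 0))) (.node 967 (.leaf (1782, 0, 0)) (.leaf (1784, 0, 0))))) (.node 972 (.node 970 (.node 969 (.leaf (1786, 0, 0)) (.leaf (1788, 0, 0))) (.node 971 (.leaf (1790, 0, 0)) (.leaf (1792, 0, 0)))) (.node 974 (.node 973 (.leaf (1794, 0, 0)) (.leaf (1249, 163, 34))) (.node 975 (.leaf (1797, 0, 0)) (.leaf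 (1799, 0, 0)))))) (.node 984 (.node 980 (.node 978 (.node 977 (.leaf (1801, 0, 0)) (.leaf (1803, 0, 0))) (.node 979 (.leaf (1804, 0, 0)) (.leaf (61, 235, 65)))) (.node 982 (.node 981 (.leaf (1806, 0, 0)) (.leaf (1808, 0, 0))) (.node 983 (.leaf (1810, 0, 0)) (.leaf (1812, 0, 0))))) (.node 988 (.node 986 (.node 985 (.leaf (1814, 0, 0)) (.leaf (1816, 0, 0))) (.node 987 (.leaf (1818, 0, 0)) (.leaf (1820, 0, 0)))) (.node 990 (.node 989 (.leaf (1822, 0, 0)) (.leaf (1823, 0, 0))) (.node 991 (.leaf (1825, 0, 0)) (.leaf (291, 218, 3)))))))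

def tEX_31 : BT (ℕ × ℕ × ℕ) := (.node 1008 (.node 1000 (.node 996 (.node 994 (.node 993 (.leaf (277, 49, 78)) (.leaf (1829, 0, 0))) (.node 995 (.leaf (1490, 5, 72)) (.leaf (1831, 0, 0)))) (.node 998 (.node 997 (.leaf (1833, 0, 0)) (.leaf (916, 79, 23))) (.node 999 (.leaf (1836, 0, 0)) (.leaf (1838, 0, 0))))) (.node 1004 (.node 1002 (.node 1001 (.leaf (1840, 0, 0)) (.leaf (1842, 0, 0))) (.node 1003 (.leaf (1843, 0, 0)) (.leaf (1845, 0, 0)))) (.node 1006 (.node 1005 (.leaf (1847, 0, 0)) (.leaf (1849, 0, 0))) (.node 1007 (.leaf (1851, 0, 0)) (.leaf (1853, 0, 0)))))) (.node 1016 (.node 1012 (.node 1010 (.node 1009 (.leaf (476, 235, 34)) (.leaf (1856, 0, 0))) (.node 1011 (.leaf (1858, 0, 0)) (.leaf (1860, 0, 0)))) (.node 1014 (.node 1013 (.leaf (1861, 0, 0)) (.leaf (1863, 0, 0))) (.node 1015 (.leaf (1864, 0, 0)) (.leaf (1866, 0, 0))))) (.node 1020 (.node 1018 (.node 1017 (.leaf (1868, 0, 0))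 (.leaf (1870, 0, 0))) (.node 1019 (.leaf (1872, 0, 0)) (.leaf (1874, 0, 0)))) (.node 1022 (.node 1021 (.leaf (1875, 0, 0)) (.leaf (1877, 0, 0))) (.node 1023 (.leaf (1879, 0, 0)) (.leaf (1881, 0, 0)))))))

def tEX_32 : BT (ℕ × ℕ × ℕ) := (.node 1040 (.node 1032 (.node 1028 (.node 1026 (.node 1025 (.leaf (1883, 0, 0)) (.leaf (1885, 0, 0))) (.node 1027 (.leaf (1887, 0, 0)) (.leaf (1889, 0, 0)))) (.node 1030 (.node 1029 (.leaf (1891, 0, 0)) (.leaf (1893, 0, 0))) (.node 1031 (.leaf (1895, 0, 0)) (.leaf (1897, 0, 0))))) (.node 1036 (.node 1034 (.node 1033 (.leaf (462, 15, 89)) (.leaf (1900, 0, 0))) (.node 1035 (.leaf (1902, 0, 0)) (.leaf (1904, 0, 0)))) (.node 1038 (.node 1037 (.leaf (1906, 0, 0)) (.leaf (1908, 0, 0))) (.node 1039 (.leaf (1909, 0, 0)) (.leaf (1911, 0, 0)))))) (.node 1048 (.node 1044 (.node 1042 (.node 1041 (.leaf (1819, 260, 66)) (.leaf (1641, 58, 29))) (.node 1043 (.leaf (1915,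 0, 0)) (.leaf (1917, 0, 0)))) (.node 1046 (.node 1045 (.leaf (1919, 0, 0)) (.leaf (1921, 0, 0))) (.node 1047 (.leaf (1923, 0, 0)) (.leaf (1925, 0, 0))))) (.node 1052 (.node 1050 (.node 1049 (.leaf (1352, 125, 53)) (.leaf (1928, 0, 0))) (.node 1051 (.leaf (1930, 0, 0)) (.leaf (1932, 0, 0)))) (.node 1054 (.node 1053 (.leaf (1934, 0, 0)) (.leaf (1935, 0, 0))) (.node 1055 (.leaf (1937, 0, 0)) (.leaf (1938, 0, 0)))))))

def tEX_33 : BT (ℕ × ℕ × ℕ) := (.node 1072 (.node 1064 (.node 1060 (.node 1058 (.node 1057 (.leaf (1940, 0, 0)) (.leaf (1942, 0, 0))) (.node 1059 (.leaf (1943, 0, 0)) (.leaf (1033, 239, 79)))) (.node 1062 (.node 1061 (.leaf (1946, 0, 0)) (.leaf (1947, 0, 0))) (.node 1063 (.leaf (1949, 0, 0)) (.leaf (1951, 0, 0))))) (.node 1068 (.node 1066 (.node 1065 (.leaf (1953, 0, 0)) (.leaf (1955, 0, 0))) (.node 1067 (.leaf (1956, 0, 0)) (.leaf (1958, 0, 0)))) (.node 1070 (.node 1069 (.leaf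 (1959, 0, 0)) (.leaf (345, 208, 26))) (.node 1071 (.leaf (1962, 0, 0)) (.leaf (1964, 0, 0)))))) (.node 1080 (.node 1076 (.node 1074 (.node 1073 (.leaf (1966, 0, 0)) (.leaf (1968, 0, 0))) (.node 1075 (.leaf (1970, 0, 0)) (.leaf (1972, 0, 0)))) (.node 1078 (.node 1077 (.leaf (1974, 0, 0)) (.leaf (1976, 0, 0))) (.node 1079 (.leaf (1978, 0, 0)) (.leaf (343, 52, 11))))) (.node 1084 (.node 1082 (.node 1081 (.leaf (1981, 0, 0)) (.leaf (1983, 0, 0))) (.node 1083 (.leaf (1985, 0, 0)) (.leaf (1987, 0, 0)))) (.node 1086 (.node 1085 (.leaf (781, 269, 13)) (.leaf (1990, 0, 0))) (.node 1087 (.leaf (1992, 0, 0)) (.leaf (1994, 0, 0)))))))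

def tEX_34 : BT (ℕ × ℕ × ℕ) := (.node 1104 (.node 1096 (.node 1092 (.node 1090 (.node 1089 (.leaf (1996, 0, 0)) (.leaf (787, 214, 84))) (.node 1091 (.leaf (1998, 0, 0)) (.leaf (59, 94, 18)))) (.node 1094 (.node 1093 (.leaf (1999, 0, 0)) (.leaf (2001, 0, 0))) (.node 1095 (.leaf (2003, 0, 0)) (.leaf (2005, 0, 0))))) (.node 1100 (.node 1098 (.node 1097 (.leaf (2007, 0, 0)) (.leaf (2009, 0, 0))) (.node 1099 (.leaf (2011, 0, 0)) (.leaf (2013, 0, 0)))) (.node 1102 (.node 1101 (.leaf (2015, 0, 0)) (.leaf (2017, 0, 0))) (.node 1103 (.leaf (2018, 0, 0)) (.leaf (1882, 89, 19)))))) (.node 1112 (.node 1108 (.node 1106 (.node 1105 (.leaf (2020, 0, 0)) (.leaf (1899, 208, 73))) (.node 1107 (.leaf (2021, 0, 0)) (.leaf (2023, 0, 0)))) (.node 1110 (.node 1109 (.leaf (2024, 0, 0)) (.leaf (2025, 0, 0))) (.node 1111 (.leaf (2027, 0, 0)) (.leaf (2029, 0, 0))))) (.node 1116 (.node 1114 (.node 1113 (.leaf (2030,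 0, 0)) (.leaf (2032, 0, 0))) (.node 1115 (.leaf (2034, 0, 0)) (.leaf (2036, 0, 0)))) (.node 1118 (.node 1117 (.leaf (2038, 0, 0)) (.leaf (2040, 0, 0))) (.node 1119 (.leaf (2042, 0, 0)) (.leaf (2044, 0, 0)))))))

def tEX_35 : BT (ℕ × ℕ × ℕ) := (.node 1136 (.node 1128 (.node 1124 (.node 1122 (.node 1121 (.leaf (2046, 0, 0)) (.leaf (2048, 0, 0))) (.node 1123 (.leaf (2050, 0, 0)) (.leaf (2052, 0, 0)))) (.node 1126 (.node 1125 (.leaf (2054, 0, 0)) (.leaf (2056, 0, 0))) (.node 1127 (.leaf (2058, 0, 0)) (.leaf (2060, 0, 0))))) (.node 1132 (.node 1130 (.node 1129 (.leaf (2062, 0, 0)) (.leaf (2064, 0, 0))) (.node 1131 (.leaf (2066, 0, 0)) (.leaf (2068, 0, 0)))) (.node 1134 (.node 1133 (.leaf (2070, 0, 0)) (.leaf (73, 167, 72))) (.node 1135 (.leaf (2073, 0, 0)) (.leaf (7, 102, 88)))))) (.node 1144 (.node 1140 (.node 1138 (.node 1137 (.leaf (2076, 0, 0)) (.leaf (2078, 0, 0))) (.node 1139 (.leaf (2079,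 0, 0)) (.leaf (2081, 0, 0)))) (.node 1142 (.node 1141 (.leaf (2082, 0, 0)) (.leaf (2084, 0, 0))) (.node 1143 (.leaf (2086, 0, 0)) (.leaf (2088, 0, 0))))) (.node 1148 (.node 1146 (.node 1145 (.leaf (2090, 0, 0)) (.leaf (2092, 0, 0))) (.node 1147 (.leaf (2094, 0, 0)) (.leaf (2096, 0, 0)))) (.node 1150 (.node 1149 (.leaf (2098, 0, 0)) (.leaf (1907, 42, 0))) (.node 1151 (.leaf (2101, 0, 0)) (.leaf (2103, 0, 0)))))))

def tEX_36 : BT (ℕ × ℕ × ℕ) := (.node 1168 (.node 1160 (.node 1156 (.node 1154 (.node 1153 (.leaf (2105, 0, 0)) (.leaf (2106, 0, 0))) (.node 1155 (.leaf (2108, 0, 0)) (.leaf (964, 138, 72)))) (.node 1158 (.node 1157 (.leaf (2111, 0, 0)) (.leaf (2113, 0, 0))) (.node 1159 (.leaf (2115, 0, 0)) (.leaf (2117, 0, 0))))) (.node 1164 (.node 1162 (.node 1161 (.leaf (2119, 0, 0)) (.leaf (115, 178, 37))) (.node 1163 (.leaf (2121, 0, 0)) (.leaf (1090, 54, 59)))) (.node 1166 (.node 1165 (.leaf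 (2124, 0, 0)) (.leaf (2126, 0, 0))) (.node 1167 (.leaf (2128, 0, 0)) (.leaf (2129, 0, 0)))))) (.node 1176 (.node 1172 (.node 1170 (.node 1169 (.leaf (1815, 254, 79)) (.leaf (2132, 0, 0))) (.node 1171 (.leaf (2133, 0, 0)) (.leaf (2135, 0, 0)))) (.node 1174 (.node 1173 (.leaf (2137, 0, 0)) (.leaf (2139, 0, 0))) (.node 1175 (.leaf (2102, 247, 63)) (.leaf (2142, 0, 0))))) (.node 1180 (.node 1178 (.node 1177 (.leaf (2144, 0, 0)) (.leaf (2145, 0, 0))) (.node 1179 (.leaf (2147, 0, 0)) (.leaf (2149, 0, 0)))) (.node 1182 (.node 1181 (.leaf (1254, 9, 43)) (.leaf (2151, 0, 0))) (.node 1183 (.leaf (2152, 0, 0)) (.leaf (2154, 0, 0)))))))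

def tEX_37 : BT (ℕ × ℕ × ℕ) := (.node 1200 (.node 1192 (.node 1188 (.node 1186 (.node 1185 (.leaf (2156, 0, 0)) (.leaf (2157, 0, 0))) (.node 1187 (.leaf (2159, 0, 0)) (.leaf (2161, 0, 0)))) (.node 1190 (.node 1189 (.leaf (2163, 0, 0)) (.leaf (465, 13, 1))) (.node 1191 (.leaf (2166, 0, 0)) (.leaf (2167, 0, 0))))) (.node 1196 (.node 1194 (.node 1193 (.leaf (2168, 0, 0)) (.leaf (2041, 65, 83))) (.node 1195 (.leaf (2171, 0, 0)) (.leaf (2173, 0, 0)))) (.node 1198 (.node 1197 (.leaf (1153, 18, 82)) (.leaf (2176, 0, 0))) (.node 1199 (.leaf (2178, 0, 0)) (.leaf (1086, 5, 32)))))) (.node 1208 (.node 1204 (.node 1202 (.node 1201 (.leaf (2180, 0, 0)) (.leaf (1421, 150, 88))) (.node 1203 (.leaf (2183, 0, 0)) (.leaf (2185, 0, 0)))) (.node 1206 (.node 1205 (.leaf (2187, 0, 0)) (.leaf (2189, 0, 0))) (.node 1207 (.leaf (2191, 0, 0)) (.leaf (2193, 0, 0))))) (.node 1212 (.node 1210 (.node 1209 (.leaf (2195,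 0, 0)) (.leaf (2196, 0, 0))) (.node 1211 (.leaf (2198, 0, 0)) (.leaf (2200, 0, 0)))) (.node 1214 (.node 1213 (.leaf (2202, 0, 0)) (.leaf (2203, 0, 0))) (.node 1215 (.leaf (2205, 0, 0)) (.leaf (2207, 0, 0)))))))

def tEX_38 : BT (ℕ × ℕ × ℕ) := (.node 1232 (.node 1224 (.node 1220 (.node 1218 (.node 1217 (.leaf (2209, 0, 0)) (.leaf (2211, 0, 0))) (.node 1219 (.leaf (2212, 0, 0)) (.leaf (1475, 26, 52)))) (.node 1222 (.node 1221 (.leaf (1625, 84, 78)) (.leaf (2216, 0, 0))) (.node 1223 (.leaf (2217, 0, 0)) (.leaf (2055, 263, 32))))) (.node 1228 (.node 1226 (.node 1225 (.leaf (2220, 0, 0)) (.leaf (653, 225, 19))) (.node 1227 (.leaf (2223, 0, 0)) (.leaf (2225, 0, 0)))) (.node 1230 (.node 1229 (.leaf (2226, 0, 0)) (.leaf (2228, 0, 0))) (.node 1231 (.leaf (2230, 0, 0)) (.leaf (2232, 0, 0)))))) (.node 1240 (.node 1236 (.node 1234 (.node 1233 (.leaf (2234, 0, 0)) (.leaf (2236, 0, 0))) (.node 1235 (.leaf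 (2238, 0, 0)) (.leaf (2239, 0, 0)))) (.node 1238 (.node 1237 (.leaf (2241, 0, 0)) (.leaf (2243, 0, 0))) (.node 1239 (.leaf (2245, 0, 0)) (.leaf (2246, 0, 0))))) (.node 1244 (.node 1242 (.node 1241 (.leaf (2248, 0, 0)) (.leaf (2250, 0, 0))) (.node 1243 (.leaf (2252, 0, 0)) (.leaf (2254, 0, 0)))) (.node 1246 (.node 1245 (.leaf (2256, 0, 0)) (.leaf (2258, 0, 0))) (.node 1247 (.leaf (772, 62, 58)) (.leaf (2261, 0, 0)))))))

def tEX_39 : BT (ℕ × ℕ × ℕ) := (.node 1264 (.node 1256 (.node 1252 (.node 1250 (.node 1249 (.leaf (2263, 0, 0)) (.leaf (2095, 130, 68))) (.node 1251 (.leaf (2266, 0, 0)) (.leaf (2267, 0, 0)))) (.node 1254 (.node 1253 (.leaf (1183, 205, 46)) (.leaf (1643, 185, 22))) (.node 1255 (.leaf (906, 217, 51)) (.leaf (2271, 0, 0))))) (.node 1260 (.node 1258 (.node 1257 (.leaf (2273, 0, 0)) (.leaf (2275, 0, 0))) (.node 1259 (.leaf (2277, 0, 0)) (.leaf (2279, 0, 0)))) (.node 1262 (.node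 1261 (.leaf (2281, 0, 0)) (.leaf (2283, 0, 0))) (.node 1263 (.leaf (2285, 0, 0)) (.leaf (2287, 0, 0)))))) (.node 1272 (.node 1268 (.node 1266 (.node 1265 (.leaf (2289, 0, 0)) (.leaf (2290, 0, 0))) (.node 1267 (.leaf (2292, 0, 0)) (.leaf (2294, 0, 0)))) (.node 1270 (.node 1269 (.leaf (521, 172, 45)) (.leaf (2296, 0, 0))) (.node 1271 (.leaf (2071, 93, 53)) (.leaf (2298, 0, 0))))) (.node 1276 (.node 1274 (.node 1273 (.leaf (2300, 0, 0)) (.leaf (2302, 0, 0))) (.node 1275 (.leaf (2104, 137, 84)) (.leaf (2305, 0, 0)))) (.node 1278 (.node 1277 (.leaf (2307, 0, 0)) (.leaf (2309, 0, 0))) (.node 1279 (.leaf (2310, 0, 0)) (.leaf (2311, 0, 0)))))))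

def tEX_40 : BT (ℕ × ℕ × ℕ) := (.node 1296 (.node 1288 (.node 1284 (.node 1282 (.node 1281 (.leaf (2313, 0, 0)) (.leaf (1333, 75, 87))) (.node 1283 (.leaf (2315, 0, 0)) (.leaf (2316, 0, 0)))) (.node 1286 (.node 1285 (.leaf (2318, 0, 0)) (.leaf (2319, 0, 0))) (.node 1287 (.leaf (2321, 0, 0)) (.leaf (2322, 0, 0))))) (.node 1292 (.node 1290 (.node 1289 (.leaf (2324, 0, 0)) (.leaf (1857, 172, 36))) (.node 1291 (.leaf (2327, 0, 0)) (.leaf (2329, 0, 0)))) (.node 1294 (.node 1293 (.leaf (352, 113, 57)) (.leaf (2332, 0, 0))) (.node 1295 (.leaf (2334, 0, 0)) (.leaf (2336, 0, 0)))))) (.node 1304 (.node 1300 (.node 1298 (.node 1297 (.leaf (2338, 0, 0)) (.leaf (2340, 0, 0))) (.node 1299 (.leaf (2342, 0, 0)) (.leaf (2344, 0, 0)))) (.node 1302 (.node 1301 (.leaf (2346, 0, 0)) (.leaf (2146, 213, 8))) (.node 1303 (.leaf (2348, 0, 0)) (.leaf (2350, 0, 0))))) (.node 1308 (.node 1306 (.node 1305 (.leaf (2352,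 0, 0)) (.leaf (2353, 0, 0))) (.node 1307 (.leaf (2355, 0, 0)) (.leaf (2357, 0, 0)))) (.node 1310 (.node 1309 (.leaf (2358, 0, 0)) (.leaf (2360, 0, 0))) (.node 1311 (.leaf (2362, 0, 0)) (.leaf (2364, 0, 0)))))))

def tEX_41 : BT (ℕ × ℕ × ℕ) := (.node 1328 (.node 1320 (.node 1316 (.node 1314 (.node 1313 (.leaf (2366, 0, 0)) (.leaf (2368, 0, 0))) (.node 1315 (.leaf (1835, 24, 9)) (.leaf (2371, 0, 0)))) (.node 1318 (.node 1317 (.leaf (2373, 0, 0)) (.leaf (2375, 0, 0))) (.node 1319 (.leaf (2377, 0, 0)) (.leaf (2379, 0, 0))))) (.node 1324 (.node 1322 (.node 1321 (.leaf (3, 253, 64)) (.leaf (2382, 0, 0))) (.node 1323 (.leaf (2384, 0, 0)) (.leaf (2386, 0, 0)))) (.node 1326 (.node 1325 (.leaf (1624, 76, 61)) (.leaf (2389, 0, 0))) (.node 1327 (.leaf (2255, 37, 48)) (.leaf (2391, 0, 0)))))) (.node 1336 (.node 1332 (.node 1330 (.node 1329 (.leaf (2393, 0, 0)) (.leaf (2395, 0, 0))) (.node 1331 (.leaf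 (2397, 0, 0)) (.leaf (2399, 0, 0)))) (.node 1334 (.node 1333 (.leaf (2401, 0, 0)) (.leaf (2403, 0, 0))) (.node 1335 (.leaf (2405, 0, 0)) (.leaf (2406, 0, 0))))) (.node 1340 (.node 1338 (.node 1337 (.leaf (2408, 0, 0)) (.leaf (2410, 0, 0))) (.node 1339 (.leaf (2412, 0, 0)) (.leaf (2414, 0, 0)))) (.node 1342 (.node 1341 (.leaf (2416, 0, 0)) (.leaf (2418, 0, 0))) (.node 1343 (.leaf (1072, 169, 30)) (.leaf (2421, 0, 0)))))))

def tEX_42 : BT (ℕ × ℕ × ℕ) := (.node 1360 (.node 1352 (.node 1348 (.node 1346 (.node 1345 (.leaf (2423, 0, 0)) (.leaf (113, 25, 35))) (.node 1347 (.leaf (2426, 0, 0)) (.leaf (2428, 0, 0)))) (.node 1350 (.node 1349 (.leaf (2430, 0, 0)) (.leaf (2432, 0, 0))) (.node 1351 (.leaf (749, 177, 23)) (.leaf (167, 212, 22))))) (.node 1356 (.node 1354 (.node 1353 (.leaf (2435, 0, 0)) (.leaf (1043, 125, 1))) (.node 1355 (.leaf (2437, 0, 0)) (.leaf (2439, 0, 0)))) (.node 1358 (.node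 1357 (.leaf (2440, 0, 0)) (.leaf (2442, 0, 0))) (.node 1359 (.leaf (2444, 0, 0)) (.leaf (2445, 0, 0)))))) (.node 1368 (.node 1364 (.node 1362 (.node 1361 (.leaf (2447, 0, 0)) (.leaf (2449, 0, 0))) (.node 1363 (.leaf (2451, 0, 0)) (.leaf (486, 104, 13)))) (.node 1366 (.node 1365 (.leaf (2452, 0, 0)) (.leaf (2268, 41, 3))) (.node 1367 (.leaf (2454, 0, 0)) (.leaf (2456, 0, 0))))) (.node 1372 (.node 1370 (.node 1369 (.leaf (39, 98, 72)) (.leaf (2457, 0, 0))) (.node 1371 (.leaf (2459, 0, 0)) (.leaf (2461, 0, 0)))) (.node 1374 (.node 1373 (.leaf (2463, 0, 0)) (.leaf (2465, 0, 0))) (.node 1375 (.leaf (2467, 0, 0)) (.leaf (2468, 0, 0)))))))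

def tEX_43 : BT (ℕ × ℕ × ℕ) := (.node 1392 (.node 1384 (.node 1380 (.node 1378 (.node 1377 (.leaf (2470, 0, 0)) (.leaf (2472, 0, 0))) (.node 1379 (.leaf (2473, 0, 0)) (.leaf (1922, 47, 37)))) (.node 1382 (.node 1381 (.leaf (2476, 0, 0)) (.leaf (2478, 0, 0))) (.node 1383 (.leaf (2480, 0, 0)) (.leaf (893, 262, 57))))) (.node 1388 (.node 1386 (.node 1385 (.leaf (2483, 0, 0)) (.leaf (2484, 0, 0))) (.node 1387 (.leaf (2486, 0, 0)) (.leaf (2488, 0, 0)))) (.node 1390 (.node 1389 (.leaf (2490, 0, 0)) (.leaf (2492, 0, 0))) (.node 1391 (.leaf (2493, 0, 0)) (.leaf (1716, 53, 10)))))) (.node 1400 (.node 1396 (.node 1394 (.node 1393 (.leaf (1240, 203, 63)) (.leaf (2497, 0, 0))) (.node 1395 (.leaf (41, 23, 24)) (.leaf (2499, 0, 0)))) (.node 1398 (.node 1397 (.leaf (2501, 0, 0)) (.leaf (2503, 0, 0))) (.node 1399 (.leaf (137, 144, 31)) (.leaf (2505, 0, 0))))) (.node 1404 (.node 1402 (.node 1401 (.leaf (2506,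 0, 0)) (.leaf (2508, 0, 0))) (.node 1403 (.leaf (2510, 0, 0)) (.leaf (2511, 0, 0)))) (.node 1406 (.node 1405 (.leaf (2513, 0, 0)) (.leaf (2515, 0, 0))) (.node 1407 (.leaf (1661, 176, 72)) (.leaf (2518, 0, 0)))))))

def tEX_44 : BT (ℕ × ℕ × ℕ) := (.node 1424 (.node 1416 (.node 1412 (.node 1410 (.node 1409 (.leaf (2520, 0, 0)) (.leaf (2522, 0, 0))) (.node 1411 (.leaf (2524, 0, 0)) (.leaf (2525, 0, 0)))) (.node 1414 (.node 1413 (.leaf (2527, 0, 0)) (.leaf (2529, 0, 0))) (.node 1415 (.leaf (2080, 102, 71)) (.leaf (1527, 126, 10))))) (.node 1420 (.node 1418 (.node 1417 (.leaf (1070, 71, 82)) (.leaf (2533, 0, 0))) (.node 1419 (.leaf (2535, 0, 0)) (.leaf (2536, 0, 0)))) (.node 1422 (.node 1421 (.leaf (2538, 0, 0)) (.leaf (2540, 0, 0))) (.node 1423 (.leaf (2542, 0, 0)) (.leaf (2544, 0, 0)))))) (.node 1432 (.node 1428 (.node 1426 (.node 1425 (.leaf (2545, 0, 0)) (.leaf (1362, 134, 23))) (.node 1427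 (.leaf (2192, 160, 37)) (.leaf (2222, 264, 76)))) (.node 1430 (.node 1429 (.leaf (2549, 0, 0)) (.leaf (2551, 0, 0))) (.node 1431 (.leaf (2553, 0, 0)) (.leaf (2555, 0, 0))))) (.node 1436 (.node 1434 (.node 1433 (.leaf (2557, 0, 0)) (.leaf (2558, 0, 0))) (.node 1435 (.leaf (2560, 0, 0)) (.leaf (2561, 0, 0)))) (.node 1438 (.node 1437 (.leaf (2562, 0, 0)) (.leaf (2053, 265, 45))) (.node 1439 (.leaf (69, 221, 12)) (.leaf (2565, 0, 0)))))))

def tEX_45 : BT (ℕ × ℕ × ℕ) := (.node 1456 (.node 1448 (.node 1444 (.node 1442 (.node 1441 (.leaf (396, 51, 23)) (.leaf (2568, 0, 0))) (.node 1443 (.leaf (2570, 0, 0)) (.leaf (2572, 0, 0)))) (.node 1446 (.node 1445 (.leaf (2573, 0, 0)) (.leaf (2574, 0, 0))) (.node 1447 (.leaf (2576, 0, 0)) (.leaf (2578, 0, 0))))) (.node 1452 (.node 1450 (.node 1449 (.leaf (2580, 0, 0)) (.leaf (2582, 0, 0))) (.node 1451 (.leaf (2584, 0, 0)) (.leaf (1549, 49, 47)))) (.node 1454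 (.node 1453 (.leaf (2587, 0, 0)) (.leaf (101, 17, 37))) (.node 1455 (.leaf (2589, 0, 0)) (.leaf (2590, 0, 0)))))) (.node 1464 (.node 1460 (.node 1458 (.node 1457 (.leaf (2592, 0, 0)) (.leaf (1381, 132, 56))) (.node 1459 (.leaf (2594, 0, 0)) (.leaf (2595, 0, 0)))) (.node 1462 (.node 1461 (.leaf (1056, 179, 28)) (.leaf (2597, 0, 0))) (.node 1463 (.leaf (2599, 0, 0)) (.leaf (2240, 241, 43))))) (.node 1468 (.node 1466 (.node 1465 (.leaf (2601, 0, 0)) (.leaf (2603, 0, 0))) (.node 1467 (.leaf (2605, 0, 0)) (.leaf (1556, 50, 84)))) (.node 1470 (.node 1469 (.leaf (2608, 0, 0)) (.leaf (2610, 0, 0))) (.node 1471 (.leaf (608, 35, 70)) (.leaf (2612, 0, 0)))))))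

def tEX_46 : BT (ℕ × ℕ × ℕ) := (.node 1488 (.node 1480 (.node 1476 (.node 1474 (.node 1473 (.leaf (868, 183, 48)) (.leaf (2615, 0, 0))) (.node 1475 (.leaf (1510, 68, 15)) (.leaf (2618, 0, 0)))) (.node 1478 (.node 1477 (.leaf (2620, 0, 0)) (.leaf (2622, 0, 0))) (.node 1479 (.leaf (2624, 0, 0)) (.leaf (1029, 204, 63))))) (.node 1484 (.node 1482 (.node 1481 (.leaf (2626, 0, 0)) (.leaf (899, 71, 75))) (.node 1483 (.leaf (2629, 0, 0)) (.leaf (2631, 0, 0)))) (.node 1486 (.node 1485 (.leaf (2633, 0, 0)) (.leaf (2635, 0, 0))) (.node 1487 (.leaf (1802, 111, 40)) (.leaf (2637, 0, 0)))))) (.node 1496 (.node 1492 (.node 1490 (.node 1489 (.leaf (2639, 0, 0)) (.leaf (2640, 0, 0))) (.node 1491 (.leaf (500, 251, 85)) (.leaf (2643, 0, 0)))) (.node 1494 (.node 1493 (.leaf (2645, 0, 0)) (.leaf (2647, 0, 0))) (.node 1495 (.leaf (548, 46, 30)) (.leaf (579, 61, 85))))) (.node 1500 (.node 1498 (.node 1497 (.leaf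 (2651, 0, 0)) (.leaf (223, 266, 44))) (.node 1499 (.leaf (2654, 0, 0)) (.leaf (1839, 255, 46)))) (.node 1502 (.node 1501 (.leaf (2657, 0, 0)) (.leaf (2659, 0, 0))) (.node 1503 (.leaf (2660, 0, 0)) (.leaf (2662, 0, 0)))))))

def tEX_47 : BT (ℕ × ℕ × ℕ) := (.node 1520 (.node 1512 (.node 1508 (.node 1506 (.node 1505 (.leaf (2664, 0, 0)) (.leaf (700, 228, 47))) (.node 1507 (.leaf (2667, 0, 0)) (.leaf (2293, 258, 8)))) (.node 1510 (.node 1509 (.leaf (2208, 98, 11)) (.leaf (2670, 0, 0))) (.node 1511 (.leaf (1380, 100, 15)) (.leaf (2673, 0, 0))))) (.node 1516 (.node 1514 (.node 1513 (.leaf (2675, 0, 0)) (.leaf (2676, 0, 0))) (.node 1515 (.leaf (2224, 112, 8)) (.leaf (2678, 0, 0)))) (.node 1518 (.node 1517 (.leaf (2679, 0, 0)) (.leaf (2681, 0, 0))) (.node 1519 (.leaf (2682, 0, 0)) (.leaf (628, 226, 36)))))) (.node 1528 (.node 1524 (.node 1522 (.node 1521 (.leaf (2683, 0, 0)) (.leaf (2685, 0, 0)))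 (.node 1523 (.leaf (2687, 0, 0)) (.leaf (2689, 0, 0)))) (.node 1526 (.node 1525 (.leaf (2691, 0, 0)) (.leaf (2692, 0, 0))) (.node 1527 (.leaf (2694, 0, 0)) (.leaf (201, 176, 61))))) (.node 1532 (.node 1530 (.node 1529 (.leaf (2697, 0, 0)) (.leaf (1760, 84, 82))) (.node 1531 (.leaf (1268, 221, 36)) (.leaf (2699, 0, 0)))) (.node 1534 (.node 1533 (.leaf (385, 260, 64)) (.leaf (2700, 0, 0))) (.node 1535 (.leaf (2701, 0, 0)) (.leaf (2703, 0, 0)))))))

def tEX_48 : BT (ℕ × ℕ × ℕ) := (.node 1552 (.node 1544 (.node 1540 (.node 1538 (.node 1537 (.leaf (2704, 0, 0)) (.leaf (2705, 0, 0))) (.node 1539 (.leaf (2707, 0, 0)) (.leaf (2709, 0, 0)))) (.node 1542 (.node 1541 (.leaf (2711, 0, 0)) (.leaf (2712, 0, 0))) (.node 1543 (.leaf (2714, 0, 0)) (.leaf (2715, 0, 0))))) (.node 1548 (.node 1546 (.node 1545 (.leaf (2717, 0, 0)) (.leaf (2718, 0, 0))) (.node 1547 (.leaf (2720, 0, 0)) (.leaf (1102, 196, 16))))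 (.node 1550 (.node 1549 (.leaf (2723, 0, 0)) (.leaf (2724, 0, 0))) (.node 1551 (.leaf (2726, 0, 0)) (.leaf (2728, 0, 0)))))) (.node 1560 (.node 1556 (.node 1554 (.node 1553 (.leaf (2730, 0, 0)) (.leaf (2731, 0, 0))) (.node 1555 (.leaf (1589, 19, 20)) (.leaf (418, 255, 47)))) (.node 1558 (.node 1557 (.leaf (1466, 16, 40)) (.leaf (2736, 0, 0))) (.node 1559 (.leaf (2738, 0, 0)) (.leaf (2740, 0, 0))))) (.node 1564 (.node 1562 (.node 1561 (.leaf (2742, 0, 0)) (.leaf (1443, 265, 78))) (.node 1563 (.leaf (2744, 0, 0)) (.leaf (2746, 0, 0)))) (.node 1566 (.node 1565 (.leaf (2747, 0, 0)) (.leaf (2719, 137, 62))) (.node 1567 (.leaf (2749, 0, 0)) (.leaf (1106, 227, 84)))))))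

def tEX_49 : BT (ℕ × ℕ × ℕ) := (.node 1584 (.node 1576 (.node 1572 (.node 1570 (.node 1569 (.leaf (2751, 0, 0)) (.leaf (813, 184, 12))) (.node 1571 (.leaf (2739, 189, 65)) (.leaf (2755, 0, 0)))) (.node 1574 (.node 1573 (.leaf (593, 232, 41)) (.leaf (2757, 0, 0))) (.node 1575 (.leaf (2759, 0, 0)) (.leaf (2760, 0, 0))))) (.node 1580 (.node 1578 (.node 1577 (.leaf (2762, 0, 0)) (.leaf (2764, 0, 0))) (.node 1579 (.leaf (2765, 0, 0)) (.leaf (2767, 0, 0)))) (.node 1582 (.node 1581 (.leaf (2769, 0, 0)) (.leaf (2771, 0, 0))) (.node 1583 (.leaf (2773, 0, 0)) (.leaf (2775, 0, 0)))))) (.node 1592 (.node 1588 (.node 1586 (.node 1585 (.leaf (2777, 0, 0)) (.leaf (2778, 0, 0))) (.node 1587 (.leaf (240, 192, 37)) (.leaf (1763, 124, 64)))) (.node 1590 (.node 1589 (.leaf (1785, 246, 2)) (.leaf (2674, 223, 84))) (.node 1591 (.leaf (2782, 0, 0)) (.leaf (2783, 0, 0))))) (.node 1596 (.node 1594 (.node 1593 (.leaf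 (159, 244, 73)) (.leaf (1404, 146, 27))) (.node 1595 (.leaf (2164, 231, 89)) (.leaf (65, 140, 27)))) (.node 1598 (.node 1597 (.leaf (2786, 0, 0)) (.leaf (2788, 0, 0))) (.node 1599 (.leaf (2789, 0, 0)) (.leaf (2791, 0, 0)))))))

def tEX_50 : BT (ℕ × ℕ × ℕ) := (.node 1616 (.node 1608 (.node 1604 (.node 1602 (.node 1601 (.leaf (856, 59, 40)) (.leaf (2793, 0, 0))) (.node 1603 (.leaf (2795, 0, 0)) (.leaf (2797, 0, 0)))) (.node 1606 (.node 1605 (.leaf (681, 68, 52)) (.leaf (2799, 0, 0))) (.node 1607 (.leaf (2801, 0, 0)) (.leaf (2803, 0, 0))))) (.node 1612 (.node 1610 (.node 1609 (.leaf (2805, 0, 0)) (.leaf (2807, 0, 0))) (.node 1611 (.leaf (2235, 234, 75)) (.leaf (1931, 80, 70)))) (.node 1614 (.node 1613 (.leaf (2811, 0, 0)) (.leaf (2813, 0, 0))) (.node 1615 (.leaf (1401, 114, 26)) (.leaf (2816, 0, 0)))))) (.node 1624 (.node 1620 (.node 1618 (.node 1617 (.leaf (2817, 0, 0)) (.leaf (2819, 0, 0)))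 (.node 1619 (.leaf (2821, 0, 0)) (.leaf (1280, 6, 16)))) (.node 1622 (.node 1621 (.leaf (2824, 0, 0)) (.leaf (2826, 0, 0))) (.node 1623 (.leaf (121, 52, 57)) (.leaf (2828, 0, 0))))) (.node 1628 (.node 1626 (.node 1625 (.leaf (2830, 0, 0)) (.leaf (2832, 0, 0))) (.node 1627 (.leaf (2833, 0, 0)) (.leaf (2494, 1, 35)))) (.node 1630 (.node 1629 (.leaf (2770, 4, 35)) (.leaf (2837, 0, 0))) (.node 1631 (.leaf (1619, 211, 5)) (.leaf (1026, 158, 22)))))))

def tEX_51 : BT (ℕ × ℕ × ℕ) := (.node 1648 (.node 1640 (.node 1636 (.node 1634 (.node 1633 (.leaf (2840, 0, 0)) (.leaf (2842, 0, 0))) (.node 1635 (.leaf (2844, 0, 0)) (.leaf (1104, 82, 52)))) (.node 1638 (.node 1637 (.leaf (1718, 201, 89)) (.leaf (2848, 0, 0))) (.node 1639 (.leaf (2849, 0, 0)) (.leaf (2850, 0, 0))))) (.node 1644 (.node 1642 (.node 1641 (.leaf (2852, 0, 0)) (.leaf (2854, 0, 0))) (.node 1643 (.leaf (2856, 0, 0)) (.leaf (1178, 42, 81))))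 (.node 1646 (.node 1645 (.leaf (2858, 0, 0)) (.leaf (912, 230, 76))) (.node 1647 (.leaf (2860, 0, 0)) (.leaf (2861, 0, 0)))))) (.node 1656 (.node 1652 (.node 1650 (.node 1649 (.leaf (2863, 0, 0)) (.leaf (2865, 0, 0))) (.node 1651 (.leaf (2867, 0, 0)) (.leaf (2869, 0, 0)))) (.node 1654 (.node 1653 (.leaf (2871, 0, 0)) (.leaf (2873, 0, 0))) (.node 1655 (.leaf (2602, 41, 74)) (.leaf (2876, 0, 0))))) (.node 1660 (.node 1658 (.node 1657 (.leaf (2877, 0, 0)) (.leaf (2879, 0, 0))) (.node 1659 (.leaf (2880, 0, 0)) (.leaf (2882, 0, 0)))) (.node 1662 (.node 1661 (.leaf (2883, 0, 0)) (.leaf (2122, 128, 21))) (.node 1663 (.leaf (2885, 0, 0)) (.leaf (2666, 270, 58)))))))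

def tEX_52 : BT (ℕ × ℕ × ℕ) := (.node 1680 (.node 1672 (.node 1668 (.node 1666 (.node 1665 (.leaf (2887, 0, 0)) (.leaf (2889, 0, 0))) (.node 1667 (.leaf (1171, 108, 78)) (.leaf (2892, 0, 0)))) (.node 1670 (.node 1669 (.leaf (2894, 0, 0)) (.leaf (2896, 0, 0))) (.node 1671 (.leaf (2898, 0, 0)) (.leaf (2899, 0, 0))))) (.node 1676 (.node 1674 (.node 1673 (.leaf (1337, 131, 31)) (.leaf (2902, 0, 0))) (.node 1675 (.leaf (849, 151, 86)) (.leaf (1136, 119, 60)))) (.node 1678 (.node 1677 (.leaf (2905, 0, 0)) (.leaf (2907, 0, 0))) (.node 1679 (.leaf (2909, 0, 0)) (.leaf (2910, 0, 0)))))) (.node 1688 (.node 1684 (.node 1682 (.node 1681 (.leaf (2912, 0, 0)) (.leaf (737, 70, 1))) (.node 1683 (.leaf (2915, 0, 0)) (.leaf (2917, 0, 0)))) (.node 1686 (.node 1685 (.leaf (2919, 0, 0)) (.leaf (2921, 0, 0))) (.node 1687 (.leaf (2665, 176, 47)) (.leaf (2923, 0, 0))))) (.node 1692 (.node 1690 (.node 1689 (.leaf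 (2134, 242, 61)) (.leaf (1324, 137, 49))) (.node 1691 (.leaf (2927, 0, 0)) (.leaf (2929, 0, 0)))) (.node 1694 (.node 1693 (.leaf (2491, 199, 62)) (.leaf (2932, 0, 0))) (.node 1695 (.leaf (105, 24, 27)) (.leaf (2934, 0, 0)))))))

def tEX_53 : BT (ℕ × ℕ × ℕ) := (.node 1712 (.node 1704 (.node 1700 (.node 1698 (.node 1697 (.leaf (596, 231, 21)) (.leaf (2937, 0, 0))) (.node 1699 (.leaf (2939, 0, 0)) (.leaf (2543, 51, 89)))) (.node 1702 (.node 1701 (.leaf (2941, 0, 0)) (.leaf (2734, 90, 18))) (.node 1703 (.leaf (2944, 0, 0)) (.leaf (2946, 0, 0))))) (.node 1708 (.node 1706 (.node 1705 (.leaf (1504, 132, 74)) (.leaf (2949, 0, 0))) (.node 1707 (.leaf (2950, 0, 0)) (.leaf (2952, 0, 0)))) (.node 1710 (.node 1709 (.leaf (2953, 0, 0)) (.leaf (1358, 265, 58))) (.node 1711 (.leaf (2954, 0, 0)) (.leaf (2722, 32, 13)))))) (.node 1720 (.node 1716 (.node 1714 (.node 1713 (.leaf (2955, 0, 0)) (.leaf (2956, 0,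 0))) (.node 1715 (.leaf (2958, 0, 0)) (.leaf (2960, 0, 0)))) (.node 1718 (.node 1717 (.leaf (2962, 0, 0)) (.leaf (2964, 0, 0))) (.node 1719 (.leaf (2965, 0, 0)) (.leaf (2966, 0, 0))))) (.node 1724 (.node 1722 (.node 1721 (.leaf (2967, 0, 0)) (.leaf (219, 110, 89))) (.node 1723 (.leaf (1914, 86, 32)) (.leaf (2971, 0, 0)))) (.node 1726 (.node 1725 (.leaf (2973, 0, 0)) (.leaf (2975, 0, 0))) (.node 1727 (.leaf (2976, 0, 0)) (.leaf (2680, 78, 78)))))))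

def tEX_54 : BT (ℕ × ℕ × ℕ) := (.node 1744 (.node 1736 (.node 1732 (.node 1730 (.node 1729 (.leaf (2809, 55, 39)) (.leaf (2446, 227, 40))) (.node 1731 (.leaf (2979, 0, 0)) (.leaf (1190, 223, 11)))) (.node 1734 (.node 1733 (.leaf (2982, 0, 0)) (.leaf (2984, 0, 0))) (.node 1735 (.leaf (2986, 0, 0)) (.leaf (2988, 0, 0))))) (.node 1740 (.node 1738 (.node 1737 (.leaf (2989, 0, 0)) (.leaf (2991, 0, 0))) (.node 1739 (.leaf (2993, 0, 0)) (.leaf (2995, 0, 0)))) (.node 1742 (.node 1741 (.leaf (2546, 204, 35)) (.leaf (2978, 123, 25))) (.node 1743 (.leaf (2999, 0, 0)) (.leaf (3001, 0, 0)))))) (.node 1752 (.node 1748 (.node 1746 (.node 1745 (.leaf (3003, 0, 0)) (.leaf (2162, 260, 54))) (.node 1747 (.leaf (3005, 0, 0)) (.leaf (3007, 0, 0)))) (.node 1750 (.node 1749 (.leaf (3009, 0, 0)) (.leaf (2948, 26, 17))) (.node 1751 (.leaf (3011, 0, 0)) (.leaf (3013, 0, 0))))) (.node 1756 (.node 1754 (.node 1753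 (.leaf (3015, 0, 0)) (.leaf (1732, 83, 52))) (.node 1755 (.leaf (3017, 0, 0)) (.leaf (3019, 0, 0)))) (.node 1758 (.node 1757 (.leaf (3020, 0, 0)) (.leaf (3022, 0, 0))) (.node 1759 (.leaf (3024, 0, 0)) (.leaf (3026, 0, 0)))))))

def tEX_55 : BT (ℕ × ℕ × ℕ) := (.node 1776 (.node 1768 (.node 1764 (.node 1762 (.node 1761 (.leaf (1541, 183, 16)) (.leaf (3029, 0, 0))) (.node 1763 (.leaf (3030, 0, 0)) (.leaf (3031, 0, 0)))) (.node 1766 (.node 1765 (.leaf (635, 92, 23)) (.leaf (2218, 21, 72))) (.node 1767 (.leaf (3034, 0, 0)) (.leaf (2784, 149, 19))))) (.node 1772 (.node 1770 (.node 1769 (.leaf (1472, 38, 26)) (.leaf (3037, 0, 0))) (.node 1771 (.leaf (3039, 0, 0)) (.leaf (3041, 0, 0)))) (.node 1774 (.node 1773 (.leaf (3043, 0, 0)) (.leaf (3045, 0, 0))) (.node 1775 (.leaf (1901, 120, 63)) (.leaf (1326, 186, 50)))))) (.node 1784 (.node 1780 (.node 1778 (.node 1777 (.leaf (3048, 0, 0)) (.leaf (77, 223,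 85))) (.node 1779 (.leaf (3050, 0, 0)) (.leaf (3052, 0, 0)))) (.node 1782 (.node 1781 (.leaf (3054, 0, 0)) (.leaf (1531, 201, 53))) (.node 1783 (.leaf (3056, 0, 0)) (.leaf (3057, 0, 0))))) (.node 1788 (.node 1786 (.node 1785 (.leaf (3059, 0, 0)) (.leaf (3061, 0, 0))) (.node 1787 (.leaf (3063, 0, 0)) (.leaf (3065, 0, 0)))) (.node 1790 (.node 1789 (.leaf (3066, 0, 0)) (.leaf (3068, 0, 0))) (.node 1791 (.leaf (3069, 0, 0)) (.leaf (3071, 0, 0)))))))

def tEX_56 : BT (ℕ × ℕ × ℕ) := (.node 1808 (.node 1800 (.node 1796 (.node 1794 (.node 1793 (.leaf (1591, 72, 63)) (.leaf (847, 139, 11))) (.node 1795 (.leaf (3073, 0, 0)) (.leaf (679, 148, 51)))) (.node 1798 (.node 1797 (.leaf (3074, 0, 0)) (.leaf (3076, 0, 0))) (.node 1799 (.leaf (488, 140, 14)) (.leaf (610, 200, 69))))) (.node 1804 (.node 1802 (.node 1801 (.leaf (3079, 0, 0)) (.leaf (2407, 243, 3))) (.node 1803 (.leaf (3081, 0, 0)) (.leaf (3083,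 0, 0)))) (.node 1806 (.node 1805 (.leaf (594, 202, 81)) (.leaf (416, 83, 33))) (.node 1807 (.leaf (1683, 258, 11)) (.leaf (3088, 0, 0)))))) (.node 1816 (.node 1812 (.node 1810 (.node 1809 (.leaf (3090, 0, 0)) (.leaf (3091, 0, 0))) (.node 1811 (.leaf (3093, 0, 0)) (.leaf (273, 229, 56)))) (.node 1814 (.node 1813 (.leaf (1433, 213, 8)) (.leaf (925, 104, 49))) (.node 1815 (.leaf (3097, 0, 0)) (.leaf (3008, 94, 70))))) (.node 1820 (.node 1818 (.node 1817 (.leaf (3099, 0, 0)) (.leaf (3101, 0, 0))) (.node 1819 (.leaf (3044, 137, 12)) (.leaf (3103, 0, 0)))) (.node 1822 (.node 1821 (.leaf (3105, 0, 0)) (.leaf (1060, 200, 28))) (.node 1823 (.leaf (3108, 0, 0)) (.leaf (3110, 0, 0)))))))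

def tEX_57 : BT (ℕ × ℕ × ℕ) := (.node 1840 (.node 1832 (.node 1828 (.node 1826 (.node 1825 (.leaf (3111, 0, 0)) (.leaf (3113, 0, 0))) (.node 1827 (.leaf (3115, 0, 0)) (.leaf (3116, 0, 0)))) (.node 1830 (.node 1829 (.leaf (3118, 0, 0)) (.leaf (3119, 0, 0))) (.node 1831 (.leaf (3121, 0, 0)) (.leaf (3123, 0, 0))))) (.node 1836 (.node 1834 (.node 1833 (.leaf (3125, 0, 0)) (.leaf (3126, 0, 0))) (.node 1835 (.leaf (3127, 0, 0)) (.leaf (3129, 0, 0)))) (.node 1838 (.node 1837 (.leaf (3130, 0, 0)) (.leaf (2141, 133, 54))) (.node 1839 (.leaf (3131, 0, 0)) (.leaf (3132, 0, 0)))))) (.node 1848 (.node 1844 (.node 1842 (.node 1841 (.leaf (3134, 0, 0)) (.leaf (3135, 0, 0))) (.node 1843 (.leaf (3137, 0, 0)) (.leaf (3138, 0, 0)))) (.node 1846 (.node 1845 (.leaf (3140, 0, 0)) (.leaf (3141, 0, 0))) (.node 1847 (.leaf (3143, 0, 0)) (.leaf (822, 96, 77))))) (.node 1852 (.node 1850 (.node 1849 (.leaf (3146, 0,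 0)) (.leaf (2581, 99, 78))) (.node 1851 (.leaf (3148, 0, 0)) (.leaf (2039, 173, 14)))) (.node 1854 (.node 1853 (.leaf (161, 79, 33)) (.leaf (3151, 0, 0))) (.node 1855 (.leaf (560, 170, 89)) (.leaf (2708, 143, 43)))))))

def tEX_58 : BT (ℕ × ℕ × ℕ) := (.node 1872 (.node 1864 (.node 1860 (.node 1858 (.node 1857 (.leaf (2475, 69, 31)) (.leaf (3156, 0, 0))) (.node 1859 (.leaf (3158, 0, 0)) (.leaf (2436, 80, 10)))) (.node 1862 (.node 1861 (.leaf (3161, 0, 0)) (.leaf (2177, 261, 88))) (.node 1863 (.leaf (3164, 0, 0)) (.leaf (3166, 0, 0))))) (.node 1868 (.node 1866 (.node 1865 (.leaf (2083, 71, 27)) (.leaf (3169, 0, 0))) (.node 1867 (.leaf (3171, 0, 0)) (.leaf (3173, 0, 0)))) (.node 1870 (.node 1869 (.leaf (3175, 0, 0)) (.leaf (2987, 236, 7))) (.node 1871 (.leaf (2947, 55, 41)) (.leaf (3178, 0, 0)))))) (.node 1880 (.node 1876 (.node 1874 (.node 1873 (.leaf (3180, 0, 0)) (.leaf (3182, 0, 0))) (.node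 1875 (.leaf (3183, 0, 0)) (.leaf (2485, 30, 3)))) (.node 1878 (.node 1877 (.leaf (3184, 0, 0)) (.leaf (830, 197, 6))) (.node 1879 (.leaf (562, 105, 49)) (.leaf (3188, 0, 0))))) (.node 1884 (.node 1882 (.node 1881 (.leaf (3190, 0, 0)) (.leaf (3191, 0, 0))) (.node 1883 (.leaf (129, 214, 74)) (.leaf (3193, 0, 0)))) (.node 1886 (.node 1885 (.leaf (2875, 175, 45)) (.leaf (3195, 0, 0))) (.node 1887 (.leaf (3196, 0, 0)) (.leaf (3197, 0, 0)))))))

def tEX_59 : BT (ℕ × ℕ × ℕ) := (.node 1904 (.node 1896 (.node 1892 (.node 1890 (.node 1889 (.leaf (3199, 0, 0)) (.leaf (3201, 0, 0))) (.node 1891 (.leaf (1695, 182, 1)) (.leaf (2750, 196, 2)))) (.node 1894 (.node 1893 (.leaf (3204, 0, 0)) (.leaf (1579, 0, 32))) (.node 1895 (.leaf (3206, 0, 0)) (.leaf (3208, 0, 0))))) (.node 1900 (.node 1898 (.node 1897 (.leaf (2474, 92, 24)) (.leaf (3210, 0, 0))) (.node 1899 (.leaf (3211, 0, 0)) (.leaf (3212, 0, 0)))) (.node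 1902 (.node 1901 (.leaf (1199, 27, 73)) (.leaf (3215, 0, 0))) (.node 1903 (.leaf (329, 195, 62)) (.leaf (3217, 0, 0)))))) (.node 1912 (.node 1908 (.node 1906 (.node 1905 (.leaf (921, 242, 5)) (.leaf (3218, 0, 0))) (.node 1907 (.leaf (3219, 0, 0)) (.leaf (3220, 0, 0)))) (.node 1910 (.node 1909 (.leaf (3221, 0, 0)) (.leaf (3223, 0, 0))) (.node 1911 (.leaf (3225, 0, 0)) (.leaf (3226, 0, 0))))) (.node 1916 (.node 1914 (.node 1913 (.leaf (2945, 11, 9)) (.leaf (325, 241, 61))) (.node 1915 (.leaf (3229, 0, 0)) (.leaf (3231, 0, 0)))) (.node 1918 (.node 1917 (.leaf (2496, 32, 30)) (.leaf (3232, 0, 0))) (.node 1919 (.leaf (3234, 0, 0)) (.leaf (1322, 32, 54)))))))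

def tEX_60 : BT (ℕ × ℕ × ℕ) := (.node 1936 (.node 1928 (.node 1924 (.node 1922 (.node 1921 (.leaf (3237, 0, 0)) (.leaf (3239, 0, 0))) (.node 1923 (.leaf (3241, 0, 0)) (.leaf (3242, 0, 0)))) (.node 1926 (.node 1925 (.leaf (3244, 0, 0)) (.leaf (577, 124, 16))) (.node 1927 (.leaf (3247, 0, 0)) (.leaf (3248, 0, 0))))) (.node 1932 (.node 1930 (.node 1929 (.leaf (3250, 0, 0)) (.leaf (3252, 0, 0))) (.node 1931 (.leaf (3254, 0, 0)) (.leaf (931, 237, 25)))) (.node 1934 (.node 1933 (.leaf (3255, 0, 0)) (.leaf (3257, 0, 0))) (.node 1935 (.leaf (3259, 0, 0)) (.leaf (3261, 0, 0)))))) (.node 1944 (.node 1940 (.node 1938 (.node 1937 (.leaf (267, 225, 84)) (.leaf (3263, 0, 0))) (.node 1939 (.leaf (731, 40, 1)) (.leaf (3265, 0, 0)))) (.node 1942 (.node 1941 (.leaf (367, 34, 7)) (.leaf (3267, 0, 0))) (.node 1943 (.leaf (1494, 75, 36)) (.leaf (1991, 104, 45))))) (.node 1948 (.node 1946 (.node 1945 (.leaf (99,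 39, 4)) (.leaf (2583, 233, 37))) (.node 1947 (.leaf (3270, 0, 0)) (.leaf (3272, 0, 0)))) (.node 1950 (.node 1949 (.leaf (2170, 80, 64)) (.leaf (3275, 0, 0))) (.node 1951 (.leaf (3277, 0, 0)) (.leaf (3279, 0, 0)))))))

def tEX_61 : BT (ℕ × ℕ × ℕ) := (.node 1968 (.node 1960 (.node 1956 (.node 1954 (.node 1953 (.leaf (1564, 122, 61)) (.leaf (3282, 0, 0))) (.node 1955 (.leaf (3283, 0, 0)) (.leaf (2732, 260, 31)))) (.node 1958 (.node 1957 (.leaf (3060, 72, 33)) (.leaf (3286, 0, 0))) (.node 1959 (.leaf (3287, 0, 0)) (.leaf (3144, 70, 58))))) (.node 1964 (.node 1962 (.node 1961 (.leaf (474, 67, 55)) (.leaf (3289, 0, 0))) (.node 1963 (.leaf (3290, 0, 0)) (.leaf (3292, 0, 0)))) (.node 1966 (.node 1965 (.leaf (3293, 0, 0)) (.leaf (3295, 0, 0))) (.node 1967 (.leaf (3297, 0, 0)) (.leaf (1859, 189, 57)))))) (.node 1976 (.node 1972 (.node 1970 (.node 1969 (.leaf (414, 211, 61)) (.leaf (1936, 132, 36)))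 (.node 1971 (.leaf (673, 210, 68)) (.leaf (3301, 0, 0)))) (.node 1974 (.node 1973 (.leaf (3302, 0, 0)) (.leaf (3303, 0, 0))) (.node 1975 (.leaf (3304, 0, 0)) (.leaf (3306, 0, 0))))) (.node 1980 (.node 1978 (.node 1977 (.leaf (1052, 118, 34)) (.leaf (1387, 185, 45))) (.node 1979 (.leaf (3310, 0, 0)) (.leaf (3312, 0, 0)))) (.node 1982 (.node 1981 (.leaf (1670, 242, 54)) (.leaf (1691, 162, 35))) (.node 1983 (.leaf (3315, 0, 0)) (.leaf (3317, 0, 0)))))))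

def tEX_62 : BT (ℕ × ℕ × ℕ) := (.node 2000 (.node 1992 (.node 1988 (.node 1986 (.node 1985 (.leaf (3319, 0, 0)) (.leaf (3321, 0, 0))) (.node 1987 (.leaf (1789, 142, 49)) (.leaf (3324, 0, 0)))) (.node 1990 (.node 1989 (.leaf (3326, 0, 0)) (.leaf (3327, 0, 0))) (.node 1991 (.leaf (3329, 0, 0)) (.leaf (3330, 0, 0))))) (.node 1996 (.node 1994 (.node 1993 (.leaf (354, 179, 64)) (.leaf (3331, 0, 0))) (.node 1995 (.leaf (3332, 0, 0)) (.leaf (3334, 0, 0)))) (.node 1998 (.node 1997 (.leaf (3336, 0, 0)) (.leaf (3338, 0, 0))) (.node 1999 (.leaf (3340, 0, 0)) (.leaf (1807, 58, 85)))))) (.node 2008 (.node 2004 (.node 2002 (.node 2001 (.leaf (3342, 0, 0)) (.leaf (2743, 142, 25))) (.node 2003 (.leaf (3343, 0, 0)) (.leaf (91, 130, 46)))) (.node 2006 (.node 2005 (.leaf (3346, 0, 0)) (.leaf (3348, 0, 0))) (.node 2007 (.leaf (3350, 0, 0)) (.leaf (3351, 0, 0))))) (.node 2012 (.node 2010 (.node 2009 (.leaf (3352,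 0, 0)) (.leaf (1399, 217, 11))) (.node 2011 (.leaf (3354, 0, 0)) (.leaf (3356, 0, 0)))) (.node 2014 (.node 2013 (.leaf (3357, 0, 0)) (.leaf (3358, 0, 0))) (.node 2015 (.leaf (2812, 152, 24)) (.leaf (3360, 0, 0)))))))

def tEX_63 : BT (ℕ × ℕ × ℕ) := (.node 2032 (.node 2024 (.node 2020 (.node 2018 (.node 2017 (.leaf (3362, 0, 0)) (.leaf (3364, 0, 0))) (.node 2019 (.leaf (3366, 0, 0)) (.leaf (2588, 248, 7)))) (.node 2022 (.node 2021 (.leaf (1830, 19, 19)) (.leaf (3368, 0, 0))) (.node 2023 (.leaf (311, 61, 9)) (.leaf (3370, 0, 0))))) (.node 2028 (.node 2026 (.node 2025 (.leaf (3371, 0, 0)) (.leaf (2825, 72, 11))) (.node 2027 (.leaf (2400, 53, 17)) (.leaf (3374, 0, 0)))) (.node 2030 (.node 2029 (.leaf (3376, 0, 0)) (.leaf (321, 117, 27))) (.node 2031 (.leaf (3305, 121, 38)) (.leaf (3339, 38, 47)))))) (.node 2040 (.node 2036 (.node 2034 (.node 2033 (.leaf (498, 58, 18)) (.leaf (2698, 124, 23)))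 (.node 2035 (.leaf (3383, 0, 0)) (.leaf (3385, 0, 0)))) (.node 2038 (.node 2037 (.leaf (3274, 148, 24)) (.leaf (3387, 0, 0))) (.node 2039 (.leaf (3389, 0, 0)) (.leaf (3391, 0, 0))))) (.node 2044 (.node 2042 (.node 2041 (.leaf (2249, 37, 23)) (.leaf (103, 12, 36))) (.node 2043 (.leaf (3393, 0, 0)) (.leaf (1413, 187, 42)))) (.node 2046 (.node 2045 (.leaf (709, 175, 44)) (.leaf (721, 31, 42))) (.node 2047 (.leaf (3397, 0, 0)) (.leaf (839, 257, 60)))))))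

def tEX_64 : BT (ℕ × ℕ × ℕ) := (.node 2064 (.node 2056 (.node 2052 (.node 2050 (.node 2049 (.leaf (2012, 145, 7)) (.leaf (2523, 55, 74))) (.node 2051 (.leaf (2286, 172, 46)) (.leaf (2455, 215, 81)))) (.node 2054 (.node 2053 (.leaf (428, 38, 83)) (.leaf (3405, 0, 0))) (.node 2055 (.leaf (3407, 0, 0)) (.leaf (3408, 0, 0))))) (.node 2060 (.node 2058 (.node 2057 (.leaf (626, 183, 70)) (.leaf (3410, 0, 0))) (.node 2059 (.leaf (3411, 0, 0)) (.leaf (667, 23, 15)))) (.node 2062 (.node 2061 (.leaf (3413, 0, 0)) (.leaf (3415, 0, 0))) (.node 2063 (.leaf (1468, 100, 89)) (.leaf (3417, 0, 0)))))) (.node 2072 (.node 2068 (.node 2066 (.node 2065 (.leaf (3419, 0, 0)) (.leaf (1710, 147, 23))) (.node 2067 (.leaf (402, 185, 19)) (.leaf (3423, 0, 0)))) (.node 2070 (.node 2069 (.leaf (3425, 0, 0)) (.leaf (2646, 213, 86))) (.node 2071 (.leaf (3426, 0, 0)) (.leaf (665, 175, 47))))) (.node 2076 (.node 2074 (.node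 2073 (.leaf (3428, 0, 0)) (.leaf (3430, 0, 0))) (.node 2075 (.leaf (3432, 0, 0)) (.leaf (3433, 0, 0)))) (.node 2078 (.node 2077 (.leaf (3390, 227, 18)) (.leaf (3435, 0, 0))) (.node 2079 (.leaf (2303, 243, 0)) (.leaf (3437, 0, 0)))))))

def tEX_65 : BT (ℕ × ℕ × ℕ) := (.node 2096 (.node 2088 (.node 2084 (.node 2082 (.node 2081 (.leaf (1821, 66, 61)) (.leaf (3438, 0, 0))) (.node 2083 (.leaf (2617, 249, 5)) (.leaf (3441, 0, 0)))) (.node 2086 (.node 2085 (.leaf (3443, 0, 0)) (.leaf (2331, 200, 86))) (.node 2087 (.leaf (3446, 0, 0)) (.leaf (3447, 0, 0))))) (.node 2092 (.node 2090 (.node 2089 (.leaf (3449, 0, 0)) (.leaf (2219, 182, 44))) (.node 2091 (.leaf (3451, 0, 0)) (.leaf (3453, 0, 0)))) (.node 2094 (.node 2093 (.leaf (55, 203, 27)) (.leaf (3455, 0, 0))) (.node 2095 (.leaf (3456, 0, 0)) (.leaf (3457, 0, 0)))))) (.node 2104 (.node 2100 (.node 2098 (.node 2097 (.leaf (3459, 0, 0)) (.leaf (3461,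 0, 0))) (.node 2099 (.leaf (3463, 0, 0)) (.leaf (3464, 0, 0)))) (.node 2102 (.node 2101 (.leaf (3466, 0, 0)) (.leaf (3468, 0, 0))) (.node 2103 (.leaf (3470, 0, 0)) (.leaf (3471, 0, 0))))) (.node 2108 (.node 2106 (.node 2105 (.leaf (3473, 0, 0)) (.leaf (3475, 0, 0))) (.node 2107 (.leaf (3476, 0, 0)) (.leaf (3478, 0, 0)))) (.node 2110 (.node 2109 (.leaf (2706, 59, 0)) (.leaf (3480, 0, 0))) (.node 2111 (.leaf (3482, 0, 0)) (.leaf (3484, 0, 0)))))))

def tEX_66 : BT (ℕ × ℕ × ℕ) := (.node 2128 (.node 2120 (.node 2116 (.node 2114 (.node 2113 (.leaf (3486, 0, 0)) (.leaf (3488, 0, 0))) (.node 2115 (.leaf (3490, 0, 0)) (.leaf (3492, 0, 0)))) (.node 2118 (.node 2117 (.leaf (3494, 0, 0)) (.leaf (3495, 0, 0))) (.node 2119 (.leaf (3496, 0, 0)) (.leaf (203, 93, 5))))) (.node 2124 (.node 2122 (.node 2121 (.leaf (3498, 0, 0)) (.leaf (2895, 266, 5))) (.node 2123 (.leaf (3501, 0, 0)) (.leaf (2359, 32, 36))))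 (.node 2126 (.node 2125 (.leaf (2031, 116, 52)) (.leaf (1297, 242, 86))) (.node 2127 (.leaf (3503, 0, 0)) (.leaf (2963, 99, 28)))))) (.node 2136 (.node 2132 (.node 2130 (.node 2129 (.leaf (3504, 0, 0)) (.leaf (3187, 191, 42))) (.node 2131 (.leaf (3507, 0, 0)) (.leaf (3172, 213, 59)))) (.node 2134 (.node 2133 (.leaf (3510, 0, 0)) (.leaf (624, 147, 62))) (.node 2135 (.leaf (3513, 0, 0)) (.leaf (2586, 187, 72))))) (.node 2140 (.node 2138 (.node 2137 (.leaf (546, 261, 41)) (.leaf (3271, 136, 6))) (.node 2139 (.leaf (3518, 0, 0)) (.leaf (3520, 0, 0)))) (.node 2142 (.node 2141 (.leaf (3521, 0, 0)) (.leaf (3139, 264, 85))) (.node 2143 (.leaf (1078, 199, 22)) (.leaf (1701, 266, 50)))))))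

def tEX_67 : BT (ℕ × ℕ × ℕ) := (.node 2160 (.node 2152 (.node 2148 (.node 2146 (.node 2145 (.leaf (3491, 111, 17)) (.leaf (3525, 0, 0))) (.node 2147 (.leaf (2741, 49, 60)) (.leaf (3527, 0, 0)))) (.node 2150 (.node 2149 (.leaf (1488, 176, 15)) (.leaf (358, 82, 26))) (.node 2151 (.leaf (841, 174, 85)) (.leaf (3528, 0, 0))))) (.node 2156 (.node 2154 (.node 2153 (.leaf (3530, 0, 0)) (.leaf (3531, 0, 0))) (.node 2155 (.leaf (3533, 0, 0)) (.leaf (3534, 0, 0)))) (.node 2158 (.node 2157 (.leaf (3536, 0, 0)) (.leaf (2325, 86, 89))) (.node 2159 (.leaf (1126, 128, 29)) (.leaf (3539, 0, 0)))))) (.node 2168 (.node 2164 (.node 2162 (.node 2161 (.leaf (3112, 207, 49)) (.leaf (3541, 0, 0))) (.node 2163 (.leaf (3542, 0, 0)) (.leaf (3543, 0, 0)))) (.node 2166 (.node 2165 (.leaf (3544, 0, 0)) (.leaf (3032, 235, 86))) (.node 2167 (.leaf (3545, 0, 0)) (.leaf (3547, 0, 0))))) (.node 2172 (.node 2170 (.node 2169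 (.leaf (3549, 0, 0)) (.leaf (3551, 0, 0))) (.node 2171 (.leaf (3553, 0, 0)) (.leaf (2100, 9, 85)))) (.node 2174 (.node 2173 (.leaf (3556, 0, 0)) (.leaf (3558, 0, 0))) (.node 2175 (.leaf (3560, 0, 0)) (.leaf (3562, 0, 0)))))))

def tEX_68 : BT (ℕ × ℕ × ℕ) := (.node 2192 (.node 2184 (.node 2180 (.node 2178 (.node 2177 (.leaf (3516, 2, 55)) (.leaf (3167, 214, 64))) (.node 2179 (.leaf (2429, 185, 34)) (.leaf (3016, 131, 23)))) (.node 2182 (.node 2181 (.leaf (3568, 0, 0)) (.leaf (3570, 0, 0))) (.node 2183 (.leaf (832, 240, 86)) (.leaf (1483, 33, 1))))) (.node 2188 (.node 2186 (.node 2185 (.leaf (3574, 0, 0)) (.leaf (3576, 0, 0))) (.node 2187 (.leaf (3479, 268, 29)) (.leaf (3578, 0, 0)))) (.node 2190 (.node 2189 (.leaf (3579, 0, 0)) (.leaf (3580, 0, 0))) (.node 2191 (.leaf (3582, 0, 0)) (.leaf (3583, 0, 0)))))) (.node 2200 (.node 2196 (.node 2194 (.node 2193 (.leaf (3584, 0, 0)) (.leaf (3586, 0,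 0))) (.node 2195 (.leaf (3122, 219, 65)) (.leaf (3436, 196, 87)))) (.node 2198 (.node 2197 (.leaf (3589, 0, 0)) (.leaf (3590, 0, 0))) (.node 2199 (.leaf (3591, 0, 0)) (.leaf (2930, 111, 88))))) (.node 2204 (.node 2202 (.node 2201 (.leaf (3593, 0, 0)) (.leaf (3595, 0, 0))) (.node 2203 (.leaf (3597, 0, 0)) (.leaf (3598, 0, 0)))) (.node 2206 (.node 2205 (.leaf (3600, 0, 0)) (.leaf (3601, 0, 0))) (.node 2207 (.leaf (1734, 113, 17)) (.leaf (3603, 0, 0)))))))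

def tEX_69 : BT (ℕ × ℕ × ℕ) := (.node 2224 (.node 2216 (.node 2212 (.node 2210 (.node 2209 (.leaf (3604, 0, 0)) (.leaf (3605, 0, 0))) (.node 2211 (.leaf (2148, 257, 30)) (.leaf (3607, 0, 0)))) (.node 2214 (.node 2213 (.leaf (1796, 271, 53)) (.leaf (1827, 47, 48))) (.node 2215 (.leaf (3610, 0, 0)) (.leaf (2374, 238, 40))))) (.node 2220 (.node 2218 (.node 2217 (.leaf (1605, 43, 39)) (.leaf (3612, 0, 0))) (.node 2219 (.leaf (3614, 0, 0)) (.leaf (3615, 0, 0)))) (.node 2222 (.node 2221 (.leaf (1316, 17, 85)) (.leaf (575, 216, 31))) (.node 2223 (.leaf (3619, 0, 0)) (.leaf (3620, 0, 0)))))) (.node 2232 (.node 2228 (.node 2226 (.node 2225 (.leaf (3621, 0, 0)) (.leaf (1703, 51, 76))) (.node 2227 (.leaf (3624, 0, 0)) (.leaf (3626, 0, 0)))) (.node 2230 (.node 2229 (.leaf (3628, 0, 0)) (.leaf (3630, 0, 0))) (.node 2231 (.leaf (933, 83, 67)) (.leaf (3606, 114, 13))))) (.node 2236 (.node 2234 (.node 2233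 (.leaf (3633, 0, 0)) (.leaf (3635, 0, 0))) (.node 2235 (.leaf (3637, 0, 0)) (.leaf (3638, 0, 0)))) (.node 2238 (.node 2237 (.leaf (3497, 16, 34)) (.leaf (3640, 0, 0))) (.node 2239 (.leaf (3641, 0, 0)) (.leaf (3643, 0, 0)))))))

def tEX_70 : BT (ℕ × ℕ × ℕ) := (.node 2256 (.node 2248 (.node 2244 (.node 2242 (.node 2241 (.leaf (3644, 0, 0)) (.leaf (3307, 13, 61))) (.node 2243 (.leaf (3646, 0, 0)) (.leaf (3648, 0, 0)))) (.node 2246 (.node 2245 (.leaf (2431, 116, 0)) (.leaf (3651, 0, 0))) (.node 2247 (.leaf (2547, 106, 86)) (.leaf (3654, 0, 0))))) (.node 2252 (.node 2250 (.node 2249 (.leaf (3655, 0, 0)) (.leaf (3657, 0, 0))) (.node 2251 (.leaf (885, 88, 69)) (.leaf (3660, 0, 0)))) (.node 2254 (.node 2253 (.leaf (3661, 0, 0)) (.leaf (3102, 16, 47))) (.node 2255 (.leaf (3664, 0, 0)) (.leaf (2998, 69, 62)))))) (.node 2264 (.node 2260 (.node 2258 (.node 2257 (.leaf (2913, 19, 43)) (.leaf (3668, 0,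 0))) (.node 2259 (.leaf (3670, 0, 0)) (.leaf (3672, 0, 0)))) (.node 2262 (.node 2261 (.leaf (3674, 0, 0)) (.leaf (1562, 224, 79))) (.node 2263 (.leaf (1408, 70, 1)) (.leaf (1062, 203, 70))))) (.node 2268 (.node 2266 (.node 2265 (.leaf (3678, 0, 0)) (.leaf (3680, 0, 0))) (.node 2267 (.leaf (3681, 0, 0)) (.leaf (3683, 0, 0)))) (.node 2270 (.node 2269 (.leaf (2516, 34, 35)) (.leaf (1307, 118, 68))) (.node 2271 (.leaf (3686, 0, 0)) (.leaf (3687, 0, 0)))))))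

def tEX_71 : BT (ℕ × ℕ × ℕ) := (.node 2288 (.node 2280 (.node 2276 (.node 2274 (.node 2273 (.leaf (3689, 0, 0)) (.leaf (3690, 0, 0))) (.node 2275 (.leaf (3691, 0, 0)) (.leaf (3692, 0, 0)))) (.node 2278 (.node 2277 (.leaf (3694, 0, 0)) (.leaf (671, 120, 10))) (.node 2279 (.leaf (2365, 174, 41)) (.leaf (3697, 0, 0))))) (.node 2284 (.node 2282 (.node 2281 (.leaf (3699, 0, 0)) (.leaf (3701, 0, 0))) (.node 2283 (.leaf (1260, 258, 29)) (.leaf (3704, 0, 0)))) (.node 2286 (.node 2285 (.leaf (3705, 0, 0)) (.leaf (1649, 124, 58))) (.node 2287 (.leaf (1285, 124, 18)) (.leaf (3707, 0, 0)))))) (.node 2296 (.node 2292 (.node 2290 (.node 2289 (.leaf (490, 59, 76)) (.leaf (189, 26, 72))) (.node 2291 (.leaf (3710, 0, 0)) (.leaf (2531, 206, 74)))) (.node 2294 (.node 2293 (.leaf (53, 203, 71)) (.leaf (3712, 0, 0))) (.node 2295 (.leaf (3714, 0, 0)) (.leaf (3535, 221, 77))))) (.node 2300 (.node 2298 (.node 2297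 (.leaf (3716, 0, 0)) (.leaf (3189, 58, 71))) (.node 2299 (.leaf (3719, 0, 0)) (.leaf (3721, 0, 0)))) (.node 2302 (.node 2301 (.leaf (1270, 226, 60)) (.leaf (3723, 0, 0))) (.node 2303 (.leaf (1979, 44, 1)) (.leaf (3725, 0, 0)))))))

def tEX_72 : BT (ℕ × ℕ × ℕ) := (.node 2320 (.node 2312 (.node 2308 (.node 2306 (.node 2305 (.leaf (3402, 62, 37)) (.leaf (1185, 208, 23))) (.node 2307 (.leaf (3728, 0, 0)) (.leaf (996, 66, 59)))) (.node 2310 (.node 2309 (.leaf (3730, 0, 0)) (.leaf (3732, 0, 0))) (.node 2311 (.leaf (1954, 84, 52)) (.leaf (3735, 0, 0))))) (.node 2316 (.node 2314 (.node 2313 (.leaf (3737, 0, 0)) (.leaf (3739, 0, 0))) (.node 2315 (.leaf (3344, 90, 20)) (.leaf (2530, 186, 4)))) (.node 2318 (.node 2317 (.leaf (3743, 0, 0)) (.leaf (661, 65, 81))) (.node 2319 (.leaf (3746, 0, 0)) (.leaf (1194, 80, 24)))))) (.node 2328 (.node 2324 (.node 2322 (.node 2321 (.leaf (616, 154, 39)) (.leaf (3748,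 0, 0))) (.node 2323 (.leaf (3684, 92, 15)) (.leaf (3751, 0, 0)))) (.node 2326 (.node 2325 (.leaf (2627, 199, 19)) (.leaf (3752, 0, 0))) (.node 2327 (.leaf (2737, 129, 55)) (.leaf (3754, 0, 0))))) (.node 2332 (.node 2330 (.node 2329 (.leaf (3627, 24, 62)) (.leaf (3756, 0, 0))) (.node 2331 (.leaf (3717, 265, 26)) (.leaf (1941, 222, 41)))) (.node 2334 (.node 2333 (.leaf (2780, 45, 83)) (.leaf (422, 44, 14))) (.node 2335 (.leaf (1100, 142, 16)) (.leaf (3762, 0, 0)))))))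

def tEX_73 : BT (ℕ × ℕ × ℕ) := (.node 2352 (.node 2344 (.node 2340 (.node 2338 (.node 2337 (.leaf (3764, 0, 0)) (.leaf (3766, 0, 0))) (.node 2339 (.leaf (3767, 0, 0)) (.leaf (3733, 139, 10)))) (.node 2342 (.node 2341 (.leaf (3770, 0, 0)) (.leaf (467, 103, 31))) (.node 2343 (.leaf (3773, 0, 0)) (.leaf (2911, 69, 45))))) (.node 2348 (.node 2346 (.node 2345 (.leaf (2980, 66, 11)) (.leaf (3776, 0, 0))) (.node 2347 (.leaf (3778, 0, 0)) (.leaf (3780, 0, 0)))) (.node 2350 (.node 2349 (.leaf (1593, 180, 84)) (.leaf (1224, 86, 11))) (.node 2351 (.leaf (3623, 55, 16)) (.leaf (3784, 0, 0)))))) (.node 2360 (.node 2356 (.node 2354 (.node 2353 (.leaf (3786, 0, 0)) (.leaf (1303, 35, 73))) (.node 2355 (.leaf (3789, 0, 0)) (.leaf (3791, 0, 0)))) (.node 2358 (.node 2357 (.leaf (3792, 0, 0)) (.leaf (3794, 0, 0))) (.node 2359 (.leaf (1826, 5, 24)) (.leaf (3797, 0, 0))))) (.node 2364 (.node 2362 (.node 2361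 (.leaf (3799, 0, 0)) (.leaf (3801, 0, 0))) (.node 2363 (.leaf (3803, 0, 0)) (.leaf (1795, 111, 17)))) (.node 2366 (.node 2365 (.leaf (3805, 0, 0)) (.leaf (3807, 0, 0))) (.node 2367 (.leaf (3809, 0, 0)) (.leaf (248, 68, 75)))))))

def tEX_74 : BT (ℕ × ℕ × ℕ) := (.node 2384 (.node 2376 (.node 2372 (.node 2370 (.node 2369 (.leaf (3811, 0, 0)) (.leaf (3813, 0, 0))) (.node 2371 (.leaf (3815, 0, 0)) (.leaf (3817, 0, 0)))) (.node 2374 (.node 2373 (.leaf (3819, 0, 0)) (.leaf (3821, 0, 0))) (.node 2375 (.leaf (3822, 0, 0)) (.leaf (3442, 15, 66))))) (.node 2380 (.node 2378 (.node 2377 (.leaf (3788, 260, 68)) (.leaf (2479, 230, 16))) (.node 2379 (.leaf (23, 180, 69)) (.leaf (3406, 6, 21)))) (.node 2382 (.node 2381 (.leaf (3827, 0, 0)) (.leaf (3251, 89, 19))) (.node 2383 (.leaf (3829, 0, 0)) (.leaf (3831, 0, 0)))))) (.node 2392 (.node 2388 (.node 2386 (.node 2385 (.leaf (2466, 41, 53)) (.leaf (2774,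 174, 26))) (.node 2387 (.leaf (2489, 207, 18)) (.leaf (3378, 64, 57)))) (.node 2390 (.node 2389 (.leaf (3836, 0, 0)) (.leaf (3688, 125, 65))) (.node 2391 (.leaf (3837, 0, 0)) (.leaf (1112, 12, 70))))) (.node 2396 (.node 2394 (.node 2393 (.leaf (3839, 0, 0)) (.leaf (1585, 235, 30))) (.node 2395 (.leaf (3840, 0, 0)) (.leaf (1876, 179, 54)))) (.node 2398 (.node 2397 (.leaf (3842, 0, 0)) (.leaf (1142, 145, 40))) (.node 2399 (.leaf (3845, 0, 0)) (.leaf (1122, 227, 24)))))))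

def tEX_75 : BT (ℕ × ℕ × ℕ) := (.node 2416 (.node 2408 (.node 2404 (.node 2402 (.node 2401 (.leaf (3848, 0, 0)) (.leaf (3850, 0, 0))) (.node 2403 (.leaf (3758, 214, 77)) (.leaf (811, 193, 25)))) (.node 2406 (.node 2405 (.leaf (3853, 0, 0)) (.leaf (3855, 0, 0))) (.node 2407 (.leaf (3857, 0, 0)) (.leaf (1747, 77, 6))))) (.node 2412 (.node 2410 (.node 2409 (.leaf (3859, 0, 0)) (.leaf (3235, 205, 69))) (.node 2411 (.leaf (1558, 114, 11)) (.leaf (1085, 256, 72)))) (.node 2414 (.node 2413 (.leaf (3864, 0, 0)) (.leaf (3865, 0, 0))) (.node 2415 (.leaf (3867, 0, 0)) (.leaf (3869, 0, 0)))))) (.node 2424 (.node 2420 (.node 2418 (.node 2417 (.leaf (1905, 20, 79)) (.leaf (2851, 74, 55))) (.node 2419 (.leaf (3871, 0, 0)) (.leaf (3872, 0, 0)))) (.node 2422 (.node 2421 (.leaf (3874, 0, 0)) (.leaf (2579, 74, 74))) (.node 2423 (.leaf (341, 20, 60)) (.leaf (3877, 0, 0))))) (.node 2428 (.node 2426 (.node 2425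 (.leaf (3779, 159, 30)) (.leaf (3878, 0, 0))) (.node 2427 (.leaf (974, 36, 10)) (.leaf (3881, 0, 0)))) (.node 2430 (.node 2429 (.leaf (3883, 0, 0)) (.leaf (3884, 0, 0))) (.node 2431 (.leaf (2924, 224, 75)) (.leaf (3885, 0, 0)))))))

def tEX_76 : BT (ℕ × ℕ × ℕ) := (.node 2448 (.node 2440 (.node 2436 (.node 2434 (.node 2433 (.leaf (3887, 0, 0)) (.leaf (3548, 115, 13))) (.node 2435 (.leaf (3890, 0, 0)) (.leaf (3266, 225, 44)))) (.node 2438 (.node 2437 (.leaf (3891, 0, 0)) (.leaf (527, 109, 8))) (.node 2439 (.leaf (3893, 0, 0)) (.leaf (3145, 59, 37))))) (.node 2444 (.node 2442 (.node 2441 (.leaf (3896, 0, 0)) (.leaf (3128, 194, 14))) (.node 2443 (.leaf (3897, 0, 0)) (.leaf (3899, 0, 0)))) (.node 2446 (.node 2445 (.leaf (649, 151, 75)) (.leaf (1232, 23, 52))) (.node 2447 (.leaf (295, 26, 48)) (.leaf (252, 110, 11)))))) (.node 2456 (.node 2452 (.node 2450 (.node 2449 (.leaf (3903, 0, 0)) (.leaf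 (3904, 0, 0))) (.node 2451 (.leaf (1969, 232, 56)) (.leaf (3907, 0, 0)))) (.node 2454 (.node 2453 (.leaf (3908, 0, 0)) (.leaf (3909, 0, 0))) (.node 2455 (.leaf (1202, 192, 25)) (.leaf (3912, 0, 0))))) (.node 2460 (.node 2458 (.node 2457 (.leaf (3702, 128, 44)) (.leaf (2409, 226, 67))) (.node 2459 (.leaf (878, 39, 31)) (.leaf (3828, 256, 82)))) (.node 2462 (.node 2461 (.leaf (3917, 0, 0)) (.leaf (3919, 0, 0))) (.node 2463 (.leaf (3920, 0, 0)) (.leaf (3922, 0, 0)))))))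

def tEX_77 : BT (ℕ × ℕ × ℕ) := (.node 2480 (.node 2472 (.node 2468 (.node 2466 (.node 2465 (.leaf (3924, 0, 0)) (.leaf (3925, 0, 0))) (.node 2467 (.leaf (3927, 0, 0)) (.leaf (1603, 65, 56)))) (.node 2470 (.node 2469 (.leaf (3930, 0, 0)) (.leaf (3931, 0, 0))) (.node 2471 (.leaf (3933, 0, 0)) (.leaf (3935, 0, 0))))) (.node 2476 (.node 2474 (.node 2473 (.leaf (3753, 191, 29)) (.leaf (3018, 165, 83))) (.node 2475 (.leaf (3937, 0, 0)) (.leaf (3939, 0, 0)))) (.node 2478 (.node 2477 (.leaf (3941, 0, 0)) (.leaf (2686, 229, 72))) (.node 2479 (.leaf (3942, 0, 0)) (.leaf (1064, 137, 62)))))) (.node 2488 (.node 2484 (.node 2482 (.node 2481 (.leaf (3943, 0, 0)) (.leaf (3945, 0, 0))) (.node 2483 (.leaf (2367, 263, 84)) (.leaf (3948, 0, 0)))) (.node 2486 (.node 2485 (.leaf (3950, 0, 0)) (.leaf (3952, 0, 0))) (.node 2487 (.leaf (2091, 157, 4)) (.leaf (3955, 0, 0))))) (.node 2492 (.node 2490 (.node 2489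 (.leaf (3957, 0, 0)) (.leaf (3958, 0, 0))) (.node 2491 (.leaf (1438, 7, 89)) (.leaf (3500, 185, 15)))) (.node 2494 (.node 2493 (.leaf (3962, 0, 0)) (.leaf (3963, 0, 0))) (.node 2495 (.leaf (2004, 101, 52)) (.leaf (3966, 0, 0)))))))

def tEX_78 : BT (ℕ × ℕ × ℕ) := (.node 2512 (.node 2504 (.node 2500 (.node 2498 (.node 2497 (.leaf (1653, 174, 0)) (.leaf (3968, 0, 0))) (.node 2499 (.leaf (3149, 199, 14)) (.leaf (3970, 0, 0)))) (.node 2502 (.node 2501 (.leaf (1148, 154, 78)) (.leaf (1571, 75, 47))) (.node 2503 (.leaf (3972, 0, 0)) (.leaf (3973, 0, 0))))) (.node 2508 (.node 2506 (.node 2505 (.leaf (3975, 0, 0)) (.leaf (3977, 0, 0))) (.node 2507 (.leaf (3979, 0, 0)) (.leaf (3980, 0, 0)))) (.node 2510 (.node 2509 (.leaf (3982, 0, 0)) (.leaf (2754, 96, 35))) (.node 2511 (.leaf (3983, 0, 0)) (.leaf (3984, 0, 0)))))) (.node 2520 (.node 2516 (.node 2514 (.node 2513 (.leaf (1445, 195, 83)) (.leaf (2843,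 45, 2))) (.node 2515 (.leaf (3986, 0, 0)) (.leaf (3988, 0, 0)))) (.node 2518 (.node 2517 (.leaf (1330, 147, 34)) (.leaf (3990, 0, 0))) (.node 2519 (.leaf (3992, 0, 0)) (.leaf (3994, 0, 0))))) (.node 2524 (.node 2522 (.node 2521 (.leaf (3996, 0, 0)) (.leaf (377, 198, 27))) (.node 2523 (.leaf (3998, 0, 0)) (.leaf (4000, 0, 0)))) (.node 2526 (.node 2525 (.leaf (2914, 31, 27)) (.leaf (4001, 0, 0))) (.node 2527 (.leaf (4003, 0, 0)) (.leaf (4004, 0, 0)))))))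

def tEX_79 : BT (ℕ × ℕ × ℕ) := (.node 2544 (.node 2536 (.node 2532 (.node 2530 (.node 2529 (.leaf (2938, 124, 86)) (.leaf (4007, 0, 0))) (.node 2531 (.leaf (4009, 0, 0)) (.leaf (3012, 268, 1)))) (.node 2534 (.node 2533 (.leaf (191, 262, 63)) (.leaf (2450, 252, 11))) (.node 2535 (.leaf (4011, 0, 0)) (.leaf (4013, 0, 0))))) (.node 2540 (.node 2538 (.node 2537 (.leaf (4015, 0, 0)) (.leaf (4017, 0, 0))) (.node 2539 (.leaf (3749, 231, 58)) (.leaf (4018, 0, 0)))) (.node 2542 (.node 2541 (.leaf (4020, 0, 0)) (.leaf (4022, 0, 0))) (.node 2543 (.leaf (3830, 249, 67)) (.leaf (4025, 0, 0)))))) (.node 2552 (.node 2548 (.node 2546 (.node 2545 (.leaf (4026, 0, 0)) (.leaf (4028, 0, 0))) (.node 2547 (.leaf (4030, 0, 0)) (.leaf (4031, 0, 0)))) (.node 2550 (.node 2549 (.leaf (3964, 13, 55)) (.leaf (4033, 0, 0))) (.node 2551 (.leaf (4034, 0, 0)) (.leaf (4035, 0, 0))))) (.node 2556 (.node 2554 (.node 2553 (.leaf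 (4037, 0, 0)) (.leaf (4038, 0, 0))) (.node 2555 (.leaf (3055, 263, 62)) (.leaf (4039, 0, 0)))) (.node 2558 (.node 2557 (.leaf (4040, 0, 0)) (.leaf (3906, 168, 67))) (.node 2559 (.leaf (791, 130, 0)) (.leaf (4043, 0, 0)))))))

def tEX_80 : BT (ℕ × ℕ × ℕ) := (.node 2576 (.node 2568 (.node 2564 (.node 2562 (.node 2561 (.leaf (3444, 221, 27)) (.leaf (2259, 22, 30))) (.node 2563 (.leaf (4047, 0, 0)) (.leaf (4049, 0, 0)))) (.node 2566 (.node 2565 (.leaf (1395, 42, 59)) (.leaf (3502, 54, 75))) (.node 2567 (.leaf (1272, 151, 18)) (.leaf (4053, 0, 0))))) (.node 2572 (.node 2570 (.node 2569 (.leaf (3847, 269, 81)) (.leaf (4056, 0, 0))) (.node 2571 (.leaf (1880, 29, 80)) (.leaf (4059, 0, 0)))) (.node 2574 (.node 2573 (.leaf (1083, 161, 27)) (.leaf (4060, 0, 0))) (.node 2575 (.leaf (4062, 0, 0)) (.leaf (4064, 0, 0)))))) (.node 2584 (.node 2580 (.node 2578 (.node 2577 (.leaf (3086, 197, 88)) (.leaf (2422,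 112, 73))) (.node 2579 (.leaf (4066, 0, 0)) (.leaf (1618, 72, 6)))) (.node 2582 (.node 2581 (.leaf (4068, 0, 0)) (.leaf (4070, 0, 0))) (.node 2583 (.leaf (4071, 0, 0)) (.leaf (4073, 0, 0))))) (.node 2588 (.node 2586 (.node 2585 (.leaf (4075, 0, 0)) (.leaf (3856, 172, 4))) (.node 2587 (.leaf (4077, 0, 0)) (.leaf (4079, 0, 0)))) (.node 2590 (.node 2589 (.leaf (2684, 90, 70)) (.leaf (4081, 0, 0))) (.node 2591 (.leaf (4082, 0, 0)) (.leaf (4084, 0, 0)))))))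

def tEX_81 : BT (ℕ × ℕ × ℕ) := (.node 2608 (.node 2600 (.node 2596 (.node 2594 (.node 2593 (.leaf (412, 261, 64)) (.leaf (4085, 0, 0))) (.node 2595 (.leaf (908, 218, 59)) (.leaf (2172, 117, 89)))) (.node 2598 (.node 2597 (.leaf (3460, 175, 41)) (.leaf (4089, 0, 0))) (.node 2599 (.leaf (3322, 109, 77)) (.leaf (4091, 0, 0))))) (.node 2604 (.node 2602 (.node 2601 (.leaf (4092, 0, 0)) (.leaf (4094, 0, 0))) (.node 2603 (.leaf (4096, 0, 0)) (.leaf (4098, 0, 0)))) (.node 2606 (.node 2605 (.leaf (4099, 0, 0)) (.leaf (1431, 100, 1))) (.node 2607 (.leaf (4102, 0, 0)) (.leaf (4104, 0, 0)))))) (.node 2616 (.node 2612 (.node 2610 (.node 2609 (.leaf (4106, 0, 0)) (.leaf (2469, 242, 85))) (.node 2611 (.leaf (2280, 114, 38)) (.leaf (4109, 0, 0)))) (.node 2614 (.node 2613 (.leaf (2632, 26, 45)) (.leaf (4112, 0, 0))) (.node 2615 (.leaf (4114, 0, 0)) (.leaf (3420, 201, 81))))) (.node 2620 (.node 2618 (.node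 2617 (.leaf (4116, 0, 0)) (.leaf (468, 105, 89))) (.node 2619 (.leaf (3285, 140, 82)) (.leaf (4119, 0, 0)))) (.node 2622 (.node 2621 (.leaf (4120, 0, 0)) (.leaf (3367, 45, 60))) (.node 2623 (.leaf (1751, 90, 55)) (.leaf (1638, 252, 3)))))))

def tEX_82 : BT (ℕ × ℕ × ℕ) := (.node 2640 (.node 2632 (.node 2628 (.node 2626 (.node 2625 (.leaf (4124, 0, 0)) (.leaf (4125, 0, 0))) (.node 2627 (.leaf (3667, 176, 42)) (.leaf (1425, 241, 57)))) (.node 2630 (.node 2629 (.leaf (4129, 0, 0)) (.leaf (4131, 0, 0))) (.node 2631 (.leaf (1629, 260, 70)) (.leaf (4133, 0, 0))))) (.node 2636 (.node 2634 (.node 2633 (.leaf (3914, 238, 17)) (.leaf (2628, 264, 10))) (.node 2635 (.leaf (2381, 257, 37)) (.leaf (4136, 0, 0)))) (.node 2638 (.node 2637 (.leaf (2288, 210, 18)) (.leaf (4138, 0, 0))) (.node 2639 (.leaf (2974, 155, 46)) (.leaf (4140, 0, 0)))))) (.node 2648 (.node 2644 (.node 2642 (.node 2641 (.leaf (4142,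 0, 0)) (.leaf (4144, 0, 0))) (.node 2643 (.leaf (117, 138, 78)) (.leaf (3472, 113, 22)))) (.node 2646 (.node 2645 (.leaf (4145, 0, 0)) (.leaf (4146, 0, 0))) (.node 2647 (.leaf (4147, 0, 0)) (.leaf (4149, 0, 0))))) (.node 2652 (.node 2650 (.node 2649 (.leaf (4150, 0, 0)) (.leaf (4152, 0, 0))) (.node 2651 (.leaf (4154, 0, 0)) (.leaf (3991, 226, 38)))) (.node 2654 (.node 2653 (.leaf (2085, 264, 89)) (.leaf (4157, 0, 0))) (.node 2655 (.leaf (4108, 245, 13)) (.leaf (4159, 0, 0)))))))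

def tEX_83 : BT (ℕ × ℕ × ℕ) := (.node 2672 (.node 2664 (.node 2660 (.node 2658 (.node 2657 (.leaf (4160, 0, 0)) (.leaf (4162, 0, 0))) (.node 2659 (.leaf (4164, 0, 0)) (.leaf (4165, 0, 0)))) (.node 2662 (.node 2661 (.leaf (4166, 0, 0)) (.leaf (4168, 0, 0))) (.node 2663 (.leaf (1708, 30, 36)) (.leaf (3228, 236, 20))))) (.node 2668 (.node 2666 (.node 2665 (.leaf (4170, 0, 0)) (.leaf (297, 45, 42))) (.node 2667 (.leaf (4172, 0, 0)) (.leaf (4173, 0, 0)))) (.node 2670 (.node 2669 (.leaf (4175, 0, 0)) (.leaf (4177, 0, 0))) (.node 2671 (.leaf (2725, 88, 61)) (.leaf (4179, 0, 0)))))) (.node 2680 (.node 2676 (.node 2674 (.node 2673 (.leaf (4181, 0, 0)) (.leaf (4182, 0, 0))) (.node 2675 (.leaf (4183, 0, 0)) (.leaf (4185, 0, 0)))) (.node 2678 (.node 2677 (.leaf (3522, 149, 70)) (.leaf (3772, 47, 72))) (.node 2679 (.leaf (3757, 197, 12)) (.leaf (3858, 62, 73))))) (.node 2684 (.node 2682 (.node 2681 (.leaf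 (3682, 123, 1)) (.leaf (29, 266, 20))) (.node 2683 (.leaf (992, 101, 54)) (.leaf (4191, 0, 0)))) (.node 2686 (.node 2685 (.leaf (4193, 0, 0)) (.leaf (2487, 198, 60))) (.node 2687 (.leaf (3082, 253, 86)) (.leaf (3512, 2, 87)))))))

def tEX_84 : BT (ℕ × ℕ × ℕ) := (.node 2704 (.node 2696 (.node 2692 (.node 2690 (.node 2689 (.leaf (4197, 0, 0)) (.leaf (1474, 173, 20))) (.node 2691 (.leaf (4199, 0, 0)) (.leaf (4201, 0, 0)))) (.node 2694 (.node 2693 (.leaf (4202, 0, 0)) (.leaf (843, 137, 70))) (.node 2695 (.leaf (1459, 121, 0)) (.leaf (4205, 0, 0))))) (.node 2700 (.node 2698 (.node 2697 (.leaf (4206, 0, 0)) (.leaf (4207, 0, 0))) (.node 2699 (.leaf (4209, 0, 0)) (.leaf (4048, 245, 65)))) (.node 2702 (.node 2701 (.leaf (4212, 0, 0)) (.leaf (4076, 109, 34))) (.node 2703 (.leaf (4214, 0, 0)) (.leaf (711, 105, 23)))))) (.node 2712 (.node 2708 (.node 2706 (.node 2705 (.leaf (4217, 0, 0)) (.leaf (4218,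 0, 0))) (.node 2707 (.leaf (1066, 105, 45)) (.leaf (4219, 0, 0)))) (.node 2710 (.node 2709 (.leaf (4220, 0, 0)) (.leaf (4222, 0, 0))) (.node 2711 (.leaf (4224, 0, 0)) (.leaf (4226, 0, 0))))) (.node 2716 (.node 2714 (.node 2713 (.leaf (452, 138, 30)) (.leaf (4228, 0, 0))) (.node 2715 (.leaf (852, 251, 36)) (.leaf (3136, 52, 18)))) (.node 2718 (.node 2717 (.leaf (2320, 168, 10)) (.leaf (4231, 0, 0))) (.node 2719 (.leaf (4233, 0, 0)) (.leaf (891, 212, 88)))))))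

def tEX_85 : BT (ℕ × ℕ × ℕ) := (.node 2736 (.node 2728 (.node 2724 (.node 2722 (.node 2721 (.leaf (4235, 0, 0)) (.leaf (1609, 180, 53))) (.node 2723 (.leaf (4236, 0, 0)) (.leaf (3685, 190, 27)))) (.node 2726 (.node 2725 (.leaf (2306, 162, 28)) (.leaf (4239, 0, 0))) (.node 2727 (.leaf (3511, 203, 37)) (.leaf (1675, 187, 27))))) (.node 2732 (.node 2730 (.node 2729 (.leaf (4241, 0, 0)) (.leaf (4243, 0, 0))) (.node 2731 (.leaf (4245, 0, 0)) (.leaf (4247, 0, 0)))) (.node 2734 (.node 2733 (.leaf (4249, 0, 0)) (.leaf (3814, 59, 54))) (.node 2735 (.leaf (2010, 201, 34)) (.leaf (1547, 6, 48)))))) (.node 2744 (.node 2740 (.node 2738 (.node 2737 (.leaf (4252, 0, 0)) (.leaf (2363, 264, 80))) (.node 2739 (.leaf (4254, 0, 0)) (.leaf (3027, 74, 60)))) (.node 2742 (.node 2741 (.leaf (4257, 0, 0)) (.leaf (4259, 0, 0))) (.node 2743 (.leaf (4261, 0, 0)) (.leaf (2625, 48, 16))))) (.node 2748 (.node 2746 (.node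 2745 (.leaf (4264, 0, 0)) (.leaf (4265, 0, 0))) (.node 2747 (.leaf (4266, 0, 0)) (.leaf (4267, 0, 0)))) (.node 2750 (.node 2749 (.leaf (4269, 0, 0)) (.leaf (4271, 0, 0))) (.node 2751 (.leaf (4273, 0, 0)) (.leaf (2291, 257, 73)))))))

def tEX_86 : BT (ℕ × ℕ × ℕ) := (.node 2768 (.node 2760 (.node 2756 (.node 2754 (.node 2753 (.leaf (1871, 29, 59)) (.leaf (4276, 0, 0))) (.node 2755 (.leaf (2383, 226, 11)) (.leaf (1539, 119, 79)))) (.node 2758 (.node 2757 (.leaf (4278, 0, 0)) (.leaf (4279, 0, 0))) (.node 2759 (.leaf (537, 70, 58)) (.leaf (4281, 0, 0))))) (.node 2764 (.node 2762 (.node 2761 (.leaf (2351, 190, 19)) (.leaf (3114, 61, 82))) (.node 2763 (.leaf (4285, 0, 0)) (.leaf (307, 13, 64)))) (.node 2766 (.node 2765 (.leaf (1341, 217, 56)) (.leaf (3227, 37, 63))) (.node 2767 (.leaf (4289, 0, 0)) (.leaf (538, 87, 30)))))) (.node 2776 (.node 2772 (.node 2770 (.node 2769 (.leaf (4290, 0, 0)) (.leaf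 (4292, 0, 0))) (.node 2771 (.leaf (4294, 0, 0)) (.leaf (4295, 0, 0)))) (.node 2774 (.node 2773 (.leaf (4296, 0, 0)) (.leaf (591, 231, 11))) (.node 2775 (.leaf (2981, 231, 64)) (.leaf (4298, 0, 0))))) (.node 2780 (.node 2778 (.node 2777 (.leaf (818, 37, 8)) (.leaf (4300, 0, 0))) (.node 2779 (.leaf (3320, 128, 52)) (.leaf (3028, 255, 40)))) (.node 2782 (.node 2781 (.leaf (4304, 0, 0)) (.leaf (3731, 241, 9))) (.node 2783 (.leaf (4305, 0, 0)) (.leaf (4306, 0, 0)))))))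

def tEX_87 : BT (ℕ × ℕ × ℕ) := (.node 2800 (.node 2792 (.node 2788 (.node 2786 (.node 2785 (.leaf (3205, 11, 27)) (.leaf (2394, 116, 38))) (.node 2787 (.leaf (3179, 56, 76)) (.leaf (4308, 0, 0)))) (.node 2790 (.node 2789 (.leaf (2779, 245, 38)) (.leaf (3273, 175, 5))) (.node 2791 (.leaf (4311, 0, 0)) (.leaf (4313, 0, 0))))) (.node 2796 (.node 2794 (.node 2793 (.leaf (4315, 0, 0)) (.leaf (1645, 60, 55))) (.node 2795 (.leaf (3181, 231, 47)) (.leaf (4318, 0, 0)))) (.node 2798 (.node 2797 (.leaf (1596, 100, 47)) (.leaf (3416, 17, 50))) (.node 2799 (.leaf (3519, 24, 58)) (.leaf (1521, 198, 60)))))) (.node 2808 (.node 2804 (.node 2802 (.node 2801 (.leaf (2656, 124, 48)) (.leaf (2169, 160, 69))) (.node 2803 (.leaf (4323, 0, 0)) (.leaf (2464, 221, 21)))) (.node 2806 (.node 2805 (.leaf (4324, 0, 0)) (.leaf (4325, 0, 0))) (.node 2807 (.leaf (4326, 0, 0)) (.leaf (1841, 243, 72))))) (.node 2812 (.node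 2810 (.node 2809 (.leaf (3804, 237, 88)) (.leaf (3765, 28, 34))) (.node 2811 (.leaf (3921, 50, 48)) (.leaf (4330, 0, 0)))) (.node 2814 (.node 2813 (.leaf (339, 214, 41)) (.leaf (2857, 24, 86))) (.node 2815 (.leaf (4333, 0, 0)) (.leaf (909, 262, 45)))))))

def tEX_88 : BT (ℕ × ℕ × ℕ) := (.node 2832 (.node 2824 (.node 2820 (.node 2818 (.node 2817 (.leaf (4335, 0, 0)) (.leaf (1873, 265, 48))) (.node 2819 (.leaf (1266, 64, 19)) (.leaf (4338, 0, 0)))) (.node 2822 (.node 2821 (.leaf (4339, 0, 0)) (.leaf (4340, 0, 0))) (.node 2823 (.leaf (938, 182, 31)) (.leaf (4342, 0, 0))))) (.node 2828 (.node 2826 (.node 2825 (.leaf (4213, 140, 72)) (.leaf (4344, 0, 0))) (.node 2827 (.leaf (691, 271, 39)) (.leaf (4346, 0, 0)))) (.node 2830 (.node 2829 (.leaf (4348, 0, 0)) (.leaf (4349, 0, 0))) (.node 2831 (.leaf (4351, 0, 0)) (.leaf (3284, 115, 5)))))) (.node 2840 (.node 2836 (.node 2834 (.node 2833 (.leaf (4354,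 0, 0)) (.leaf (4355, 0, 0))) (.node 2835 (.leaf (135, 191, 2)) (.leaf (739, 268, 20)))) (.node 2838 (.node 2837 (.leaf (657, 230, 45)) (.leaf (3642, 107, 85))) (.node 2839 (.leaf (1834, 217, 50)) (.leaf (4361, 0, 0))))) (.node 2844 (.node 2842 (.node 2841 (.leaf (3089, 182, 15)) (.leaf (4153, 258, 46))) (.node 2843 (.leaf (1926, 228, 73)) (.leaf (4362, 0, 0)))) (.node 2846 (.node 2845 (.leaf (163, 66, 19)) (.leaf (4364, 0, 0))) (.node 2847 (.leaf (1350, 269, 11)) (.leaf (4367, 0, 0)))))))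

def tEX_89 : BT (ℕ × ℕ × ℕ) := (.node 2864 (.node 2856 (.node 2852 (.node 2850 (.node 2849 (.leaf (4369, 0, 0)) (.leaf (4371, 0, 0))) (.node 2851 (.leaf (1697, 160, 4)) (.leaf (4187, 271, 29)))) (.node 2854 (.node 2853 (.leaf (4375, 0, 0)) (.leaf (4376, 0, 0))) (.node 2855 (.leaf (4377, 0, 0)) (.leaf (2443, 36, 63))))) (.node 2860 (.node 2858 (.node 2857 (.leaf (4379, 0, 0)) (.leaf (4381, 0, 0))) (.node 2859 (.leaf (301, 233, 38)) (.leaf (4384, 0, 0)))) (.node 2862 (.node 2861 (.leaf (4385, 0, 0)) (.leaf (4387, 0, 0))) (.node 2863 (.leaf (4389, 0, 0)) (.leaf (2049, 109, 51)))))) (.node 2872 (.node 2868 (.node 2866 (.node 2865 (.leaf (4391, 0, 0)) (.leaf (4392, 0, 0))) (.node 2867 (.leaf (3835, 67, 33)) (.leaf (3932, 267, 40)))) (.node 2870 (.node 2869 (.leaf (420, 171, 16)) (.leaf (4395, 0, 0))) (.node 2871 (.leaf (3793, 47, 6)) (.leaf (4180, 186, 18))))) (.node 2876 (.node 2874 (.node 2873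 (.leaf (1783, 157, 87)) (.leaf (4399, 0, 0))) (.node 2875 (.leaf (3087, 228, 30)) (.leaf (4401, 0, 0)))) (.node 2878 (.node 2877 (.leaf (4402, 0, 0)) (.leaf (4404, 0, 0))) (.node 2879 (.leaf (3493, 91, 18)) (.leaf (1730, 193, 46)))))))

def tEX_90 : BT (ℕ × ℕ × ℕ) := (.node 2896 (.node 2888 (.node 2884 (.node 2882 (.node 2881 (.leaf (4405, 0, 0)) (.leaf (4407, 0, 0))) (.node 2883 (.leaf (4409, 0, 0)) (.leaf (4411, 0, 0)))) (.node 2886 (.node 2885 (.leaf (275, 90, 74)) (.leaf (4413, 0, 0))) (.node 2887 (.leaf (4415, 0, 0)) (.leaf (4416, 0, 0))))) (.node 2892 (.node 2890 (.node 2889 (.leaf (4417, 0, 0)) (.leaf (4418, 0, 0))) (.node 2891 (.leaf (4420, 0, 0)) (.leaf (4422, 0, 0)))) (.node 2894 (.node 2893 (.leaf (1451, 118, 42)) (.leaf (3230, 117, 12))) (.node 2895 (.leaf (4425, 0, 0)) (.leaf (289, 60, 68)))))) (.node 2904 (.node 2900 (.node 2898 (.node 2897 (.leaf (3981, 99, 34)) (.leaf (4427,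 0, 0))) (.node 2899 (.leaf (4429, 0, 0)) (.leaf (119, 55, 24)))) (.node 2902 (.node 2901 (.leaf (1299, 70, 26)) (.leaf (2650, 171, 43))) (.node 2903 (.leaf (4432, 0, 0)) (.leaf (4434, 0, 0))))) (.node 2908 (.node 2906 (.node 2905 (.leaf (4436, 0, 0)) (.leaf (4438, 0, 0))) (.node 2907 (.leaf (2074, 28, 78)) (.leaf (1988, 148, 49)))) (.node 2910 (.node 2909 (.leaf (4441, 0, 0)) (.leaf (3825, 187, 34))) (.node 2911 (.leaf (4444, 0, 0)) (.leaf (845, 238, 38)))))))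

def tEX_91 : BT (ℕ × ℕ × ℕ) := (.node 2928 (.node 2920 (.node 2916 (.node 2914 (.node 2913 (.leaf (4447, 0, 0)) (.leaf (4448, 0, 0))) (.node 2915 (.leaf (3077, 159, 5)) (.leaf (4058, 16, 11)))) (.node 2918 (.node 2917 (.leaf (2969, 269, 26)) (.leaf (1477, 31, 53))) (.node 2919 (.leaf (4155, 90, 51)) (.leaf (4454, 0, 0))))) (.node 2924 (.node 2922 (.node 2921 (.leaf (4455, 0, 0)) (.leaf (4457, 0, 0))) (.node 2923 (.leaf (4151, 216, 5)) (.leaf (4459, 0, 0)))) (.node 2926 (.node 2925 (.leaf (4461, 0, 0)) (.leaf (4462, 0, 0))) (.node 2927 (.leaf (3755, 135, 60)) (.leaf (2301, 65, 37)))))) (.node 2936 (.node 2932 (.node 2930 (.node 2929 (.leaf (309, 115, 78)) (.leaf (4467, 0, 0))) (.node 2931 (.leaf (4358, 205, 89)) (.leaf (552, 127, 26)))) (.node 2934 (.node 2933 (.leaf (3832, 256, 47)) (.leaf (139, 17, 19))) (.node 2935 (.leaf (4088, 86, 7)) (.leaf (2820, 135, 25))))) (.node 2940 (.node 2938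 (.node 2937 (.leaf (4470, 0, 0)) (.leaf (4471, 0, 0))) (.node 2939 (.leaf (4472, 0, 0)) (.leaf (4474, 0, 0)))) (.node 2942 (.node 2941 (.leaf (3860, 144, 29)) (.leaf (4476, 0, 0))) (.node 2943 (.leaf (4478, 0, 0)) (.leaf (3133, 23, 37)))))))

def tEX_92 : BT (ℕ × ℕ × ℕ) := (.node 2960 (.node 2952 (.node 2948 (.node 2946 (.node 2945 (.leaf (3566, 49, 47)) (.leaf (2264, 80, 59))) (.node 2947 (.leaf (1753, 265, 77)) (.leaf (4482, 0, 0)))) (.node 2950 (.node 2949 (.leaf (4484, 0, 0)) (.leaf (4250, 156, 20))) (.node 2951 (.leaf (4439, 220, 3)) (.leaf (4486, 0, 0))))) (.node 2956 (.node 2954 (.node 2953 (.leaf (4487, 0, 0)) (.leaf (4488, 0, 0))) (.node 2955 (.leaf (4490, 0, 0)) (.leaf (4492, 0, 0)))) (.node 2958 (.node 2957 (.leaf (2884, 227, 54)) (.leaf (4380, 240, 71))) (.node 2959 (.leaf (4494, 0, 0)) (.leaf (2781, 201, 55)))))) (.node 2968 (.node 2964 (.node 2962 (.node 2961 (.leaf (3035, 22,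 83)) (.leaf (4496, 0, 0))) (.node 2963 (.leaf (1896, 102, 16)) (.leaf (4498, 0, 0)))) (.node 2966 (.node 2965 (.leaf (4500, 0, 0)) (.leaf (1155, 252, 25))) (.node 2967 (.leaf (4502, 0, 0)) (.leaf (171, 265, 22))))) (.node 2972 (.node 2970 (.node 2969 (.leaf (335, 133, 8)) (.leaf (4504, 0, 0))) (.node 2971 (.leaf (1537, 148, 82)) (.leaf (3209, 214, 37)))) (.node 2974 (.node 2973 (.leaf (3854, 132, 22)) (.leaf (4508, 0, 0))) (.node 2975 (.leaf (4510, 0, 0)) (.leaf (4512, 0, 0)))))))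

def tEX_93 : BT (ℕ × ℕ × ℕ) := (.node 2992 (.node 2984 (.node 2980 (.node 2978 (.node 2977 (.leaf (2881, 217, 50)) (.leaf (3613, 14, 6))) (.node 2979 (.leaf (215, 114, 29)) (.leaf (1666, 211, 17)))) (.node 2982 (.node 2981 (.leaf (437, 50, 78)) (.leaf (4516, 0, 0))) (.node 2983 (.leaf (4518, 0, 0)) (.leaf (4520, 0, 0))))) (.node 2988 (.node 2986 (.node 2985 (.leaf (4522, 0, 0)) (.leaf (4523, 0, 0))) (.node 2987 (.leaf (4525, 0, 0)) (.leaf (4527, 0, 0)))) (.node 2990 (.node 2989 (.leaf (4528, 0, 0)) (.leaf (4529, 0, 0))) (.node 2991 (.leaf (4530, 0, 0)) (.leaf (4531, 0, 0)))))) (.node 3000 (.node 2996 (.node 2994 (.node 2993 (.leaf (4532, 0, 0)) (.leaf (4533, 0, 0))) (.node 2995 (.leaf (4535, 0, 0)) (.leaf (4536, 0, 0)))) (.node 2998 (.node 2997 (.leaf (1417, 90, 78)) (.leaf (3465, 41, 52))) (.node 2999 (.leaf (4539, 0, 0)) (.leaf (4540, 0, 0))))) (.node 3004 (.node 3002 (.node 3001 (.leaf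 (4541, 0, 0)) (.leaf (4543, 0, 0))) (.node 3003 (.leaf (4544, 0, 0)) (.leaf (4546, 0, 0)))) (.node 3006 (.node 3005 (.leaf (4548, 0, 0)) (.leaf (4550, 0, 0))) (.node 3007 (.leaf (4161, 176, 7)) (.leaf (4552, 0, 0)))))))

def tEX_94 : BT (ℕ × ℕ × ℕ) := (.node 3024 (.node 3016 (.node 3012 (.node 3010 (.node 3009 (.leaf (4554, 0, 0)) (.leaf (951, 270, 89))) (.node 3011 (.leaf (4555, 0, 0)) (.leaf (2550, 211, 48)))) (.node 3014 (.node 3013 (.leaf (435, 153, 59)) (.leaf (1434, 224, 28))) (.node 3015 (.leaf (3394, 173, 18)) (.leaf (2891, 59, 62))))) (.node 3020 (.node 3018 (.node 3017 (.leaf (2596, 145, 59)) (.leaf (4383, 39, 79))) (.node 3019 (.leaf (2607, 231, 57)) (.leaf (2417, 3, 76)))) (.node 3022 (.node 3021 (.leaf (1166, 32, 6)) (.leaf (4561, 0, 0))) (.node 3023 (.leaf (4563, 0, 0)) (.leaf (2274, 136, 31)))))) (.node 3032 (.node 3028 (.node 3026 (.node 3025 (.leaf (3000, 188, 18)) (.leaf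 (4566, 0, 0))) (.node 3027 (.leaf (4196, 11, 0)) (.leaf (4567, 0, 0)))) (.node 3030 (.node 3029 (.leaf (4569, 0, 0)) (.leaf (3070, 239, 51))) (.node 3031 (.leaf (1013, 240, 26)) (.leaf (4572, 0, 0))))) (.node 3036 (.node 3034 (.node 3033 (.leaf (523, 116, 40)) (.leaf (1132, 33, 42))) (.node 3035 (.leaf (3159, 215, 28)) (.leaf (2380, 209, 33)))) (.node 3038 (.node 3037 (.leaf (4574, 0, 0)) (.leaf (4576, 0, 0))) (.node 3039 (.leaf (1583, 237, 71)) (.leaf (1693, 130, 35)))))))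

def tEX_95 : BT (ℕ × ℕ × ℕ) := (.node 3056 (.node 3048 (.node 3044 (.node 3042 (.node 3041 (.leaf (1787, 234, 61)) (.leaf (4579, 0, 0))) (.node 3043 (.leaf (4581, 0, 0)) (.leaf (3345, 253, 27)))) (.node 3046 (.node 3045 (.leaf (4583, 0, 0)) (.leaf (4585, 0, 0))) (.node 3047 (.leaf (4586, 0, 0)) (.leaf (4588, 0, 0))))) (.node 3052 (.node 3050 (.node 3049 (.leaf (4463, 83, 25)) (.leaf (4590, 0, 0))) (.node 3051 (.leaf (1163, 121, 62)) (.leaf (2517, 116, 74)))) (.node 3054 (.node 3053 (.leaf (4509, 165, 76)) (.leaf (544, 28, 22))) (.node 3055 (.leaf (4594, 0, 0)) (.leaf (4596, 0, 0)))))) (.node 3064 (.node 3060 (.node 3058 (.node 3057 (.leaf (4598, 0, 0)) (.leaf (1393, 52, 3))) (.node 3059 (.leaf (2845, 97, 54)) (.leaf (1449, 155, 50)))) (.node 3062 (.node 3061 (.leaf (4599, 0, 0)) (.leaf (4057, 67, 1))) (.node 3063 (.leaf (733, 267, 61)) (.leaf (4600, 0, 0))))) (.node 3068 (.node 3066 (.node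 3065 (.leaf (4601, 0, 0)) (.leaf (4602, 0, 0))) (.node 3067 (.leaf (4603, 0, 0)) (.leaf (4605, 0, 0)))) (.node 3070 (.node 3069 (.leaf (3395, 169, 3)) (.leaf (4607, 0, 0))) (.node 3071 (.leaf (2477, 46, 46)) (.leaf (4609, 0, 0)))))))

def tEX_96 : BT (ℕ × ℕ × ℕ) := (.node 3088 (.node 3080 (.node 3076 (.node 3074 (.node 3073 (.leaf (4610, 0, 0)) (.leaf (4611, 0, 0))) (.node 3075 (.leaf (3555, 45, 45)) (.leaf (125, 86, 79)))) (.node 3078 (.node 3077 (.leaf (4309, 142, 65)) (.leaf (4613, 0, 0))) (.node 3079 (.leaf (1745, 256, 66)) (.leaf (4615, 0, 0))))) (.node 3084 (.node 3082 (.node 3081 (.leaf (4617, 0, 0)) (.leaf (1890, 24, 17))) (.node 3083 (.leaf (4619, 0, 0)) (.leaf (4419, 11, 65)))) (.node 3086 (.node 3085 (.leaf (4621, 0, 0)) (.leaf (1293, 157, 46))) (.node 3087 (.leaf (3617, 226, 70)) (.leaf (1611, 149, 50)))))) (.node 3096 (.node 3092 (.node 3090 (.node 3089 (.leaf (4625, 0, 0)) (.leaf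 (4626, 0, 0))) (.node 3091 (.leaf (4628, 0, 0)) (.leaf (4629, 0, 0)))) (.node 3094 (.node 3093 (.leaf (4631, 0, 0)) (.leaf (3740, 79, 75))) (.node 3095 (.leaf (2855, 113, 46)) (.leaf (4633, 0, 0))))) (.node 3100 (.node 3098 (.node 3097 (.leaf (4634, 0, 0)) (.leaf (4635, 0, 0))) (.node 3099 (.leaf (2125, 129, 8)) (.leaf (4564, 114, 20)))) (.node 3102 (.node 3101 (.leaf (4638, 0, 0)) (.leaf (4640, 0, 0))) (.node 3103 (.leaf (4641, 0, 0)) (.leaf (4642, 0, 0)))))))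

def tEX_97 : BT (ℕ × ℕ × ℕ) := (.node 3120 (.node 3112 (.node 3108 (.node 3106 (.node 3105 (.leaf (3928, 41, 56)) (.leaf (3676, 13, 33))) (.node 3107 (.leaf (4645, 0, 0)) (.leaf (3403, 202, 1)))) (.node 3110 (.node 3109 (.leaf (2571, 264, 5)) (.leaf (4647, 0, 0))) (.node 3111 (.leaf (824, 238, 28)) (.leaf (3452, 47, 52))))) (.node 3116 (.node 3114 (.node 3113 (.leaf (2823, 264, 49)) (.leaf (4652, 0, 0))) (.node 3115 (.leaf (1276, 155, 82)) (.leaf (175, 68, 59)))) (.node 3118 (.node 3117 (.leaf (4655, 0, 0)) (.leaf (4656, 0, 0))) (.node 3119 (.leaf (4658, 0, 0)) (.leaf (4659, 0, 0)))))) (.node 3128 (.node 3124 (.node 3122 (.node 3121 (.leaf (4660, 0, 0)) (.leaf (3913, 111, 26))) (.node 3123 (.leaf (3240, 135, 53)) (.leaf (4664, 0, 0)))) (.node 3126 (.node 3125 (.leaf (1192, 201, 1)) (.leaf (3971, 264, 29))) (.node 3127 (.leaf (3744, 29, 24)) (.leaf (4667, 0, 0))))) (.node 3132 (.node 3130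 (.node 3129 (.leaf (4668, 0, 0)) (.leaf (2835, 70, 23))) (.node 3131 (.leaf (4158, 257, 82)) (.leaf (4670, 0, 0)))) (.node 3134 (.node 3133 (.leaf (4672, 0, 0)) (.leaf (494, 271, 17))) (.node 3135 (.leaf (2534, 183, 56)) (.leaf (2920, 100, 37)))))))

def tEX_98 : BT (ℕ × ℕ × ℕ) := (.node 3152 (.node 3144 (.node 3140 (.node 3138 (.node 3137 (.leaf (4675, 0, 0)) (.leaf (185, 32, 42))) (.node 3139 (.leaf (4677, 0, 0)) (.leaf (4678, 0, 0)))) (.node 3142 (.node 3141 (.leaf (2434, 33, 0)) (.leaf (3951, 124, 39))) (.node 3143 (.leaf (1287, 248, 45)) (.leaf (4681, 0, 0))))) (.node 3148 (.node 3146 (.node 3145 (.leaf (4682, 0, 0)) (.leaf (4513, 204, 22))) (.node 3147 (.leaf (4685, 0, 0)) (.leaf (4686, 0, 0)))) (.node 3150 (.node 3149 (.leaf (4524, 146, 36)) (.leaf (4689, 0, 0))) (.node 3151 (.leaf (4691, 0, 0)) (.leaf (4693, 0, 0)))))) (.node 3160 (.node 3156 (.node 3154 (.node 3153 (.leaf (4135,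 18, 37)) (.leaf (4694, 0, 0))) (.node 3155 (.leaf (3409, 66, 7)) (.leaf (4697, 0, 0)))) (.node 3158 (.node 3157 (.leaf (4698, 0, 0)) (.leaf (1654, 235, 23))) (.node 3159 (.leaf (4699, 0, 0)) (.leaf (2253, 120, 68))))) (.node 3164 (.node 3162 (.node 3161 (.leaf (4700, 0, 0)) (.leaf (2099, 50, 39))) (.node 3163 (.leaf (639, 222, 85)) (.leaf (4703, 0, 0)))) (.node 3166 (.node 3165 (.leaf (4578, 103, 8)) (.leaf (583, 81, 30))) (.node 3167 (.leaf (4095, 40, 81)) (.leaf (4591, 168, 31)))))))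

def tEX_99 : BT (ℕ × ℕ × ℕ) := (.node 3184 (.node 3176 (.node 3172 (.node 3170 (.node 3169 (.leaf (4705, 0, 0)) (.leaf (1345, 7, 15))) (.node 3171 (.leaf (4707, 0, 0)) (.leaf (4708, 0, 0)))) (.node 3174 (.node 3173 (.leaf (2862, 71, 33)) (.leaf (4711, 0, 0))) (.node 3175 (.leaf (4712, 0, 0)) (.leaf (4714, 0, 0))))) (.node 3180 (.node 3178 (.node 3177 (.leaf (1364, 140, 11)) (.leaf (2537, 141, 43))) (.node 3179 (.leaf (3816, 251, 3)) (.leaf (4718, 0, 0)))) (.node 3182 (.node 3181 (.leaf (2392, 41, 53)) (.leaf (2210, 114, 40))) (.node 3183 (.leaf (4719, 0, 0)) (.leaf (4720, 0, 0)))))) (.node 3192 (.node 3188 (.node 3186 (.node 3185 (.leaf (4722, 0, 0)) (.leaf (4723, 0, 0))) (.node 3187 (.leaf (4724, 0, 0)) (.leaf (4725, 0, 0)))) (.node 3190 (.node 3189 (.leaf (4726, 0, 0)) (.leaf (4192, 53, 64))) (.node 3191 (.leaf (4727, 0, 0)) (.leaf (4728, 0, 0))))) (.node 3196 (.node 3194 (.node 3193 (.leaf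 (1699, 206, 44)) (.leaf (3349, 179, 71))) (.node 3195 (.leaf (4730, 0, 0)) (.leaf (4731, 0, 0)))) (.node 3198 (.node 3197 (.leaf (4732, 0, 0)) (.leaf (4733, 0, 0))) (.node 3199 (.leaf (4735, 0, 0)) (.leaf (4176, 270, 68)))))))

def tEX_100 : BT (ℕ × ℕ × ℕ) := (.node 3216 (.node 3208 (.node 3204 (.node 3202 (.node 3201 (.leaf (4736, 0, 0)) (.leaf (2376, 239, 58))) (.node 3203 (.leaf (1295, 170, 78)) (.leaf (4737, 0, 0)))) (.node 3206 (.node 3205 (.leaf (4738, 0, 0)) (.leaf (2197, 2, 40))) (.node 3207 (.leaf (4739, 0, 0)) (.leaf (4741, 0, 0))))) (.node 3212 (.node 3210 (.node 3209 (.leaf (4010, 64, 56)) (.leaf (4743, 0, 0))) (.node 3211 (.leaf (4627, 197, 15)) (.leaf (1769, 180, 81)))) (.node 3214 (.node 3213 (.leaf (4746, 0, 0)) (.leaf (2512, 118, 43))) (.node 3215 (.leaf (4747, 0, 0)) (.leaf (4749, 0, 0)))))) (.node 3224 (.node 3220 (.node 3218 (.node 3217 (.leaf (230, 176, 19)) (.leaf (4752,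 0, 0))) (.node 3219 (.leaf (4347, 30, 70)) (.leaf (4753, 0, 0)))) (.node 3222 (.node 3221 (.leaf (262, 118, 11)) (.leaf (4240, 203, 45))) (.node 3223 (.leaf (4755, 0, 0)) (.leaf (4565, 244, 74))))) (.node 3228 (.node 3226 (.node 3225 (.leaf (1237, 203, 68)) (.leaf (3946, 171, 43))) (.node 3227 (.leaf (3392, 209, 1)) (.leaf (4760, 0, 0)))) (.node 3230 (.node 3229 (.leaf (4761, 0, 0)) (.leaf (63, 159, 80))) (.node 3231 (.leaf (1514, 46, 68)) (.leaf (4526, 253, 10)))))))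

def tEX_101 : BT (ℕ × ℕ × ℕ) := (.node 3248 (.node 3240 (.node 3236 (.node 3234 (.node 3233 (.leaf (4765, 0, 0)) (.leaf (4314, 147, 21))) (.node 3235 (.leaf (2035, 192, 34)) (.leaf (4768, 0, 0)))) (.node 3238 (.node 3237 (.leaf (4770, 0, 0)) (.leaf (533, 180, 19))) (.node 3239 (.leaf (4771, 0, 0)) (.leaf (4772, 0, 0))))) (.node 3244 (.node 3242 (.node 3241 (.leaf (2328, 89, 44)) (.leaf (1010, 163, 7))) (.node 3243 (.leaf (927, 161, 83)) (.leaf (4775, 0, 0)))) (.node 3246 (.node 3245 (.leaf (4776, 0, 0)) (.leaf (4777, 0, 0))) (.node 3247 (.leaf (948, 265, 58)) (.leaf (4780, 0, 0)))))) (.node 3256 (.node 3252 (.node 3250 (.node 3249 (.leaf (4781, 0, 0)) (.leaf (4397, 15, 28))) (.node 3251 (.leaf (4784, 0, 0)) (.leaf (1389, 271, 85)))) (.node 3254 (.node 3253 (.leaf (1685, 76, 1)) (.leaf (1948, 168, 10))) (.node 3255 (.leaf (4787, 0, 0)) (.leaf (4789, 0, 0))))) (.node 3260 (.node 3258 (.node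 3257 (.leaf (4791, 0, 0)) (.leaf (4792, 0, 0))) (.node 3259 (.leaf (3715, 108, 14)) (.leaf (4126, 69, 39)))) (.node 3262 (.node 3261 (.leaf (3866, 99, 58)) (.leaf (4519, 267, 40))) (.node 3263 (.leaf (4796, 0, 0)) (.leaf (4270, 231, 70)))))))

def tEX_102 : BT (ℕ × ℕ × ℕ) := (.node 3280 (.node 3272 (.node 3268 (.node 3266 (.node 3265 (.leaf (4616, 141, 83)) (.leaf (15, 22, 44))) (.node 3267 (.leaf (4800, 0, 0)) (.leaf (4802, 0, 0)))) (.node 3270 (.node 3269 (.leaf (3795, 215, 84)) (.leaf (2548, 257, 29))) (.node 3271 (.leaf (4363, 171, 20)) (.leaf (4806, 0, 0))))) (.node 3276 (.node 3274 (.node 3273 (.leaf (4303, 201, 83)) (.leaf (3571, 224, 87))) (.node 3275 (.leaf (4809, 0, 0)) (.leaf (2556, 166, 19)))) (.node 3278 (.node 3277 (.leaf (4549, 250, 54)) (.leaf (1282, 44, 79))) (.node 3279 (.leaf (2575, 53, 56)) (.leaf (3431, 98, 89)))))) (.node 3288 (.node 3284 (.node 3282 (.node 3281 (.leaf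 (4785, 155, 54)) (.leaf (4814, 0, 0))) (.node 3283 (.leaf (4767, 58, 63)) (.leaf (4815, 0, 0)))) (.node 3286 (.node 3285 (.leaf (4690, 214, 81)) (.leaf (4817, 0, 0))) (.node 3287 (.leaf (2785, 117, 38)) (.leaf (2402, 11, 18))))) (.node 3292 (.node 3290 (.node 3289 (.leaf (4819, 0, 0)) (.leaf (496, 66, 39))) (.node 3291 (.leaf (4820, 0, 0)) (.leaf (3594, 79, 58)))) (.node 3294 (.node 3293 (.leaf (2297, 105, 74)) (.leaf (2593, 263, 18))) (.node 3295 (.leaf (4821, 0, 0)) (.leaf (4823, 0, 0)))))))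

def tEX_103 : BT (ℕ × ℕ × ℕ) := (.node 3312 (.node 3304 (.node 3300 (.node 3298 (.node 3297 (.leaf (4824, 0, 0)) (.leaf (630, 258, 46))) (.node 3299 (.leaf (566, 2, 54)) (.leaf (4826, 0, 0)))) (.node 3302 (.node 3301 (.leaf (4828, 0, 0)) (.leaf (4830, 0, 0))) (.node 3303 (.leaf (1817, 101, 86)) (.leaf (4832, 0, 0))))) (.node 3308 (.node 3306 (.node 3305 (.leaf (4833, 0, 0)) (.leaf (4359, 100, 69))) (.node 3307 (.leaf (3258, 212, 81)) (.leaf (4835, 0, 0)))) (.node 3310 (.node 3309 (.leaf (4836, 0, 0)) (.leaf (4838, 0, 0))) (.node 3311 (.leaf (207, 77, 40)) (.leaf (4840, 0, 0)))))) (.node 3320 (.node 3316 (.node 3314 (.node 3313 (.leaf (4587, 86, 61)) (.leaf (4843, 0, 0))) (.node 3315 (.leaf (4844, 0, 0)) (.leaf (3038, 254, 38)))) (.node 3318 (.node 3317 (.leaf (4846, 0, 0)) (.leaf (3276, 225, 60))) (.node 3319 (.leaf (4848, 0, 0)) (.leaf (4850, 0, 0))))) (.node 3324 (.node 3322 (.node 3321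 (.leaf (4851, 0, 0)) (.leaf (2931, 268, 26))) (.node 3323 (.leaf (4852, 0, 0)) (.leaf (4709, 143, 14)))) (.node 3326 (.node 3325 (.leaf (4855, 0, 0)) (.leaf (4857, 0, 0))) (.node 3327 (.leaf (4744, 11, 33)) (.leaf (179, 57, 39)))))))

def tEX_104 : BT (ℕ × ℕ × ℕ) := (.node 3344 (.node 3336 (.node 3332 (.node 3330 (.node 3329 (.leaf (683, 218, 8)) (.leaf (2818, 39, 39))) (.node 3331 (.leaf (4861, 0, 0)) (.leaf (4322, 71, 44)))) (.node 3334 (.node 3333 (.leaf (4862, 0, 0)) (.leaf (3347, 225, 36))) (.node 3335 (.leaf (3734, 36, 15)) (.leaf (4839, 193, 60))))) (.node 3340 (.node 3338 (.node 3337 (.leaf (1749, 103, 30)) (.leaf (4865, 0, 0))) (.node 3339 (.leaf (603, 107, 22)) (.leaf (2928, 40, 43)))) (.node 3342 (.node 3341 (.leaf (4044, 9, 0)) (.leaf (4186, 180, 85))) (.node 3343 (.leaf (4372, 153, 54)) (.leaf (4867, 0, 0)))))) (.node 3352 (.node 3348 (.node 3346 (.node 3345 (.leaf (4869, 0,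 0)) (.leaf (4870, 0, 0))) (.node 3347 (.leaf (199, 5, 54)) (.leaf (3154, 216, 62)))) (.node 3350 (.node 3349 (.leaf (4378, 48, 19)) (.leaf (506, 15, 8))) (.node 3351 (.leaf (3278, 109, 68)) (.leaf (3790, 4, 79))))) (.node 3356 (.node 3354 (.node 3353 (.leaf (2792, 176, 89)) (.leaf (4877, 0, 0))) (.node 3355 (.leaf (4042, 35, 10)) (.leaf (2165, 151, 62)))) (.node 3358 (.node 3357 (.leaf (4880, 0, 0)) (.leaf (444, 31, 7))) (.node 3359 (.leaf (3107, 135, 72)) (.leaf (4882, 0, 0)))))))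

def tEX_105 : BT (ℕ × ℕ × ℕ) := (.node 3376 (.node 3368 (.node 3364 (.node 3362 (.node 3361 (.leaf (4884, 0, 0)) (.leaf (4169, 126, 88))) (.node 3363 (.leaf (2244, 36, 33)) (.leaf (4885, 0, 0)))) (.node 3366 (.node 3365 (.leaf (4887, 0, 0)) (.leaf (4238, 203, 32))) (.node 3367 (.leaf (2181, 161, 42)) (.leaf (4890, 0, 0))))) (.node 3372 (.node 3370 (.node 3369 (.leaf (3152, 10, 5)) (.leaf (4653, 35, 75))) (.node 3371 (.leaf (4891, 0, 0)) (.leaf (4893, 0, 0)))) (.node 3374 (.node 3373 (.leaf (3675, 131, 15)) (.leaf (4896, 0, 0))) (.node 3375 (.leaf (3969, 243, 85)) (.leaf (4898, 0, 0)))))) (.node 3384 (.node 3380 (.node 3378 (.node 3377 (.leaf (4899, 0, 0)) (.leaf (958, 154, 86))) (.node 3379 (.leaf (4901, 0, 0)) (.leaf (4903, 0, 0)))) (.node 3382 (.node 3381 (.leaf (4905, 0, 0)) (.leaf (2688, 99, 54))) (.node 3383 (.leaf (4227, 164, 60)) (.leaf (4368, 173, 83))))) (.node 3388 (.node 3386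 (.node 3385 (.leaf (4822, 268, 66)) (.leaf (4910, 0, 0))) (.node 3387 (.leaf (3895, 35, 4)) (.leaf (4287, 98, 59)))) (.node 3390 (.node 3389 (.leaf (4913, 0, 0)) (.leaf (3862, 43, 53))) (.node 3391 (.leaf (2112, 176, 41)) (.leaf (4916, 0, 0)))))))

def tEX_106 : BT (ℕ × ℕ × ℕ) := (.node 3408 (.node 3400 (.node 3396 (.node 3394 (.node 3393 (.leaf (4917, 0, 0)) (.leaf (837, 71, 32))) (.node 3395 (.leaf (1677, 144, 67)) (.leaf (4683, 78, 89)))) (.node 3398 (.node 3397 (.leaf (3192, 113, 21)) (.leaf (4920, 0, 0))) (.node 3399 (.leaf (1924, 199, 51)) (.leaf (1850, 216, 3))))) (.node 3404 (.node 3402 (.node 3401 (.leaf (4922, 0, 0)) (.leaf (3759, 220, 45))) (.node 3403 (.leaf (4924, 0, 0)) (.leaf (3369, 24, 54)))) (.node 3406 (.node 3405 (.leaf (2247, 43, 50)) (.leaf (2752, 210, 23))) (.node 3407 (.leaf (4729, 122, 7)) (.leaf (4223, 35, 27)))))) (.node 3416 (.node 3412 (.node 3410 (.node 3409 (.leaf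 (3355, 89, 56)) (.leaf (4927, 0, 0))) (.node 3411 (.leaf (4929, 0, 0)) (.leaf (4930, 0, 0)))) (.node 3414 (.node 3413 (.leaf (4234, 158, 35)) (.leaf (4847, 267, 35))) (.node 3415 (.leaf (4931, 0, 0)) (.leaf (2404, 213, 34))))) (.node 3420 (.node 3418 (.node 3417 (.leaf (3993, 225, 69)) (.leaf (4829, 188, 15))) (.node 3419 (.leaf (4935, 0, 0)) (.leaf (3552, 70, 42)))) (.node 3422 (.node 3421 (.leaf (4842, 225, 82)) (.leaf (4646, 32, 87))) (.node 3423 (.leaf (4938, 0, 0)) (.leaf (4024, 108, 37)))))))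

def tEX_107 : BT (ℕ × ℕ × ℕ) := (.node 3440 (.node 3432 (.node 3428 (.node 3426 (.node 3425 (.leaf (1058, 136, 26)) (.leaf (4107, 39, 43))) (.node 3427 (.leaf (4940, 0, 0)) (.leaf (2933, 17, 25)))) (.node 3430 (.node 3429 (.leaf (4942, 0, 0)) (.leaf (4943, 0, 0))) (.node 3431 (.leaf (4944, 0, 0)) (.leaf (4936, 189, 61))))) (.node 3436 (.node 3434 (.node 3433 (.leaf (715, 90, 30)) (.leaf (4947, 0, 0))) (.node 3435 (.leaf (4105, 227, 30)) (.leaf (4949, 0, 0)))) (.node 3438 (.node 3437 (.leaf (4759, 10, 58)) (.leaf (2314, 188, 30))) (.node 3439 (.leaf (4950, 0, 0)) (.leaf (2663, 108, 12)))))) (.node 3448 (.node 3444 (.node 3442 (.node 3441 (.leaf (3625, 207, 86)) (.leaf (4952, 0, 0))) (.node 3443 (.leaf (816, 205, 77)) (.leaf (4955, 0, 0)))) (.node 3446 (.node 3445 (.leaf (4957, 0, 0)) (.leaf (4959, 0, 0))) (.node 3447 (.leaf (4961, 0, 0)) (.leaf (4854, 88, 42))))) (.node 3452 (.node 3450 (.node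 3449 (.leaf (4964, 0, 0)) (.leaf (2853, 137, 59))) (.node 3451 (.leaf (4965, 0, 0)) (.leaf (902, 102, 1)))) (.node 3454 (.node 3453 (.leaf (2836, 88, 9)) (.leaf (4966, 0, 0))) (.node 3455 (.leaf (2500, 169, 35)) (.leaf (1837, 1, 51)))))))

def tEX_108 : BT (ℕ × ℕ × ℕ) := (.node 3472 (.node 3464 (.node 3460 (.node 3458 (.node 3457 (.leaf (4968, 0, 0)) (.leaf (4969, 0, 0))) (.node 3459 (.leaf (4971, 0, 0)) (.leaf (4973, 0, 0)))) (.node 3462 (.node 3461 (.leaf (4421, 154, 42)) (.leaf (940, 41, 50))) (.node 3463 (.leaf (4975, 0, 0)) (.leaf (4571, 138, 72))))) (.node 3468 (.node 3466 (.node 3465 (.leaf (4976, 0, 0)) (.leaf (4978, 0, 0))) (.node 3467 (.leaf (4866, 255, 34)) (.leaf (1234, 111, 88)))) (.node 3470 (.node 3469 (.leaf (977, 123, 86)) (.leaf (4410, 81, 39))) (.node 3471 (.leaf (4654, 146, 78)) (.leaf (1824, 70, 74)))))) (.node 3480 (.node 3476 (.node 3474 (.node 3473 (.leaf (4982, 0,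 0)) (.leaf (2433, 6, 65))) (.node 3475 (.leaf (4985, 0, 0)) (.leaf (4987, 0, 0)))) (.node 3478 (.node 3477 (.leaf (3524, 97, 39)) (.leaf (4988, 0, 0))) (.node 3479 (.leaf (4514, 177, 80)) (.leaf (4990, 0, 0))))) (.node 3484 (.node 3482 (.node 3481 (.leaf (4991, 0, 0)) (.leaf (4993, 0, 0))) (.node 3483 (.leaf (4995, 0, 0)) (.leaf (4997, 0, 0)))) (.node 3486 (.node 3485 (.leaf (3808, 251, 75)) (.leaf (4999, 0, 0))) (.node 3487 (.leaf (5001, 0, 0)) (.leaf (5002, 0, 0)))))))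

def tEX_109 : BT (ℕ × ℕ × ℕ) := (.node 3504 (.node 3496 (.node 3492 (.node 3490 (.node 3489 (.leaf (3806, 129, 40)) (.leaf (4016, 174, 76))) (.node 3491 (.leaf (4435, 3, 43)) (.leaf (4329, 95, 52)))) (.node 3494 (.node 3493 (.leaf (3647, 241, 56)) (.leaf (5005, 0, 0))) (.node 3495 (.leaf (5006, 0, 0)) (.leaf (3412, 161, 83))))) (.node 3500 (.node 3498 (.node 3497 (.leaf (3382, 237, 52)) (.leaf (5008, 0, 0))) (.node 3499 (.leaf (2526, 240, 57)) (.leaf (2361, 48, 72)))) (.node 3502 (.node 3501 (.leaf (1543, 222, 79)) (.leaf (5011, 0, 0))) (.node 3503 (.leaf (5013, 0, 0)) (.leaf (4353, 215, 12)))))) (.node 3512 (.node 3508 (.node 3506 (.node 3505 (.leaf (4879, 41, 44)) (.leaf (5016, 0, 0))) (.node 3507 (.leaf (1776, 33, 19)) (.leaf (5018, 0, 0)))) (.node 3510 (.node 3509 (.leaf (5019, 0, 0)) (.leaf (5021, 0, 0))) (.node 3511 (.leaf (2067, 107, 74)) (.leaf (5022, 0, 0))))) (.node 3516 (.node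 3514 (.node 3513 (.leaf (5023, 0, 0)) (.leaf (5025, 0, 0))) (.node 3515 (.leaf (2642, 266, 28)) (.leaf (1793, 223, 31)))) (.node 3518 (.node 3517 (.leaf (3844, 150, 72)) (.leaf (1376, 147, 88))) (.node 3519 (.leaf (4804, 1, 23)) (.leaf (3726, 263, 67)))))))

def tEX_110 : BT (ℕ × ℕ × ℕ) := (.node 3536 (.node 3528 (.node 3524 (.node 3522 (.node 3521 (.leaf (5027, 0, 0)) (.leaf (5028, 0, 0))) (.node 3523 (.leaf (4845, 257, 17)) (.leaf (643, 48, 28)))) (.node 3526 (.node 3525 (.leaf (5031, 0, 0)) (.leaf (5032, 0, 0))) (.node 3527 (.leaf (5033, 0, 0)) (.leaf (1898, 207, 37))))) (.node 3532 (.node 3530 (.node 3529 (.leaf (4562, 61, 11)) (.leaf (2182, 147, 24))) (.node 3531 (.leaf (1912, 33, 59)) (.leaf (4366, 8, 41)))) (.node 3534 (.node 3533 (.leaf (4515, 182, 59)) (.leaf (5036, 0, 0))) (.node 3535 (.leaf (4643, 27, 13)) (.leaf (1200, 145, 52)))))) (.node 3544 (.node 3540 (.node 3538 (.node 3537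 (.leaf (5038, 0, 0)) (.leaf (5039, 0, 0))) (.node 3539 (.leaf (5040, 0, 0)) (.leaf (81, 232, 24)))) (.node 3542 (.node 3541 (.leaf (2908, 43, 28)) (.leaf (5041, 0, 0))) (.node 3543 (.leaf (4650, 268, 42)) (.leaf (3363, 108, 37))))) (.node 3548 (.node 3546 (.node 3545 (.leaf (5043, 0, 0)) (.leaf (5045, 0, 0))) (.node 3547 (.leaf (5046, 0, 0)) (.leaf (5047, 0, 0)))) (.node 3550 (.node 3549 (.leaf (5048, 0, 0)) (.leaf (5049, 0, 0))) (.node 3551 (.leaf (3573, 203, 85)) (.leaf (5051, 0, 0)))))))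

def tEX_111 : BT (ℕ × ℕ × ℕ) := (.node 3568 (.node 3560 (.node 3556 (.node 3554 (.node 3553 (.leaf (2131, 63, 32)) (.leaf (2983, 38, 65))) (.node 3555 (.leaf (3142, 183, 7)) (.leaf (3639, 200, 82)))) (.node 3558 (.node 3557 (.leaf (3916, 268, 78)) (.leaf (3800, 252, 53))) (.node 3559 (.leaf (4644, 229, 6)) (.leaf (5055, 0, 0))))) (.node 3564 (.node 3562 (.node 3561 (.leaf (3653, 250, 80)) (.leaf (5056, 0, 0))) (.node 3563 (.leaf (3918, 17, 25)) (.leaf (177, 91, 81)))) (.node 3566 (.node 3565 (.leaf (5057, 0, 0)) (.leaf (2097, 264, 8))) (.node 3567 (.leaf (2061, 223, 54)) (.leaf (3517, 24, 81)))))) (.node 3576 (.node 3572 (.node 3570 (.node 3569 (.leaf (5059, 0, 0)) (.leaf (2839, 67, 79))) (.node 3571 (.leaf (2308, 267, 15)) (.leaf (4293, 26, 32)))) (.node 3574 (.node 3573 (.leaf (5062, 0, 0)) (.leaf (5064, 0, 0))) (.node 3575 (.leaf (3308, 64, 42)) (.leaf (1573, 200, 21))))) (.node 3580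 (.node 3578 (.node 3577 (.leaf (4221, 193, 77)) (.leaf (4751, 50, 81))) (.node 3579 (.leaf (5069, 0, 0)) (.leaf (187, 18, 16)))) (.node 3582 (.node 3581 (.leaf (5071, 0, 0)) (.leaf (2251, 240, 34))) (.node 3583 (.leaf (2037, 176, 3)) (.leaf (5074, 0, 0)))))))

def tEX_112 : BT (ℕ × ℕ × ℕ) := (.node 3600 (.node 3592 (.node 3588 (.node 3586 (.node 3585 (.leaf (5075, 0, 0)) (.leaf (5076, 0, 0))) (.node 3587 (.leaf (3888, 229, 51)) (.leaf (5079, 0, 0)))) (.node 3590 (.node 3589 (.leaf (5080, 0, 0)) (.leaf (5081, 0, 0))) (.node 3591 (.leaf (5083, 0, 0)) (.leaf (4393, 121, 4))))) (.node 3596 (.node 3594 (.node 3593 (.leaf (4246, 175, 88)) (.leaf (4211, 199, 4))) (.node 3595 (.leaf (5087, 0, 0)) (.leaf (5088, 0, 0)))) (.node 3598 (.node 3597 (.leaf (5090, 0, 0)) (.leaf (2776, 71, 26))) (.node 3599 (.leaf (3818, 268, 20)) (.leaf (515, 93, 68)))))) (.node 3608 (.node 3604 (.node 3602 (.node 3601 (.leaf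 (2059, 144, 4)) (.leaf (2227, 20, 44))) (.node 3603 (.leaf (5092, 0, 0)) (.leaf (4688, 94, 14)))) (.node 3606 (.node 3605 (.leaf (5094, 0, 0)) (.leaf (3727, 223, 11))) (.node 3607 (.leaf (3713, 240, 7)) (.leaf (5095, 0, 0))))) (.node 3612 (.node 3610 (.node 3609 (.leaf (5096, 0, 0)) (.leaf (4301, 221, 43))) (.node 3611 (.leaf (5098, 0, 0)) (.leaf (5100, 0, 0)))) (.node 3614 (.node 3613 (.leaf (2874, 30, 3)) (.leaf (5101, 0, 0))) (.node 3615 (.leaf (3775, 268, 12)) (.leaf (5103, 0, 0)))))))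

def tEX_113 : BT (ℕ × ℕ × ℕ) := (.node 3632 (.node 3624 (.node 3620 (.node 3618 (.node 3617 (.leaf (5104, 0, 0)) (.leaf (5105, 0, 0))) (.node 3619 (.leaf (3072, 57, 30)) (.leaf (1039, 52, 51)))) (.node 3622 (.node 3621 (.leaf (4460, 168, 54)) (.leaf (2075, 141, 33))) (.node 3623 (.leaf (5109, 0, 0)) (.leaf (4734, 2, 16))))) (.node 3628 (.node 3626 (.node 3625 (.leaf (5110, 0, 0)) (.leaf (4860, 195, 76))) (.node 3627 (.leaf (5111, 0, 0)) (.leaf (5112, 0, 0)))) (.node 3630 (.node 3629 (.leaf (5113, 0, 0)) (.leaf (2653, 259, 72))) (.node 3631 (.leaf (4553, 196, 83)) (.leaf (5115, 0, 0)))))) (.node 3640 (.node 3636 (.node 3634 (.node 3633 (.leaf (2482, 36, 87)) (.leaf (729, 90, 1))) (.node 3635 (.leaf (5118, 0, 0)) (.leaf (4904, 243, 34)))) (.node 3638 (.node 3637 (.leaf (4906, 120, 57)) (.leaf (4458, 199, 1))) (.node 3639 (.leaf (13, 247, 54)) (.leaf (5120, 0, 0))))) (.node 3644 (.node 3642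 (.node 3641 (.leaf (5121, 0, 0)) (.leaf (482, 107, 84))) (.node 3643 (.leaf (5124, 0, 0)) (.leaf (2567, 263, 30)))) (.node 3646 (.node 3645 (.leaf (5127, 0, 0)) (.leaf (4704, 202, 4))) (.node 3647 (.leaf (5128, 0, 0)) (.leaf (5129, 0, 0)))))))

def tEX_114 : BT (ℕ × ℕ × ℕ) := (.node 3664 (.node 3656 (.node 3652 (.node 3650 (.node 3649 (.leaf (4008, 197, 29)) (.leaf (5131, 0, 0))) (.node 3651 (.leaf (5133, 0, 0)) (.leaf (2554, 92, 38)))) (.node 3654 (.node 3653 (.leaf (2175, 22, 63)) (.leaf (5136, 0, 0))) (.node 3655 (.leaf (5138, 0, 0)) (.leaf (5139, 0, 0))))) (.node 3660 (.node 3658 (.node 3657 (.leaf (3820, 42, 11)) (.leaf (315, 16, 14))) (.node 3659 (.leaf (5142, 0, 0)) (.leaf (1529, 164, 78)))) (.node 3662 (.node 3661 (.leaf (5143, 0, 0)) (.leaf (5144, 0, 0))) (.node 3663 (.leaf (645, 130, 13)) (.leaf (3268, 181, 57)))))) (.node 3672 (.node 3668 (.node 3666 (.node 3665 (.leaf (1205, 256,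 8)) (.leaf (1722, 25, 4))) (.node 3667 (.leaf (2158, 62, 10)) (.leaf (1343, 141, 46)))) (.node 3670 (.node 3669 (.leaf (5147, 0, 0)) (.leaf (5149, 0, 0))) (.node 3671 (.leaf (883, 211, 16)) (.leaf (1203, 241, 80))))) (.node 3676 (.node 3674 (.node 3673 (.leaf (5153, 0, 0)) (.leaf (4967, 233, 12))) (.node 3675 (.leaf (5155, 0, 0)) (.leaf (4087, 191, 79)))) (.node 3678 (.node 3677 (.leaf (975, 46, 4)) (.leaf (5157, 0, 0))) (.node 3679 (.leaf (1560, 104, 43)) (.leaf (3469, 27, 31)))))))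

def tEX_115 : BT (ℕ × ℕ × ℕ) := (.node 3696 (.node 3688 (.node 3684 (.node 3682 (.node 3681 (.leaf (5160, 0, 0)) (.leaf (3592, 17, 65))) (.node 3683 (.leaf (5162, 0, 0)) (.leaf (5164, 0, 0)))) (.node 3686 (.node 3685 (.leaf (5165, 0, 0)) (.leaf (460, 232, 29))) (.node 3687 (.leaf (258, 239, 29)) (.leaf (5167, 0, 0))))) (.node 3692 (.node 3690 (.node 3689 (.leaf (5107, 213, 76)) (.leaf (4360, 160, 35))) (.node 3691 (.leaf (5170, 0, 0)) (.leaf (5091, 184, 37)))) (.node 3694 (.node 3693 (.leaf (504, 181, 4)) (.leaf (1920, 99, 16))) (.node 3695 (.leaf (4225, 69, 38)) (.leaf (5132, 209, 55)))))) (.node 3704 (.node 3700 (.node 3698 (.node 3697 (.leaf (3708, 17, 43)) (.leaf (4888, 133, 75))) (.node 3699 (.leaf (5174, 0, 0)) (.leaf (5176, 0, 0)))) (.node 3702 (.node 3701 (.leaf (5177, 0, 0)) (.leaf (4863, 237, 55))) (.node 3703 (.leaf (363, 206, 22)) (.leaf (5180, 0, 0))))) (.node 3708 (.node 3706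 (.node 3705 (.leaf (4408, 121, 84)) (.leaf (5182, 0, 0))) (.node 3707 (.leaf (4679, 243, 74)) (.leaf (5183, 0, 0)))) (.node 3710 (.node 3709 (.leaf (1773, 68, 13)) (.leaf (550, 194, 21))) (.node 3711 (.leaf (1965, 2, 43)) (.leaf (4045, 224, 30)))))))

def tEX_116 : BT (ℕ × ℕ × ℕ) := (.node 3728 (.node 3720 (.node 3716 (.node 3714 (.node 3713 (.leaf (4163, 195, 8)) (.leaf (3333, 95, 25))) (.node 3715 (.leaf (2153, 83, 32)) (.leaf (5186, 0, 0)))) (.node 3718 (.node 3717 (.leaf (2481, 26, 79)) (.leaf (4297, 162, 9))) (.node 3719 (.leaf (2808, 29, 46)) (.leaf (1767, 159, 69))))) (.node 3724 (.node 3722 (.node 3721 (.leaf (79, 27, 4)) (.leaf (1657, 76, 9))) (.node 3723 (.leaf (2354, 204, 79)) (.leaf (5190, 0, 0)))) (.node 3726 (.node 3725 (.leaf (2419, 91, 19)) (.leaf (3771, 125, 39))) (.node 3727 (.leaf (910, 241, 79)) (.leaf (4046, 91, 66)))))) (.node 3736 (.node 3732 (.node 3730 (.node 3729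 (.leaf (647, 209, 40)) (.leaf (2229, 137, 87))) (.node 3731 (.leaf (5196, 0, 0)) (.leaf (5197, 0, 0)))) (.node 3734 (.node 3733 (.leaf (2661, 175, 12)) (.leaf (4497, 29, 64))) (.node 3735 (.leaf (4190, 169, 21)) (.leaf (2140, 90, 9))))) (.node 3740 (.node 3738 (.node 3737 (.leaf (2623, 201, 32)) (.leaf (3042, 251, 21))) (.node 3739 (.leaf (1867, 69, 34)) (.leaf (4139, 61, 32)))) (.node 3742 (.node 3741 (.leaf (5199, 0, 0)) (.leaf (5004, 91, 0))) (.node 3743 (.leaf (3421, 128, 31)) (.leaf (3429, 60, 36)))))))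

def tEX_117 : BT (ℕ × ℕ × ℕ) := (.node 3760 (.node 3752 (.node 3748 (.node 3746 (.node 3745 (.leaf (5201, 0, 0)) (.leaf (5042, 109, 11))) (.node 3747 (.leaf (1383, 179, 56)) (.leaf (5203, 0, 0)))) (.node 3750 (.node 3749 (.leaf (4769, 189, 74)) (.leaf (439, 216, 74))) (.node 3751 (.leaf (5204, 0, 0)) (.leaf (3722, 116, 9))))) (.node 3756 (.node 3754 (.node 3753 (.leaf (2282, 199, 52)) (.leaf (5202, 16, 41))) (.node 3755 (.leaf (5207, 0, 0)) (.leaf (5034, 153, 54)))) (.node 3758 (.node 3757 (.leaf (3177, 160, 55)) (.leaf (3575, 148, 66))) (.node 3759 (.leaf (2868, 162, 50)) (.leaf (4907, 27, 57)))))) (.node 3768 (.node 3764 (.node 3762 (.node 3761 (.leaf (4956, 86, 40)) (.leaf (3989, 119, 75))) (.node 3763 (.leaf (5211, 0, 0)) (.leaf (3577, 4, 82)))) (.node 3766 (.node 3765 (.leaf (5213, 0, 0)) (.leaf (3157, 219, 4))) (.node 3767 (.leaf (5214, 0, 0)) (.leaf (5122, 255, 66))))) (.node 3772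 (.node 3770 (.node 3769 (.leaf (5215, 0, 0)) (.leaf (1577, 4, 82))) (.node 3771 (.leaf (5217, 0, 0)) (.leaf (5218, 0, 0)))) (.node 3774 (.node 3773 (.leaf (3058, 3, 19)) (.leaf (5061, 117, 66))) (.node 3775 (.leaf (2897, 135, 67)) (.leaf (1640, 55, 2)))))))

def tEX_118 : BT (ℕ × ℕ × ℕ) := (.node 3792 (.node 3784 (.node 3780 (.node 3778 (.node 3777 (.leaf (4810, 225, 84)) (.leaf (5221, 0, 0))) (.node 3779 (.leaf (2006, 137, 39)) (.leaf (5077, 157, 50)))) (.node 3782 (.node 3781 (.leaf (5224, 0, 0)) (.leaf (2936, 49, 15))) (.node 3783 (.leaf (5226, 0, 0)) (.leaf (5227, 0, 0))))) (.node 3788 (.node 3786 (.node 3785 (.leaf (5020, 8, 15)) (.leaf (4253, 160, 2))) (.node 3787 (.leaf (5230, 0, 0)) (.leaf (554, 74, 60)))) (.node 3790 (.node 3789 (.leaf (5231, 0, 0)) (.leaf (5232, 0, 0))) (.node 3791 (.leaf (3834, 105, 52)) (.leaf (675, 200, 3)))))) (.node 3800 (.node 3796 (.node 3794 (.node 3793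 (.leaf (3450, 214, 28)) (.leaf (2019, 78, 38))) (.node 3795 (.leaf (4398, 224, 53)) (.leaf (2295, 198, 12)))) (.node 3798 (.node 3797 (.leaf (4373, 194, 79)) (.leaf (3768, 116, 57))) (.node 3799 (.leaf (5239, 0, 0)) (.leaf (2564, 13, 35))))) (.node 3804 (.node 3802 (.node 3801 (.leaf (3445, 232, 4)) (.leaf (4972, 245, 71))) (.node 3803 (.leaf (5241, 0, 0)) (.leaf (2233, 186, 60)))) (.node 3806 (.node 3805 (.leaf (5243, 0, 0)) (.leaf (1348, 185, 88))) (.node 3807 (.leaf (1015, 22, 89)) (.leaf (5245, 0, 0)))))))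

def tEX_119 : BT (ℕ × ℕ × ℕ) := (.node 3824 (.node 3816 (.node 3812 (.node 3810 (.node 3809 (.leaf (373, 114, 25)) (.leaf (5247, 0, 0))) (.node 3811 (.leaf (221, 14, 43)) (.leaf (5249, 0, 0)))) (.node 3814 (.node 3813 (.leaf (2794, 154, 44)) (.leaf (3398, 98, 53))) (.node 3815 (.leaf (3596, 70, 2)) (.leaf (3557, 255, 54))))) (.node 3820 (.node 3818 (.node 3817 (.leaf (4449, 15, 61)) (.leaf (3399, 224, 28))) (.node 3819 (.leaf (5251, 0, 0)) (.leaf (5252, 0, 0)))) (.node 3822 (.node 3821 (.leaf (5254, 0, 0)) (.leaf (2846, 198, 55))) (.node 3823 (.leaf (4473, 146, 35)) (.leaf (5255, 0, 0)))))) (.node 3832 (.node 3828 (.node 3826 (.node 3825 (.leaf (5256, 0, 0)) (.leaf (1470, 228, 14))) (.node 3827 (.leaf (1076, 94, 78)) (.leaf (5175, 247, 68)))) (.node 3830 (.node 3829 (.leaf (4258, 163, 88)) (.leaf (3458, 194, 57))) (.node 3831 (.leaf (5148, 207, 5)) (.leaf (5260, 0, 0))))) (.node 3836 (.node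 3834 (.node 3833 (.leaf (2716, 170, 32)) (.leaf (3572, 201, 53))) (.node 3835 (.leaf (4317, 101, 14)) (.leaf (3581, 24, 10)))) (.node 3838 (.node 3837 (.leaf (1771, 163, 72)) (.leaf (3080, 148, 69))) (.node 3839 (.leaf (4452, 16, 28)) (.leaf (5264, 0, 0)))))))

def tEX_120 : BT (ℕ × ℕ × ℕ) := (.node 3856 (.node 3848 (.node 3844 (.node 3842 (.node 3841 (.leaf (4750, 269, 80)) (.leaf (5265, 0, 0))) (.node 3843 (.leaf (5267, 0, 0)) (.leaf (2089, 4, 37)))) (.node 3846 (.node 3845 (.leaf (1209, 80, 88)) (.leaf (5269, 0, 0))) (.node 3847 (.leaf (1314, 49, 16)) (.leaf (3299, 118, 34))))) (.node 3852 (.node 3850 (.node 3849 (.leaf (1094, 241, 46)) (.leaf (2347, 131, 64))) (.node 3851 (.leaf (2107, 111, 44)) (.leaf (3629, 209, 12)))) (.node 3854 (.node 3853 (.leaf (1927, 23, 18)) (.leaf (4612, 76, 18))) (.node 3855 (.leaf (211, 203, 8)) (.leaf (2609, 222, 44)))))) (.node 3864 (.node 3860 (.node 3858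 (.node 3857 (.leaf (3608, 178, 27)) (.leaf (5277, 0, 0))) (.node 3859 (.leaf (5278, 0, 0)) (.leaf (5279, 0, 0)))) (.node 3862 (.node 3861 (.leaf (5281, 0, 0)) (.leaf (5282, 0, 0))) (.node 3863 (.leaf (587, 78, 54)) (.leaf (5086, 243, 68))))) (.node 3868 (.node 3866 (.node 3865 (.leaf (4813, 12, 44)) (.leaf (1221, 263, 51))) (.node 3867 (.leaf (2977, 47, 42)) (.leaf (2721, 73, 71)))) (.node 3870 (.node 3869 (.leaf (4156, 229, 87)) (.leaf (5286, 0, 0))) (.node 3871 (.leaf (5288, 0, 0)) (.leaf (4649, 205, 31)))))))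

def tEX_121 : BT (ℕ × ℕ × ℕ) := (.node 3888 (.node 3880 (.node 3876 (.node 3874 (.node 3873 (.leaf (3100, 151, 49)) (.leaf (3949, 200, 62))) (.node 3875 (.leaf (2016, 221, 70)) (.leaf (4128, 172, 47)))) (.node 3878 (.node 3877 (.leaf (1506, 228, 85)) (.leaf (4117, 140, 34))) (.node 3879 (.leaf (5291, 0, 0)) (.leaf (5293, 0, 0))))) (.node 3884 (.node 3882 (.node 3881 (.leaf (5236, 9, 83)) (.leaf (57, 6, 80))) (.node 3883 (.leaf (3296, 91, 71)) (.leaf (5058, 259, 42)))) (.node 3886 (.node 3885 (.leaf (1566, 118, 44)) (.leaf (809, 77, 15))) (.node 3887 (.leaf (2237, 222, 67)) (.leaf (5253, 57, 29)))))) (.node 3896 (.node 3892 (.node 3890 (.node 3889 (.leaf (5280, 54, 42)) (.leaf (5299, 0, 0))) (.node 3891 (.leaf (3454, 140, 81)) (.leaf (5302, 0, 0)))) (.node 3894 (.node 3893 (.leaf (5303, 0, 0)) (.leaf (614, 86, 60))) (.node 3895 (.leaf (5306, 0, 0)) (.leaf (5307, 0, 0))))) (.node 3900 (.node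 3898 (.node 3897 (.leaf (1335, 231, 38)) (.leaf (3078, 226, 58))) (.node 3899 (.leaf (5000, 62, 28)) (.leaf (5310, 0, 0)))) (.node 3902 (.node 3901 (.leaf (3269, 144, 16)) (.leaf (3782, 187, 85))) (.node 3903 (.leaf (5311, 0, 0)) (.leaf (5313, 0, 0)))))))

def tEX_122 : BT (ℕ × ℕ × ℕ) := (.node 3920 (.node 3912 (.node 3908 (.node 3906 (.node 3905 (.leaf (2810, 137, 28)) (.leaf (2257, 259, 43))) (.node 3907 (.leaf (4178, 222, 33)) (.leaf (3934, 65, 89)))) (.node 3910 (.node 3909 (.leaf (5319, 0, 0)) (.leaf (5321, 0, 0))) (.node 3911 (.leaf (1415, 246, 38)) (.leaf (1741, 34, 22))))) (.node 3916 (.node 3914 (.node 3913 (.leaf (887, 244, 76)) (.leaf (5323, 0, 0))) (.node 3915 (.leaf (3377, 246, 35)) (.leaf (5325, 0, 0)))) (.node 3918 (.node 3917 (.leaf (5200, 51, 21)) (.leaf (5328, 0, 0))) (.node 3919 (.leaf (1500, 154, 59)) (.leaf (5329, 0, 0)))))) (.node 3928 (.node 3924 (.node 3922 (.node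 3921 (.leaf (5330, 0, 0)) (.leaf (317, 143, 88))) (.node 3923 (.leaf (5332, 0, 0)) (.leaf (5333, 0, 0)))) (.node 3926 (.node 3925 (.leaf (946, 217, 87)) (.leaf (5334, 0, 0))) (.node 3927 (.leaf (5335, 0, 0)) (.leaf (2621, 201, 79))))) (.node 3932 (.node 3930 (.node 3929 (.leaf (5337, 0, 0)) (.leaf (4556, 266, 70))) (.node 3931 (.leaf (1662, 247, 51)) (.leaf (1173, 91, 69)))) (.node 3934 (.node 3933 (.leaf (4914, 115, 55)) (.leaf (2926, 31, 32))) (.node 3935 (.leaf (5339, 0, 0)) (.leaf (1312, 138, 66)))))))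

def tEX_123 : BT (ℕ × ℕ × ℕ) := (.node 3952 (.node 3944 (.node 3940 (.node 3938 (.node 3937 (.leaf (285, 55, 5)) (.leaf (2120, 234, 25))) (.node 3939 (.leaf (5343, 0, 0)) (.leaf (3938, 250, 59)))) (.node 3942 (.node 3941 (.leaf (3720, 184, 76)) (.leaf (1366, 248, 79))) (.node 3943 (.leaf (2330, 215, 40)) (.leaf (1447, 131, 68))))) (.node 3948 (.node 3946 (.node 3945 (.leaf (3207, 256, 78)) (.leaf (5345, 0, 0))) (.node 3947 (.leaf (5347, 0, 0)) (.leaf (5349, 0, 0)))) (.node 3950 (.node 3949 (.leaf (3314, 131, 79)) (.leaf (3550, 230, 18))) (.node 3951 (.leaf (5350, 0, 0)) (.leaf (2155, 78, 68)))))) (.node 3960 (.node 3956 (.node 3954 (.node 3953 (.leaf (1035, 240, 30)) (.leaf (5250, 40, 61))) (.node 3955 (.leaf (5352, 0, 0)) (.leaf (5353, 0, 0)))) (.node 3958 (.node 3957 (.leaf (5354, 0, 0)) (.leaf (3006, 244, 52))) (.node 3959 (.leaf (3978, 128, 16)) (.leaf (2390, 239, 63))))) (.node 3964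 (.node 3962 (.node 3961 (.leaf (3540, 72, 75)) (.leaf (5356, 0, 0))) (.node 3963 (.leaf (5358, 0, 0)) (.leaf (5258, 91, 11)))) (.node 3966 (.node 3965 (.leaf (5360, 0, 0)) (.leaf (5362, 0, 0))) (.node 3967 (.leaf (2925, 95, 63)) (.leaf (5364, 0, 0)))))))

def tEX_124 : BT (ℕ × ℕ × ℕ) := (.node 3984 (.node 3976 (.node 3972 (.node 3970 (.node 3969 (.leaf (1982, 48, 51)) (.leaf (5366, 0, 0))) (.node 3971 (.leaf (5367, 0, 0)) (.leaf (4032, 105, 35)))) (.node 3974 (.node 3973 (.leaf (3985, 243, 78)) (.leaf (89, 188, 11))) (.node 3975 (.leaf (2201, 257, 46)) (.leaf (1356, 67, 51))))) (.node 3980 (.node 3978 (.node 3977 (.leaf (1601, 6, 87)) (.leaf (1378, 118, 81))) (.node 3979 (.leaf (5370, 0, 0)) (.leaf (1196, 165, 26)))) (.node 3982 (.node 3981 (.leaf (3742, 129, 16)) (.leaf (5372, 0, 0))) (.node 3983 (.leaf (4210, 14, 46)) (.leaf (4400, 164, 42)))))) (.node 3992 (.node 3988 (.node 3986 (.node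 3985 (.leaf (5375, 0, 0)) (.leaf (5357, 65, 81))) (.node 3987 (.leaf (1231, 116, 33)) (.leaf (5377, 0, 0)))) (.node 3990 (.node 3989 (.leaf (25, 266, 51)) (.leaf (5380, 0, 0))) (.node 3991 (.leaf (1068, 31, 82)) (.leaf (1778, 173, 29))))) (.node 3996 (.node 3994 (.node 3993 (.leaf (5381, 0, 0)) (.leaf (1597, 138, 29))) (.node 3995 (.leaf (5383, 0, 0)) (.leaf (5384, 0, 0)))) (.node 3998 (.node 3997 (.leaf (410, 217, 29)) (.leaf (5386, 0, 0))) (.node 3999 (.leaf (1410, 202, 23)) (.leaf (2796, 144, 28)))))))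

def tEX_125 : BT (ℕ × ℕ × ℕ) := (.node 4016 (.node 4008 (.node 4004 (.node 4002 (.node 4001 (.leaf (5300, 37, 37)) (.leaf (5035, 171, 23))) (.node 4003 (.leaf (1950, 103, 50)) (.leaf (5388, 0, 0)))) (.node 4006 (.node 4005 (.leaf (4799, 75, 4)) (.leaf (5389, 0, 0))) (.node 4007 (.leaf (1984, 245, 16)) (.leaf (1679, 86, 0))))) (.node 4012 (.node 4010 (.node 4009 (.leaf (5391, 0, 0)) (.leaf (4758, 57, 68))) (.node 4011 (.leaf (5140, 231, 83)) (.leaf (4557, 33, 3)))) (.node 4014 (.node 4013 (.leaf (3216, 221, 55)) (.leaf (5283, 171, 23))) (.node 4015 (.leaf (5397, 0, 0)) (.leaf (2772, 42, 31)))))) (.node 4024 (.node 4020 (.node 4018 (.node 4017 (.leaf (5399, 0, 0)) (.leaf (2916, 88, 63))) (.node 4019 (.leaf (5400, 0, 0)) (.leaf (5401, 0, 0)))) (.node 4022 (.node 4021 (.leaf (2333, 154, 68)) (.leaf (5402, 0, 0))) (.node 4023 (.leaf (5403, 0, 0)) (.leaf (5405, 0, 0))))) (.node 4028 (.node 4026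 (.node 4025 (.leaf (2231, 101, 60)) (.leaf (4545, 117, 66))) (.node 4027 (.leaf (5198, 164, 68)) (.leaf (333, 90, 35)))) (.node 4030 (.node 4029 (.leaf (5407, 0, 0)) (.leaf (5408, 0, 0))) (.node 4031 (.leaf (5410, 0, 0)) (.leaf (4485, 101, 20)))))))

def tEX_126 : BT (ℕ × ℕ × ℕ) := (.node 4048 (.node 4040 (.node 4036 (.node 4034 (.node 4033 (.leaf (4954, 1, 65)) (.leaf (5413, 0, 0))) (.node 4035 (.leaf (5414, 0, 0)) (.leaf (5415, 0, 0)))) (.node 4038 (.node 4037 (.leaf (1515, 63, 54)) (.leaf (5416, 0, 0))) (.node 4039 (.leaf (5417, 0, 0)) (.leaf (800, 242, 76))))) (.node 4044 (.node 4042 (.node 4041 (.leaf (5418, 0, 0)) (.leaf (1144, 167, 35))) (.node 4043 (.leaf (5419, 0, 0)) (.leaf (4984, 44, 6)))) (.node 4046 (.node 4045 (.leaf (2047, 147, 71)) (.leaf (5421, 0, 0))) (.node 4047 (.leaf (226, 171, 42)) (.leaf (5423, 0, 0)))))) (.node 4056 (.node 4052 (.node 4050 (.node 4049 (.leaf (1878,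 190, 21)) (.leaf (5425, 0, 0))) (.node 4051 (.leaf (1008, 97, 13)) (.leaf (5426, 0, 0)))) (.node 4054 (.node 4053 (.leaf (5428, 0, 0)) (.leaf (5429, 0, 0))) (.node 4055 (.leaf (854, 108, 16)) (.leaf (5430, 0, 0))))) (.node 4060 (.node 4058 (.node 4057 (.leaf (51, 67, 37)) (.leaf (147, 269, 71))) (.node 4059 (.leaf (5431, 0, 0)) (.leaf (5341, 222, 65)))) (.node 4062 (.node 4061 (.leaf (5432, 0, 0)) (.leaf (5433, 0, 0))) (.node 4063 (.leaf (4933, 251, 29)) (.leaf (5435, 0, 0)))))))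

def tEX_127 : BT (ℕ × ℕ × ℕ) := (.node 4080 (.node 4072 (.node 4068 (.node 4066 (.node 4065 (.leaf (5436, 0, 0)) (.leaf (131, 106, 79))) (.node 4067 (.leaf (2957, 192, 52)) (.leaf (5437, 0, 0)))) (.node 4070 (.node 4069 (.leaf (4299, 240, 73)) (.leaf (2798, 68, 89))) (.node 4071 (.leaf (2118, 251, 21)) (.leaf (5116, 161, 0))))) (.node 4076 (.node 4074 (.node 4073 (.leaf (2763, 179, 78)) (.leaf (3546, 232, 32))) (.node 4075 (.leaf (4558, 230, 35)) (.leaf (5439, 0, 0)))) (.node 4078 (.node 4077 (.leaf (2077, 261, 13)) (.leaf (5441, 0, 0))) (.node 4079 (.leaf (5442, 0, 0)) (.leaf (5443, 0, 0)))))) (.node 4088 (.node 4084 (.node 4082 (.node 4081 (.leaf (5444, 0, 0)) (.leaf (3736, 181, 38))) (.node 4083 (.leaf (3585, 118, 41)) (.leaf (5447, 0, 0)))) (.node 4086 (.node 4085 (.leaf (2008, 77, 78)) (.leaf (5448, 0, 0))) (.node 4087 (.leaf (1479, 83, 29)) (.leaf (3318, 176, 54))))) (.node 4092 (.node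 4090 (.node 4089 (.leaf (5450, 0, 0)) (.leaf (1952, 89, 2))) (.node 4091 (.leaf (4881, 33, 6)) (.leaf (4808, 264, 65)))) (.node 4094 (.node 4093 (.leaf (3611, 20, 35)) (.leaf (4671, 236, 52))) (.node 4095 (.leaf (387, 223, 9)) (.leaf (3506, 249, 4)))))))

def tEX_128 : BT (ℕ × ℕ × ℕ) := (.node 4112 (.node 4104 (.node 4100 (.node 4098 (.node 4097 (.leaf (1545, 31, 58)) (.leaf (2372, 103, 57))) (.node 4099 (.leaf (5455, 0, 0)) (.leaf (2014, 201, 56)))) (.node 4102 (.node 4101 (.leaf (2901, 214, 67)) (.leaf (5456, 0, 0))) (.node 4103 (.leaf (5458, 0, 0)) (.leaf (5460, 0, 0))))) (.node 4108 (.node 4106 (.node 4105 (.leaf (880, 25, 50)) (.leaf (1828, 268, 20))) (.node 4107 (.leaf (5463, 0, 0)) (.leaf (1811, 24, 37)))) (.node 4110 (.node 4109 (.leaf (1687, 193, 30)) (.leaf (1134, 216, 48))) (.node 4111 (.leaf (5368, 105, 17)) (.leaf (4636, 143, 62)))))) (.node 4120 (.node 4116 (.node 4114 (.node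 4113 (.leaf (1535, 254, 88)) (.leaf (3168, 43, 45))) (.node 4115 (.leaf (5466, 0, 0)) (.leaf (3781, 17, 10)))) (.node 4118 (.node 4117 (.leaf (5468, 0, 0)) (.leaf (2696, 271, 61))) (.node 4119 (.leaf (5469, 0, 0)) (.leaf (5471, 0, 0))))) (.node 4124 (.node 4122 (.node 4121 (.leaf (4875, 93, 49)) (.leaf (2265, 188, 66))) (.node 4123 (.leaf (5473, 0, 0)) (.leaf (5068, 134, 12)))) (.node 4126 (.node 4125 (.leaf (5474, 0, 0)) (.leaf (2411, 22, 75))) (.node 4127 (.leaf (3200, 157, 57)) (.leaf (4248, 71, 89)))))))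

def tEX_129 : BT (ℕ × ℕ × ℕ) := (.node 4144 (.node 4136 (.node 4132 (.node 4130 (.node 4129 (.leaf (2341, 167, 4)) (.leaf (5477, 0, 0))) (.node 4131 (.leaf (2026, 208, 56)) (.leaf (5067, 35, 25)))) (.node 4134 (.node 4133 (.leaf (3375, 29, 76)) (.leaf (1463, 49, 7))) (.node 4135 (.leaf (2396, 139, 52)) (.leaf (3194, 25, 28))))) (.node 4140 (.node 4138 (.node 4137 (.leaf (2822, 269, 45)) (.leaf (3901, 154, 48))) (.node 4139 (.leaf (725, 267, 29)) (.leaf (5480, 0, 0)))) (.node 4142 (.node 4141 (.leaf (3561, 260, 73)) (.leaf (5481, 0, 0))) (.node 4143 (.leaf (5171, 174, 82)) (.leaf (5483, 0, 0)))))) (.node 4152 (.node 4148 (.node 4146 (.node 4145 (.leaf (2425, 220, 0)) (.leaf (1160, 16, 56))) (.node 4147 (.leaf (5486, 0, 0)) (.leaf (5487, 0, 0)))) (.node 4150 (.node 4149 (.leaf (5054, 127, 3)) (.leaf (5488, 0, 0))) (.node 4151 (.leaf (2424, 75, 9)) (.leaf (5489, 0, 0))))) (.node 4156 (.node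 4154 (.node 4153 (.leaf (5490, 0, 0)) (.leaf (5491, 0, 0))) (.node 4155 (.leaf (2806, 42, 10)) (.leaf (600, 155, 46)))) (.node 4158 (.node 4157 (.leaf (4981, 177, 67)) (.leaf (1612, 223, 20))) (.node 4159 (.leaf (3763, 51, 12)) (.leaf (2199, 182, 11)))))))

def tEX_130 : BT (ℕ × ℕ × ℕ) := (.node 4176 (.node 4168 (.node 4164 (.node 4162 (.node 4161 (.leaf (955, 32, 50)) (.leaf (5496, 0, 0))) (.node 4163 (.leaf (5179, 46, 47)) (.leaf (3554, 126, 18)))) (.node 4166 (.node 4165 (.leaf (2345, 72, 34)) (.leaf (4892, 19, 42))) (.node 4167 (.leaf (5498, 0, 0)) (.leaf (5499, 0, 0))))) (.node 4172 (.node 4170 (.node 4169 (.leaf (5501, 0, 0)) (.leaf (3936, 133, 88))) (.node 4171 (.leaf (5015, 181, 26)) (.leaf (4203, 140, 28)))) (.node 4174 (.node 4173 (.leaf (5482, 103, 67)) (.leaf (4403, 109, 30))) (.node 4175 (.leaf (1180, 152, 48)) (.leaf (5257, 77, 76)))))) (.node 4184 (.node 4180 (.node 4178 (.node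 4177 (.leaf (3448, 113, 20)) (.leaf (1000, 85, 36))) (.node 4179 (.leaf (770, 13, 18)) (.leaf (5263, 195, 64)))) (.node 4182 (.node 4181 (.leaf (5506, 0, 0)) (.leaf (2110, 228, 58))) (.node 4183 (.leaf (5312, 11, 58)) (.leaf (5507, 0, 0))))) (.node 4188 (.node 4186 (.node 4185 (.leaf (5508, 0, 0)) (.leaf (5509, 0, 0))) (.node 4187 (.leaf (2636, 3, 32)) (.leaf (1006, 67, 23)))) (.node 4190 (.node 4189 (.leaf (5511, 0, 0)) (.leaf (5512, 0, 0))) (.node 4191 (.leaf (1809, 118, 73)) (.leaf (4684, 245, 5)))))))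

def tEX_131 : BT (ℕ × ℕ × ℕ) := (.node 4208 (.node 4200 (.node 4196 (.node 4194 (.node 4193 (.leaf (5513, 0, 0)) (.leaf (2343, 72, 31))) (.node 4195 (.leaf (3529, 14, 15)) (.leaf (3750, 150, 28)))) (.node 4198 (.node 4197 (.leaf (4291, 241, 17)) (.leaf (5517, 0, 0))) (.node 4199 (.leaf (2528, 27, 27)) (.leaf (5484, 199, 4))))) (.node 4204 (.node 4202 (.node 4201 (.leaf (5519, 0, 0)) (.leaf (31, 94, 55))) (.node 4203 (.leaf (2864, 1, 67)) (.leaf (3155, 37, 22)))) (.node 4206 (.node 4205 (.leaf (3170, 226, 39)) (.leaf (2269, 19, 70))) (.node 4207 (.leaf (5521, 0, 0)) (.leaf (4837, 189, 64)))))) (.node 4216 (.node 4212 (.node 4210 (.node 4209 (.leaf (3886, 224, 47)) (.leaf (3185, 24, 10))) (.node 4211 (.leaf (181, 146, 53)) (.leaf (5522, 0, 0)))) (.node 4214 (.node 4213 (.leaf (109, 186, 24)) (.leaf (4989, 248, 43))) (.node 4215 (.leaf (5523, 0, 0)) (.leaf (250, 64, 41))))) (.node 4220 (.node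 4218 (.node 4217 (.leaf (956, 104, 71)) (.leaf (5524, 0, 0))) (.node 4219 (.leaf (4779, 97, 75)) (.leaf (4072, 126, 75)))) (.node 4222 (.node 4221 (.leaf (5526, 0, 0)) (.leaf (3096, 131, 75))) (.node 4223 (.leaf (966, 47, 15)) (.leaf (929, 144, 60)))))))

def tEX_132 : BT (ℕ × ℕ × ℕ) := (.node 4240 (.node 4232 (.node 4228 (.node 4226 (.node 4225 (.leaf (4021, 42, 61)) (.leaf (1832, 130, 87))) (.node 4227 (.leaf (5427, 169, 59)) (.leaf (5449, 73, 76)))) (.node 4230 (.node 4229 (.leaf (3505, 231, 49)) (.leaf (5154, 33, 88))) (.node 4231 (.leaf (5529, 0, 0)) (.leaf (3947, 222, 71))))) (.node 4236 (.node 4234 (.node 4233 (.leaf (2072, 154, 13)) (.leaf (5530, 0, 0))) (.node 4235 (.leaf (3959, 133, 36)) (.leaf (3882, 114, 28)))) (.node 4238 (.node 4237 (.leaf (606, 217, 38)) (.leaf (1225, 79, 21))) (.node 4239 (.leaf (5533, 0, 0)) (.leaf (2563, 194, 23)))))) (.node 4248 (.node 4244 (.node 4242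 (.node 4241 (.leaf (1140, 224, 60)) (.leaf (3631, 48, 39))) (.node 4243 (.leaf (5237, 37, 83)) (.leaf (5535, 0, 0)))) (.node 4246 (.node 4245 (.leaf (5114, 52, 68)) (.leaf (195, 40, 25))) (.node 4247 (.leaf (5536, 0, 0)) (.leaf (4394, 23, 74))))) (.node 4252 (.node 4250 (.node 4249 (.leaf (2130, 103, 17)) (.leaf (5538, 0, 0))) (.node 4251 (.leaf (4307, 175, 82)) (.leaf (5228, 243, 53)))) (.node 4254 (.node 4253 (.leaf (3236, 195, 2)) (.leaf (5541, 0, 0))) (.node 4255 (.leaf (5169, 227, 36)) (.leaf (1668, 223, 5)))))))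

def tEX_133 : BT (ℕ × ℕ × ℕ) := (.node 4272 (.node 4264 (.node 4260 (.node 4258 (.node 4257 (.leaf (2713, 125, 41)) (.leaf (4343, 56, 67))) (.node 4259 (.leaf (33, 90, 78)) (.leaf (4100, 198, 82)))) (.node 4262 (.node 4261 (.leaf (1002, 85, 65)) (.leaf (5545, 0, 0))) (.node 4263 (.leaf (5546, 0, 0)) (.leaf (5451, 25, 1))))) (.node 4268 (.node 4266 (.node 4265 (.leaf (858, 59, 76)) (.leaf (205, 210, 26))) (.node 4267 (.leaf (5547, 0, 0)) (.leaf (3222, 85, 67)))) (.node 4270 (.node 4269 (.leaf (5548, 0, 0)) (.leaf (5453, 37, 64))) (.node 4271 (.leaf (4766, 101, 31)) (.leaf (4242, 3, 53)))))) (.node 4280 (.node 4276 (.node 4274 (.node 4273 (.leaf (5123, 62, 51)) (.leaf (901, 252, 75))) (.node 4275 (.leaf (1975, 187, 68)) (.leaf (5553, 0, 0)))) (.node 4278 (.node 4277 (.leaf (3214, 49, 89)) (.leaf (5554, 0, 0))) (.node 4279 (.leaf (430, 104, 56)) (.leaf (5557, 0, 0))))) (.node 4284 (.node 4282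 (.node 4281 (.leaf (4103, 226, 62)) (.leaf (3889, 73, 55))) (.node 4283 (.leaf (5558, 0, 0)) (.leaf (5559, 0, 0)))) (.node 4286 (.node 4285 (.leaf (622, 53, 5)) (.leaf (4795, 224, 85))) (.node 4287 (.leaf (953, 92, 17)) (.leaf (5560, 0, 0)))))))

def tEX_134 : BT (ℕ × ℕ × ℕ) := (.node 4304 (.node 4296 (.node 4292 (.node 4290 (.node 4289 (.leaf (5206, 266, 41)) (.leaf (395, 82, 48))) (.node 4291 (.leaf (5561, 0, 0)) (.leaf (4481, 96, 32)))) (.node 4294 (.node 4293 (.leaf (3047, 95, 78)) (.leaf (2585, 265, 59))) (.node 4295 (.leaf (5562, 0, 0)) (.leaf (2951, 82, 73))))) (.node 4300 (.node 4298 (.node 4297 (.leaf (5369, 155, 1)) (.leaf (5565, 0, 0))) (.node 4299 (.leaf (3622, 230, 78)) (.leaf (3523, 154, 83)))) (.node 4302 (.node 4301 (.leaf (5037, 104, 34)) (.leaf (1918, 242, 24))) (.node 4303 (.leaf (1486, 242, 73)) (.leaf (3243, 102, 51)))))) (.node 4312 (.node 4308 (.node 4306 (.node 4305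 (.leaf (123, 225, 33)) (.leaf (5406, 55, 60))) (.node 4307 (.leaf (5212, 188, 13)) (.leaf (5569, 0, 0)))) (.node 4310 (.node 4309 (.leaf (5570, 0, 0)) (.leaf (3564, 141, 7))) (.node 4311 (.leaf (5573, 0, 0)) (.leaf (2057, 200, 16))))) (.node 4316 (.node 4314 (.node 4313 (.leaf (4858, 95, 55)) (.leaf (5420, 242, 71))) (.node 4315 (.leaf (5576, 0, 0)) (.leaf (5577, 0, 0)))) (.node 4318 (.node 4317 (.leaf (2866, 244, 8)) (.leaf (3563, 30, 17))) (.node 4319 (.leaf (5579, 0, 0)) (.leaf (5097, 218, 56)))))))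

def tEX_135 : BT (ℕ × ℕ × ℕ) := (.node 4336 (.node 4328 (.node 4324 (.node 4322 (.node 4321 (.leaf (5275, 117, 54)) (.leaf (5085, 135, 29))) (.node 4323 (.leaf (143, 163, 32)) (.leaf (5580, 0, 0)))) (.node 4326 (.node 4325 (.leaf (1397, 103, 36)) (.leaf (1256, 164, 85))) (.node 4327 (.leaf (3462, 166, 62)) (.leaf (4067, 2, 8))))) (.node 4332 (.node 4330 (.node 4329 (.leaf (5583, 0, 0)) (.leaf (4268, 13, 11))) (.node 4331 (.leaf (5585, 0, 0)) (.leaf (5209, 18, 44)))) (.node 4334 (.node 4333 (.leaf (1360, 55, 59)) (.leaf (540, 45, 45))) (.node 4335 (.leaf (5185, 90, 58)) (.leaf (5395, 48, 23)))))) (.node 4344 (.node 4340 (.node 4338 (.node 4337 (.leaf (5588, 0, 0)) (.leaf (5589, 0, 0))) (.node 4339 (.leaf (5392, 45, 27)) (.leaf (4620, 205, 70)))) (.node 4342 (.node 4341 (.leaf (3014, 168, 51)) (.leaf (197, 195, 84))) (.node 4343 (.leaf (4812, 132, 14)) (.leaf (5590, 0, 0))))) (.node 4348 (.node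 4346 (.node 4345 (.leaf (4002, 250, 6)) (.leaf (5592, 0, 0))) (.node 4347 (.leaf (3051, 183, 4)) (.leaf (5594, 0, 0)))) (.node 4350 (.node 4349 (.leaf (5248, 62, 46)) (.leaf (3656, 271, 20))) (.node 4351 (.leaf (1017, 52, 18)) (.leaf (5222, 147, 89)))))))

def tEX_136 : BT (ℕ × ℕ × ℕ) := (.node 4368 (.node 4360 (.node 4356 (.node 4354 (.node 4353 (.leaf (5194, 12, 79)) (.leaf (5597, 0, 0))) (.node 4355 (.leaf (5188, 6, 87)) (.leaf (5599, 0, 0)))) (.node 4358 (.node 4357 (.leaf (5600, 0, 0)) (.leaf (1738, 157, 21))) (.node 4359 (.leaf (5602, 0, 0)) (.leaf (3747, 214, 65))))) (.node 4364 (.node 4362 (.node 4361 (.leaf (5603, 0, 0)) (.leaf (244, 55, 79))) (.node 4363 (.leaf (5505, 173, 56)) (.leaf (5605, 0, 0)))) (.node 4366 (.node 4365 (.leaf (5531, 0, 65)) (.leaf (5606, 0, 0))) (.node 4367 (.leaf (5607, 0, 0)) (.leaf (4895, 221, 50)))))) (.node 4376 (.node 4372 (.node 4370 (.node 4369 (.leaf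 (2150, 236, 2)) (.leaf (4216, 31, 44))) (.node 4371 (.leaf (5610, 0, 0)) (.leaf (2652, 155, 11)))) (.node 4374 (.node 4373 (.leaf (3359, 167, 7)) (.leaf (5611, 0, 0))) (.node 4375 (.leaf (5613, 0, 0)) (.leaf (4198, 166, 3))))) (.node 4380 (.node 4378 (.node 4377 (.leaf (942, 187, 48)) (.leaf (2745, 52, 86))) (.node 4379 (.leaf (5615, 0, 0)) (.leaf (4063, 142, 16)))) (.node 4382 (.node 4381 (.leaf (5616, 0, 0)) (.leaf (4696, 9, 76))) (.node 4383 (.leaf (5604, 148, 48)) (.leaf (5617, 0, 0)))))))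

def tEX_137 : BT (ℕ × ℕ × ℕ) := (.node 4400 (.node 4392 (.node 4388 (.node 4386 (.node 4385 (.leaf (4580, 129, 88)) (.leaf (5618, 0, 0))) (.node 4387 (.leaf (5619, 0, 0)) (.leaf (3929, 46, 80)))) (.node 4390 (.node 4389 (.leaf (2648, 98, 40)) (.leaf (2756, 110, 45))) (.node 4391 (.leaf (5621, 0, 0)) (.leaf (5622, 0, 0))))) (.node 4396 (.node 4394 (.node 4393 (.leaf (5624, 0, 0)) (.leaf (4475, 204, 62))) (.node 4395 (.leaf (5626, 0, 0)) (.leaf (1614, 149, 81)))) (.node 4398 (.node 4397 (.leaf (3841, 89, 64)) (.leaf (1227, 101, 26))) (.node 4399 (.leaf (4786, 53, 48)) (.leaf (5629, 0, 0)))))) (.node 4408 (.node 4404 (.node 4402 (.node 4401 (.leaf (5066, 204, 28)) (.leaf (4918, 179, 56))) (.node 4403 (.leaf (2356, 143, 67)) (.leaf (2614, 53, 56)))) (.node 4406 (.node 4405 (.leaf (3508, 69, 35)) (.leaf (5003, 148, 16))) (.node 4407 (.leaf (3124, 81, 87)) (.leaf (5192, 225, 60))))) (.node 4412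 (.node 4410 (.node 4409 (.leaf (5635, 0, 0)) (.leaf (5636, 0, 0))) (.node 4411 (.leaf (5637, 0, 0)) (.leaf (5639, 0, 0)))) (.node 4414 (.node 4413 (.leaf (5641, 0, 0)) (.leaf (2276, 55, 83))) (.node 4415 (.leaf (5642, 0, 0)) (.leaf (2123, 226, 28)))))))

def tEX_138 : BT (ℕ × ℕ × ℕ) := (.node 4432 (.node 4424 (.node 4420 (.node 4418 (.node 4417 (.leaf (5645, 0, 0)) (.leaf (5647, 0, 0))) (.node 4419 (.leaf (5649, 0, 0)) (.leaf (5650, 0, 0)))) (.node 4422 (.node 4421 (.leaf (5515, 198, 42)) (.leaf (5652, 0, 0))) (.node 4423 (.leaf (5654, 0, 0)) (.leaf (5125, 190, 76))))) (.node 4428 (.node 4426 (.node 4425 (.leaf (1594, 70, 13)) (.leaf (5374, 191, 72))) (.node 4427 (.leaf (1347, 218, 27)) (.leaf (5658, 0, 0)))) (.node 4430 (.node 4429 (.leaf (4745, 230, 30)) (.leaf (5322, 208, 49))) (.node 4431 (.leaf (5661, 0, 0)) (.leaf (5662, 0, 0)))))) (.node 4440 (.node 4436 (.node 4434 (.node 4433 (.leaf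 (5593, 211, 40)) (.leaf (5233, 83, 38))) (.node 4435 (.leaf (4345, 88, 65)) (.leaf (424, 38, 55)))) (.node 4438 (.node 4437 (.leaf (5663, 0, 0)) (.leaf (4465, 146, 25))) (.node 4439 (.leaf (3085, 113, 74)) (.leaf (3098, 81, 85))))) (.node 4444 (.node 4442 (.node 4441 (.leaf (5664, 0, 0)) (.leaf (3120, 126, 60))) (.node 4443 (.leaf (3202, 129, 41)) (.leaf (2961, 137, 57)))) (.node 4446 (.node 4445 (.leaf (5667, 0, 0)) (.leaf (5331, 114, 42))) (.node 4447 (.leaf (1031, 54, 19)) (.leaf (5276, 8, 11)))))))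

def tEX_139 : BT (ℕ × ℕ × ℕ) := (.node 4464 (.node 4456 (.node 4452 (.node 4450 (.node 4449 (.leaf (5412, 28, 59)) (.leaf (4051, 197, 26))) (.node 4451 (.leaf (5669, 0, 0)) (.leaf (5670, 0, 0)))) (.node 4454 (.node 4453 (.leaf (1742, 90, 39)) (.leaf (5587, 260, 34))) (.node 4455 (.leaf (4469, 82, 53)) (.leaf (3703, 208, 34))))) (.node 4460 (.node 4458 (.node 4457 (.leaf (5672, 0, 0)) (.leaf (5673, 0, 0))) (.node 4459 (.leaf (5674, 0, 0)) (.leaf (5584, 48, 16)))) (.node 4462 (.node 4461 (.leaf (5675, 0, 0)) (.leaf (2559, 137, 76))) (.node 4463 (.leaf (5676, 0, 0)) (.leaf (3483, 206, 6)))))) (.node 4472 (.node 4468 (.node 4466 (.node 4465 (.leaf (4466, 56, 61)) (.leaf (3291, 26, 4))) (.node 4467 (.leaf (4782, 177, 2)) (.leaf (2541, 171, 47)))) (.node 4470 (.node 4469 (.leaf (5678, 0, 0)) (.leaf (1960, 0, 56))) (.node 4471 (.leaf (3477, 46, 73)) (.leaf (5679, 0, 0))))) (.node 4476 (.node 4474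 (.node 4473 (.leaf (5627, 185, 17)) (.leaf (3046, 12, 6))) (.node 4475 (.leaf (5681, 0, 0)) (.leaf (994, 177, 44)))) (.node 4478 (.node 4477 (.leaf (5682, 0, 0)) (.leaf (448, 53, 41))) (.node 4479 (.leaf (5683, 0, 0)) (.leaf (5361, 182, 79)))))))

def tEX_140 : BT (ℕ × ℕ × ℕ) := (.node 4496 (.node 4488 (.node 4484 (.node 4482 (.node 4481 (.leaf (2186, 267, 75)) (.leaf (5685, 0, 0))) (.node 4483 (.leaf (5223, 96, 48)) (.leaf (5686, 0, 0)))) (.node 4486 (.node 4485 (.leaf (2729, 18, 7)) (.leaf (238, 66, 28))) (.node 4487 (.leaf (2943, 79, 64)) (.leaf (5689, 0, 0))))) (.node 4492 (.node 4490 (.node 4489 (.leaf (5690, 0, 0)) (.leaf (1724, 171, 53))) (.node 4491 (.leaf (5691, 0, 0)) (.leaf (3487, 252, 44)))) (.node 4494 (.node 4493 (.leaf (1502, 188, 79)) (.leaf (2448, 119, 49))) (.node 4495 (.leaf (5078, 101, 64)) (.leaf (5694, 0, 0)))))) (.node 4504 (.node 4500 (.node 4498 (.node 4497 (.leaf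 (3774, 47, 53)) (.leaf (5648, 270, 76))) (.node 4499 (.leaf (2378, 250, 37)) (.leaf (3824, 102, 45)))) (.node 4502 (.node 4501 (.leaf (287, 47, 77)) (.leaf (2847, 184, 12))) (.node 4503 (.leaf (5261, 132, 1)) (.leaf (2935, 68, 53))))) (.node 4508 (.node 4506 (.node 4505 (.leaf (5210, 87, 16)) (.leaf (4437, 233, 10))) (.node 4507 (.leaf (2127, 103, 7)) (.leaf (3711, 31, 67)))) (.node 4510 (.node 4509 (.leaf (1957, 162, 40)) (.leaf (5699, 0, 0))) (.node 4511 (.leaf (5701, 0, 0)) (.leaf (5702, 0, 0)))))))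

def tEX_141 : BT (ℕ × ℕ × ℕ) := (.node 4528 (.node 4520 (.node 4516 (.node 4514 (.node 4513 (.leaf (5703, 0, 0)) (.leaf (327, 115, 70))) (.node 4515 (.leaf (4006, 31, 77)) (.leaf (5707, 0, 0)))) (.node 4518 (.node 4517 (.leaf (735, 44, 2)) (.leaf (5653, 62, 16))) (.node 4519 (.leaf (3021, 222, 41)) (.leaf (5709, 0, 0))))) (.node 4524 (.node 4522 (.node 4521 (.leaf (5710, 0, 0)) (.leaf (5532, 141, 70))) (.node 4523 (.leaf (5172, 47, 18)) (.leaf (5550, 115, 17)))) (.node 4526 (.node 4525 (.leaf (4501, 217, 46)) (.leaf (5315, 207, 73))) (.node 4527 (.leaf (5713, 0, 0)) (.leaf (5571, 231, 82)))))) (.node 4536 (.node 4532 (.node 4530 (.node 4529 (.leaf (1961, 166, 51)) (.leaf (4433, 78, 45))) (.node 4531 (.leaf (379, 251, 53)) (.leaf (4069, 87, 18)))) (.node 4534 (.node 4533 (.leaf (3696, 141, 51)) (.leaf (4790, 70, 52))) (.node 4535 (.leaf (5716, 0, 0)) (.leaf (4756, 92, 65))))) (.node 4540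 (.node 4538 (.node 4537 (.leaf (5665, 95, 30)) (.leaf (5718, 0, 0))) (.node 4539 (.leaf (1354, 53, 8)) (.leaf (4742, 26, 22)))) (.node 4542 (.node 4541 (.leaf (669, 66, 65)) (.leaf (2677, 89, 39))) (.node 4543 (.leaf (256, 80, 47)) (.leaf (19, 19, 61)))))))

def tEX_142 : BT (ℕ × ℕ × ℕ) := (.node 4560 (.node 4552 (.node 4548 (.node 4546 (.node 4545 (.leaf (3280, 224, 75)) (.leaf (3095, 237, 78))) (.node 4547 (.leaf (4721, 107, 42)) (.leaf (5722, 0, 0)))) (.node 4550 (.node 4549 (.leaf (1406, 6, 55)) (.leaf (5598, 243, 67))) (.node 4551 (.leaf (2022, 19, 61)) (.leaf (5724, 0, 0))))) (.node 4556 (.node 4554 (.node 4553 (.leaf (5725, 0, 0)) (.leaf (5007, 159, 5))) (.node 4555 (.leaf (5728, 0, 0)) (.leaf (1328, 19, 0)))) (.node 4558 (.node 4557 (.leaf (5465, 231, 15)) (.leaf (793, 181, 2))) (.node 4559 (.leaf (5731, 0, 0)) (.leaf (4834, 157, 64)))))) (.node 4568 (.node 4564 (.node 4562 (.node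 4561 (.leaf (5244, 68, 83)) (.leaf (5733, 0, 0))) (.node 4563 (.leaf (5145, 27, 12)) (.leaf (944, 27, 27)))) (.node 4566 (.node 4565 (.leaf (519, 92, 44)) (.leaf (5735, 0, 0))) (.node 4567 (.leaf (4431, 166, 18)) (.leaf (3213, 63, 62))))) (.node 4572 (.node 4570 (.node 4569 (.leaf (5736, 0, 0)) (.leaf (5485, 237, 42))) (.node 4571 (.leaf (4423, 131, 17)) (.leaf (4618, 183, 55)))) (.node 4574 (.node 4573 (.leaf (5739, 0, 0)) (.leaf (5740, 0, 0))) (.node 4575 (.leaf (5741, 0, 0)) (.leaf (2672, 93, 86)))))))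

def tEX_143 : BT (ℕ × ℕ × ℕ) := (.node 4592 (.node 4584 (.node 4580 (.node 4578 (.node 4577 (.leaf (3618, 238, 72)) (.leaf (5717, 205, 1))) (.node 4579 (.leaf (3514, 142, 8)) (.leaf (5743, 0, 0)))) (.node 4582 (.node 4581 (.leaf (2668, 34, 81)) (.leaf (1251, 60, 61))) (.node 4583 (.leaf (723, 184, 7)) (.leaf (5748, 0, 0))))) (.node 4588 (.node 4586 (.node 4585 (.leaf (5749, 0, 0)) (.leaf (5750, 0, 0))) (.node 4587 (.leaf (5208, 120, 77)) (.leaf (1651, 214, 52)))) (.node 4590 (.node 4589 (.leaf (3418, 95, 88)) (.leaf (2802, 86, 89))) (.node 4591 (.leaf (5754, 0, 0)) (.leaf (783, 246, 8)))))) (.node 4600 (.node 4596 (.node 4594 (.node 4593 (.leaf (5755, 0, 0)) (.leaf (4277, 85, 57))) (.node 4595 (.leaf (5756, 0, 0)) (.leaf (5296, 98, 82)))) (.node 4598 (.node 4597 (.leaf (2903, 13, 80)) (.leaf (4853, 187, 8))) (.node 4599 (.leaf (5235, 269, 61)) (.leaf (5758, 0, 0))))) (.node 4604 (.node 4602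 (.node 4601 (.leaf (5759, 0, 0)) (.leaf (5732, 37, 81))) (.node 4603 (.leaf (1963, 211, 17)) (.leaf (5761, 0, 0)))) (.node 4606 (.node 4605 (.leaf (5446, 252, 26)) (.leaf (5643, 153, 40))) (.node 4607 (.leaf (1929, 166, 0)) (.leaf (2116, 102, 27)))))))

def tEX_144 : BT (ℕ × ℕ × ℕ) := (.node 4624 (.node 4616 (.node 4612 (.node 4610 (.node 4609 (.leaf (5764, 0, 0)) (.leaf (5766, 0, 0))) (.node 4611 (.leaf (5768, 0, 0)) (.leaf (5711, 67, 9)))) (.node 4614 (.node 4613 (.leaf (5769, 0, 0)) (.leaf (389, 58, 3))) (.node 4615 (.leaf (5108, 232, 72)) (.leaf (3294, 8, 58))))) (.node 4620 (.node 4618 (.node 4617 (.leaf (5770, 0, 0)) (.leaf (5771, 0, 0))) (.node 4619 (.leaf (5440, 203, 3)) (.leaf (5772, 0, 0)))) (.node 4622 (.node 4621 (.leaf (4334, 171, 26)) (.leaf (3785, 138, 63))) (.node 4623 (.leaf (4926, 196, 51)) (.leaf (4953, 205, 79)))))) (.node 4632 (.node 4628 (.node 4626 (.node 4625 (.leaf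 (5773, 0, 0)) (.leaf (5161, 202, 86))) (.node 4627 (.leaf (3976, 208, 47)) (.leaf (5775, 0, 0)))) (.node 4630 (.node 4629 (.leaf (4014, 112, 88)) (.leaf (2727, 173, 39))) (.node 4631 (.leaf (3569, 47, 53)) (.leaf (5776, 0, 0))))) (.node 4636 (.node 4634 (.node 4633 (.leaf (1986, 97, 9)) (.leaf (3381, 20, 21))) (.node 4635 (.leaf (4327, 222, 15)) (.leaf (9, 176, 27)))) (.node 4638 (.node 4637 (.leaf (5779, 0, 0)) (.leaf (5053, 50, 70))) (.node 4639 (.leaf (5135, 47, 79)) (.leaf (1197, 120, 49)))))))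

def tEX_145 : BT (ℕ × ℕ × ℕ) := (.node 4656 (.node 4648 (.node 4644 (.node 4642 (.node 4641 (.leaf (5781, 0, 0)) (.leaf (4816, 52, 84))) (.node 4643 (.leaf (2768, 269, 9)) (.leaf (2398, 168, 47)))) (.node 4646 (.node 4645 (.leaf (4614, 224, 48)) (.leaf (5784, 0, 0))) (.node 4647 (.leaf (4189, 216, 43)) (.leaf (5586, 182, 66))))) (.node 4652 (.node 4650 (.node 4649 (.leaf (1862, 231, 50)) (.leaf (4831, 124, 36))) (.node 4651 (.leaf (5461, 196, 73)) (.leaf (5786, 0, 0)))) (.node 4654 (.node 4653 (.leaf (4167, 175, 33)) (.leaf (3245, 18, 55))) (.node 4655 (.leaf (5555, 136, 26)) (.leaf (1048, 150, 65)))))) (.node 4664 (.node 4660 (.node 4658 (.node 4657 (.leaf (5338, 117, 6)) (.leaf (5788, 0, 0))) (.node 4659 (.leaf (3802, 145, 45)) (.leaf (5464, 164, 40)))) (.node 4662 (.node 4661 (.leaf (1098, 133, 3)) (.leaf (4184, 52, 41))) (.node 4663 (.leaf (3481, 253, 12)) (.leaf (3679, 82, 52))))) (.node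 4668 (.node 4666 (.node 4665 (.leaf (3281, 11, 52)) (.leaf (4807, 61, 22))) (.node 4667 (.leaf (2349, 236, 6)) (.leaf (2630, 165, 46)))) (.node 4670 (.node 4669 (.leaf (3224, 237, 16)) (.leaf (3400, 40, 87))) (.node 4671 (.leaf (5793, 0, 0)) (.leaf (149, 176, 81)))))))

def tEX_146 : BT (ℕ × ℕ × ℕ) := (.node 4688 (.node 4680 (.node 4676 (.node 4674 (.node 4673 (.leaf (4773, 242, 43)) (.leaf (5794, 0, 0))) (.node 4675 (.leaf (4946, 42, 25)) (.leaf (5404, 262, 82)))) (.node 4678 (.node 4677 (.leaf (4902, 240, 71)) (.leaf (5205, 110, 41))) (.node 4679 (.leaf (5795, 0, 0)) (.leaf (3953, 53, 85))))) (.node 4684 (.node 4682 (.node 4681 (.leaf (1892, 265, 68)) (.leaf (5796, 0, 0))) (.node 4683 (.leaf (4195, 23, 61)) (.leaf (2114, 50, 80)))) (.node 4686 (.node 4685 (.leaf (5601, 45, 7)) (.leaf (323, 124, 87))) (.node 4687 (.leaf (5797, 0, 0)) (.leaf (2693, 120, 37)))))) (.node 4696 (.node 4692 (.node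 4690 (.node 4689 (.leaf (5638, 161, 20)) (.leaf (2814, 143, 78))) (.node 4691 (.leaf (400, 152, 25)) (.leaf (5799, 0, 0)))) (.node 4694 (.node 4693 (.leaf (5800, 0, 0)) (.leaf (5802, 0, 0))) (.node 4695 (.leaf (5229, 59, 20)) (.leaf (2671, 228, 3))))) (.node 4700 (.node 4698 (.node 4697 (.leaf (3253, 10, 70)) (.leaf (5734, 196, 5))) (.node 4699 (.leaf (5804, 0, 0)) (.leaf (4511, 14, 84)))) (.node 4702 (.node 4701 (.leaf (3663, 82, 14)) (.leaf (2065, 116, 88))) (.node 4703 (.leaf (5568, 10, 65)) (.leaf (1037, 250, 16)))))))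

def tEX_147 : BT (ℕ × ℕ × ℕ) := (.node 4720 (.node 4712 (.node 4708 (.node 4706 (.node 4705 (.leaf (2598, 194, 8)) (.leaf (5808, 0, 0))) (.node 4707 (.leaf (4788, 43, 18)) (.leaf (4450, 226, 15)))) (.node 4710 (.node 4709 (.leaf (5698, 118, 65)) (.leaf (5810, 0, 0))) (.node 4711 (.leaf (756, 229, 52)) (.leaf (5026, 113, 15))))) (.node 4716 (.node 4714 (.node 4713 (.leaf (1118, 194, 35)) (.leaf (5137, 49, 48))) (.node 4715 (.leaf (2304, 132, 4)) (.leaf (5812, 0, 0)))) (.node 4718 (.node 4717 (.leaf (4086, 73, 20)) (.leaf (5813, 0, 0))) (.node 4719 (.leaf (2539, 251, 11)) (.leaf (4740, 211, 49)))))) (.node 4728 (.node 4724 (.node 4722 (.node 4721 (.leaf (254, 187, 7)) (.leaf (5656, 79, 64))) (.node 4723 (.leaf (1300, 36, 78)) (.leaf (5082, 13, 65)))) (.node 4726 (.node 4725 (.leaf (21, 248, 86)) (.leaf (1481, 165, 68))) (.node 4727 (.leaf (1384, 250, 83)) (.leaf (5817, 0, 0))))) (.node 4732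 (.node 4730 (.node 4729 (.leaf (4674, 250, 89)) (.leaf (5820, 0, 0))) (.node 4731 (.leaf (478, 83, 21)) (.leaf (4551, 3, 55)))) (.node 4734 (.node 4733 (.leaf (5821, 0, 0)) (.leaf (5822, 0, 0))) (.node 4735 (.leaf (5823, 0, 0)) (.leaf (3645, 139, 18)))))))

def tEX_148 : BT (ℕ × ℕ × ℕ) := (.node 4752 (.node 4744 (.node 4740 (.node 4738 (.node 4737 (.leaf (3109, 191, 51)) (.leaf (762, 256, 83))) (.node 4739 (.leaf (3401, 203, 43)) (.leaf (5476, 45, 18)))) (.node 4742 (.node 4741 (.leaf (3796, 66, 87)) (.leaf (5827, 0, 0))) (.node 4743 (.leaf (5168, 14, 82)) (.leaf (5141, 129, 71))))) (.node 4748 (.node 4746 (.node 4745 (.leaf (5829, 0, 0)) (.leaf (1533, 197, 57))) (.node 4747 (.leaf (5308, 74, 72)) (.leaf (4559, 253, 11)))) (.node 4750 (.node 4749 (.leaf (5831, 0, 0)) (.leaf (5833, 0, 0))) (.node 4751 (.leaf (5834, 0, 0)) (.leaf (5836, 0, 0)))))) (.node 4760 (.node 4756 (.node 4754 (.node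 4753 (.leaf (2521, 86, 32)) (.leaf (5424, 0, 23))) (.node 4755 (.leaf (4141, 164, 39)) (.leaf (349, 123, 18)))) (.node 4758 (.node 4757 (.leaf (1146, 224, 34)) (.leaf (1372, 124, 67))) (.node 4759 (.leaf (5838, 0, 0)) (.leaf (4687, 268, 27))))) (.node 4764 (.node 4762 (.node 4761 (.leaf (5840, 0, 0)) (.leaf (5841, 0, 0))) (.node 4763 (.leaf (5525, 10, 4)) (.leaf (1041, 131, 44)))) (.node 4766 (.node 4765 (.leaf (5219, 133, 30)) (.leaf (5845, 0, 0))) (.node 4767 (.leaf (5472, 121, 75)) (.leaf (1884, 133, 11)))))))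

def tEX_149 : BT (ℕ × ℕ × ℕ) := (.node 4784 (.node 4776 (.node 4772 (.node 4770 (.node 4769 (.leaf (4623, 179, 11)) (.leaf (4521, 191, 70))) (.node 4771 (.leaf (4994, 136, 78)) (.leaf (4232, 70, 19)))) (.node 4774 (.node 4773 (.leaf (1088, 54, 21)) (.leaf (4570, 5, 28))) (.node 4775 (.leaf (4669, 68, 38)) (.leaf (641, 233, 23))))) (.node 4780 (.node 4778 (.node 4777 (.leaf (3879, 82, 11)) (.leaf (5848, 0, 0))) (.node 4779 (.leaf (5099, 151, 30)) (.leaf (5850, 0, 0)))) (.node 4782 (.node 4781 (.leaf (5851, 0, 0)) (.leaf (5852, 0, 0))) (.node 4783 (.leaf (5854, 0, 0)) (.leaf (470, 26, 4)))))) (.node 4792 (.node 4788 (.node 4786 (.node 4785 (.leaf (3372, 124, 5)) (.leaf (3738, 226, 53))) (.node 4787 (.leaf (2959, 248, 51)) (.leaf (2262, 242, 75)))) (.node 4790 (.node 4789 (.leaf (4122, 139, 68)) (.leaf (2190, 111, 28))) (.node 4791 (.leaf (4928, 239, 15)) (.leaf (5528, 23, 24))))) (.node 4796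 (.node 4794 (.node 4793 (.leaf (5409, 173, 5)) (.leaf (4801, 77, 1))) (.node 4795 (.leaf (5574, 185, 15)) (.leaf (2284, 200, 6)))) (.node 4798 (.node 4797 (.leaf (5856, 0, 0)) (.leaf (779, 13, 81))) (.node 4799 (.leaf (4970, 69, 61)) (.leaf (5632, 39, 74)))))))

def tEX_150 : BT (ℕ × ℕ × ℕ) := (.node 4816 (.node 4808 (.node 4804 (.node 4802 (.node 4801 (.leaf (173, 23, 0)) (.leaf (717, 129, 22))) (.node 4803 (.leaf (2087, 162, 47)) (.leaf (5152, 166, 67)))) (.node 4806 (.node 4805 (.leaf (3160, 155, 24)) (.leaf (1616, 132, 62))) (.node 4807 (.leaf (3999, 175, 51)) (.leaf (3868, 236, 76))))) (.node 4812 (.node 4810 (.node 4809 (.leaf (5363, 135, 31)) (.leaf (5510, 62, 21))) (.node 4811 (.leaf (5467, 230, 4)) (.leaf (4029, 120, 52)))) (.node 4814 (.node 4813 (.leaf (5324, 38, 82)) (.leaf (4052, 240, 4))) (.node 4815 (.leaf (5655, 208, 83)) (.leaf (1672, 250, 67)))))) (.node 4824 (.node 4820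 (.node 4818 (.node 4817 (.leaf (11, 9, 32)) (.leaf (1174, 263, 72))) (.node 4819 (.leaf (4992, 229, 66)) (.leaf (3474, 114, 5)))) (.node 4822 (.node 4821 (.leaf (5266, 57, 30)) (.leaf (5863, 0, 0))) (.node 4823 (.leaf (2323, 252, 84)) (.leaf (4934, 38, 12))))) (.node 4828 (.node 4826 (.node 4825 (.leaf (5864, 0, 0)) (.leaf (2369, 22, 80))) (.node 4827 (.leaf (1508, 138, 15)) (.leaf (4878, 249, 55)))) (.node 4830 (.node 4829 (.leaf (4005, 165, 0)) (.leaf (4894, 114, 46))) (.node 4831 (.leaf (4897, 106, 49)) (.leaf (5867, 0, 0)))))))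

def tEX_151 : BT (ℕ × ℕ × ℕ) := (.node 4848 (.node 4840 (.node 4836 (.node 4834 (.node 4833 (.leaf (1046, 266, 79)) (.leaf (5853, 79, 9))) (.node 4835 (.leaf (4849, 6, 74)) (.leaf (4818, 174, 1)))) (.node 4838 (.node 4837 (.leaf (5843, 25, 57)) (.leaf (2644, 60, 65))) (.node 4839 (.leaf (5871, 0, 0)) (.leaf (5184, 154, 61))))) (.node 4844 (.node 4842 (.node 4841 (.leaf (4200, 189, 22)) (.leaf (1116, 262, 11))) (.node 4843 (.leaf (1854, 166, 32)) (.leaf (5628, 137, 67)))) (.node 4846 (.node 4845 (.leaf (4825, 7, 12)) (.leaf (5874, 0, 0))) (.node 4847 (.leaf (3810, 28, 62)) (.leaf (3650, 174, 58)))))) (.node 4856 (.node 4852 (.node 4850 (.node 4849 (.leaf (2702, 222, 16)) (.leaf (4440, 7, 0))) (.node 4851 (.leaf (3380, 222, 5)) (.leaf (2413, 23, 87)))) (.node 4854 (.node 4853 (.leaf (4251, 170, 24)) (.leaf (3203, 138, 70))) (.node 4855 (.leaf (4797, 85, 47)) (.leaf (4101, 183, 27))))) (.node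 4860 (.node 4858 (.node 4857 (.leaf (3388, 85, 51)) (.leaf (5877, 0, 0))) (.node 4859 (.leaf (5620, 129, 5)) (.leaf (5878, 0, 0)))) (.node 4862 (.node 4861 (.leaf (4859, 16, 33)) (.leaf (5879, 0, 0))) (.node 4863 (.leaf (5880, 0, 0)) (.leaf (3288, 3, 31)))))))

def tEX_152 : BT (ℕ × ℕ × ℕ) := (.node 4880 (.node 4872 (.node 4868 (.node 4866 (.node 4865 (.leaf (95, 13, 7)) (.leaf (5881, 0, 0))) (.node 4867 (.leaf (983, 228, 53)) (.leaf (5882, 0, 0)))) (.node 4870 (.node 4869 (.leaf (1370, 49, 10)) (.leaf (698, 35, 60))) (.node 4871 (.leaf (4320, 90, 65)) (.leaf (3823, 260, 59))))) (.node 4876 (.node 4874 (.node 4873 (.leaf (5729, 62, 82)) (.leaf (5348, 226, 5))) (.node 4875 (.leaf (5885, 0, 0)) (.leaf (2690, 254, 67)))) (.node 4878 (.node 4877 (.leaf (3153, 155, 88)) (.leaf (5514, 13, 73))) (.node 4879 (.leaf (4374, 184, 23)) (.leaf (3706, 38, 19)))))) (.node 4888 (.node 4884 (.node 4882 (.node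 4881 (.leaf (4983, 118, 77)) (.leaf (5888, 0, 0))) (.node 4883 (.leaf (3499, 194, 44)) (.leaf (862, 81, 4)))) (.node 4886 (.node 4885 (.leaf (5009, 74, 26)) (.leaf (5891, 0, 0))) (.node 4887 (.leaf (5785, 223, 51)) (.leaf (5791, 93, 75))))) (.node 4892 (.node 4890 (.node 4889 (.leaf (3700, 106, 41)) (.leaf (5552, 267, 47))) (.node 4891 (.leaf (5459, 154, 9)) (.leaf (5893, 0, 0)))) (.node 4894 (.node 4893 (.leaf (5894, 0, 0)) (.leaf (5895, 0, 0))) (.node 4895 (.leaf (3902, 114, 38)) (.leaf (2502, 197, 18)))))))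

def tEX_153 : BT (ℕ × ℕ × ℕ) := (.node 4912 (.node 4904 (.node 4900 (.node 4898 (.node 4897 (.leaf (919, 148, 46)) (.leaf (153, 33, 70))) (.node 4899 (.leaf (2504, 226, 45)) (.leaf (3761, 133, 23)))) (.node 4902 (.node 4901 (.leaf (5898, 0, 0)) (.leaf (5434, 117, 49))) (.node 4903 (.leaf (5855, 226, 49)) (.leaf (5899, 0, 0))))) (.node 4908 (.node 4906 (.node 4905 (.leaf (5063, 123, 89)) (.leaf (5119, 35, 89))) (.node 4907 (.leaf (3084, 89, 72)) (.leaf (5901, 0, 0)))) (.node 4910 (.node 4909 (.leaf (5373, 29, 21)) (.leaf (5290, 265, 36))) (.node 4911 (.leaf (5902, 0, 0)) (.leaf (5575, 200, 24)))))) (.node 4920 (.node 4916 (.node 4914 (.node 4913 (.leaf (1461, 12, 53)) (.leaf (1886, 12, 87))) (.node 4915 (.leaf (2918, 193, 61)) (.leaf (1712, 160, 71)))) (.node 4918 (.node 4917 (.leaf (5500, 115, 69)) (.leaf (4868, 214, 71))) (.node 4919 (.leaf (4584, 48, 18)) (.leaf (5780, 167, 24))))) (.node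 4924 (.node 4922 (.node 4921 (.leaf (5234, 185, 51)) (.leaf (3724, 135, 74))) (.node 4923 (.leaf (5875, 191, 36)) (.leaf (4286, 223, 41)))) (.node 4926 (.node 4925 (.leaf (1973, 51, 60)) (.leaf (5906, 0, 0))) (.node 4927 (.leaf (4912, 25, 34)) (.leaf (5909, 0, 0)))))))

def tEX_154 : BT (ℕ × ℕ × ℕ) := (.node 4944 (.node 4936 (.node 4932 (.node 4930 (.node 4929 (.leaf (5803, 22, 8)) (.leaf (4864, 115, 50))) (.node 4931 (.leaf (1805, 110, 49)) (.leaf (1997, 59, 80)))) (.node 4934 (.node 4933 (.leaf (4876, 183, 34)) (.leaf (2870, 163, 82))) (.node 4935 (.leaf (4288, 113, 8)) (.leaf (5912, 0, 0))))) (.node 4940 (.node 4938 (.node 4937 (.leaf (998, 242, 17)) (.leaf (271, 127, 53))) (.node 4939 (.leaf (5915, 0, 0)) (.leaf (4255, 262, 11)))) (.node 4942 (.node 4941 (.leaf (4080, 7, 15)) (.leaf (5916, 0, 0))) (.node 4943 (.leaf (3062, 189, 88)) (.leaf (5835, 223, 40)))))) (.node 4952 (.node 4948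 (.node 4946 (.node 4945 (.leaf (5721, 158, 66)) (.leaf (5216, 233, 8))) (.node 4947 (.leaf (4695, 171, 34)) (.leaf (5917, 0, 0)))) (.node 4950 (.node 4949 (.leaf (3049, 83, 31)) (.leaf (651, 87, 49))) (.node 4951 (.leaf (4113, 205, 36)) (.leaf (1219, 99, 40))))) (.node 4956 (.node 4954 (.node 4953 (.leaf (3440, 55, 23)) (.leaf (3515, 48, 19))) (.node 4955 (.leaf (2385, 262, 7)) (.leaf (5518, 167, 41)))) (.node 4958 (.node 4957 (.leaf (1176, 176, 38)) (.leaf (5801, 53, 83))) (.node 4959 (.leaf (1169, 73, 20)) (.leaf (4915, 160, 10)))))))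

def tEX_155 : BT (ℕ × ℕ × ℕ) := (.node 4976 (.node 4968 (.node 4964 (.node 4962 (.node 4961 (.leaf (4909, 171, 22)) (.leaf (1320, 249, 64))) (.node 4963 (.leaf (4921, 103, 54)) (.leaf (2838, 228, 65)))) (.node 4966 (.node 4965 (.leaf (5189, 105, 53)) (.leaf (687, 68, 11))) (.node 4967 (.leaf (5677, 90, 42)) (.leaf (1846, 13, 39))))) (.node 4972 (.node 4970 (.node 4969 (.leaf (1977, 148, 23)) (.leaf (1581, 248, 17))) (.node 4971 (.leaf (5920, 0, 0)) (.leaf (4489, 178, 88)))) (.node 4974 (.node 4973 (.leaf (5921, 0, 0)) (.leaf (4093, 226, 81))) (.node 4975 (.leaf (5923, 0, 0)) (.leaf (5666, 110, 70)))))) (.node 4984 (.node 4980 (.node 4978 (.node 4977 (.leaf (1305, 95, 52)) (.leaf (3316, 45, 48))) (.node 4979 (.leaf (5305, 259, 76)) (.leaf (5564, 109, 89)))) (.node 4982 (.node 4981 (.leaf (5044, 223, 43)) (.leaf (5927, 0, 0))) (.node 4983 (.leaf (3176, 201, 31)) (.leaf (5503, 105, 6))))) (.node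 4988 (.node 4986 (.node 4985 (.leaf (4937, 179, 51)) (.leaf (450, 194, 19))) (.node 4987 (.leaf (5751, 59, 79)) (.leaf (5475, 63, 84)))) (.node 4990 (.node 4989 (.leaf (5930, 0, 0)) (.leaf (5931, 0, 0))) (.node 4991 (.leaf (5932, 0, 0)) (.leaf (5318, 114, 45)))))))

def tEX_156 : BT (ℕ × ℕ × ℕ) := (.node 5008 (.node 5000 (.node 4996 (.node 4994 (.node 4993 (.leaf (5933, 0, 0)) (.leaf (1412, 168, 51))) (.node 4995 (.leaf (454, 241, 85)) (.leaf (776, 172, 10)))) (.node 4998 (.node 4997 (.leaf (2577, 228, 32)) (.leaf (5903, 194, 70))) (.node 4999 (.leaf (313, 251, 25)) (.leaf (2804, 102, 2))))) (.node 5004 (.node 5002 (.node 5001 (.leaf (5935, 0, 0)) (.leaf (5495, 58, 6))) (.node 5003 (.leaf (5828, 248, 86)) (.leaf (5609, 219, 64)))) (.node 5006 (.node 5005 (.leaf (663, 216, 80)) (.leaf (3106, 85, 67))) (.node 5007 (.leaf (5937, 0, 0)) (.leaf (3414, 70, 16)))))) (.node 5016 (.node 5012 (.node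 5010 (.node 5009 (.leaf (5742, 122, 79)) (.leaf (5938, 0, 0))) (.node 5011 (.leaf (3833, 85, 56)) (.leaf (5939, 0, 0)))) (.node 5014 (.node 5013 (.leaf (1525, 244, 31)) (.leaf (5941, 0, 0))) (.node 5015 (.leaf (5942, 0, 0)) (.leaf (2611, 254, 38))))) (.node 5020 (.node 5018 (.node 5017 (.leaf (5398, 98, 40)) (.leaf (5944, 0, 0))) (.node 5019 (.leaf (3509, 113, 1)) (.leaf (5238, 154, 50)))) (.node 5022 (.node 5021 (.leaf (3894, 78, 64)) (.leaf (5947, 0, 0))) (.node 5023 (.leaf (5470, 205, 49)) (.leaf (5130, 5, 67)))))))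

def tEX_157 : BT (ℕ × ℕ × ℕ) := (.node 5040 (.node 5032 (.node 5028 (.node 5026 (.node 5025 (.leaf (5948, 0, 0)) (.leaf (1844, 209, 13))) (.node 5027 (.leaf (2972, 246, 41)) (.leaf (1229, 13, 21)))) (.node 5030 (.node 5029 (.leaf (5705, 98, 0)) (.leaf (5949, 0, 0))) (.node 5031 (.leaf (5950, 0, 0)) (.leaf (4666, 50, 83))))) (.node 5036 (.node 5034 (.node 5033 (.leaf (4637, 242, 37)) (.leaf (3532, 63, 50))) (.node 5035 (.leaf (1391, 102, 55)) (.leaf (3323, 152, 58)))) (.node 5038 (.node 5037 (.leaf (5591, 170, 26)) (.leaf (1865, 111, 23))) (.node 5039 (.leaf (4900, 87, 28)) (.leaf (694, 219, 40)))))) (.node 5048 (.node 5044 (.node 5042 (.node 5041 (.leaf (3526, 188, 67)) (.leaf (988, 148, 81))) (.node 5043 (.leaf (5714, 112, 85)) (.leaf (5953, 0, 0)))) (.node 5046 (.node 5045 (.leaf (2900, 208, 58)) (.leaf (807, 237, 85))) (.node 5047 (.leaf (2043, 172, 48)) (.leaf (5954, 0, 0))))) (.node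 5052 (.node 5050 (.node 5049 (.leaf (3741, 250, 2)) (.leaf (2242, 129, 73))) (.node 5051 (.leaf (4312, 35, 73)) (.leaf (2878, 260, 80)))) (.node 5054 (.node 5053 (.leaf (4962, 84, 53)) (.leaf (5789, 268, 83))) (.node 5055 (.leaf (2339, 158, 66)) (.leaf (3910, 163, 29)))))))

def tEX_158 : BT (ℕ × ℕ × ℕ) := (.node 5072 (.node 5064 (.node 5060 (.node 5058 (.node 5057 (.leaf (5134, 183, 9)) (.leaf (5957, 0, 0))) (.node 5059 (.leaf (1511, 172, 81)) (.leaf (4919, 44, 9)))) (.node 5062 (.node 5061 (.leaf (2532, 11, 33)) (.leaf (4230, 0, 36))) (.node 5063 (.leaf (2591, 63, 43)) (.leaf (5093, 220, 15))))) (.node 5068 (.node 5066 (.node 5065 (.leaf (5913, 63, 10)) (.leaf (5959, 0, 0))) (.node 5067 (.leaf (3233, 178, 36)) (.leaf (5805, 68, 43)))) (.node 5070 (.node 5069 (.leaf (637, 33, 21)) (.leaf (689, 185, 76))) (.node 5071 (.leaf (5960, 0, 0)) (.leaf (4274, 57, 71)))))) (.node 5080 (.node 5076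 (.node 5074 (.node 5073 (.leaf (5961, 0, 0)) (.leaf (5578, 166, 32))) (.node 5075 (.leaf (5963, 0, 0)) (.leaf (5274, 244, 4)))) (.node 5078 (.node 5077 (.leaf (4468, 255, 52)) (.leaf (2143, 77, 15))) (.node 5079 (.leaf (5327, 195, 24)) (.leaf (4793, 200, 28))))) (.node 5084 (.node 5082 (.node 5081 (.leaf (5285, 52, 37)) (.leaf (5966, 0, 0))) (.node 5083 (.leaf (5187, 51, 70)) (.leaf (4948, 41, 59)))) (.node 5086 (.node 5085 (.leaf (5862, 13, 33)) (.leaf (5967, 0, 0))) (.node 5087 (.leaf (4874, 30, 37)) (.leaf (5968, 0, 0)))))))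

def tEX_159 : BT (ℕ × ℕ × ℕ) := (.node 5104 (.node 5096 (.node 5092 (.node 5090 (.node 5089 (.leaf (2370, 161, 21)) (.leaf (5969, 0, 0))) (.node 5091 (.leaf (1813, 110, 25)) (.leaf (404, 81, 40)))) (.node 5094 (.node 5093 (.leaf (2337, 236, 55)) (.leaf (5344, 208, 43))) (.node 5095 (.leaf (3434, 50, 39)) (.leaf (1607, 203, 43))))) (.node 5100 (.node 5098 (.node 5097 (.leaf (5971, 0, 0)) (.leaf (4110, 208, 72))) (.node 5099 (.leaf (5688, 80, 41)) (.leaf (5973, 0, 0)))) (.node 5102 (.node 5101 (.leaf (5551, 262, 22)) (.leaf (5910, 166, 22))) (.node 5103 (.leaf (4925, 208, 54)) (.leaf (1114, 229, 1)))))) (.node 5112 (.node 5108 (.node 5106 (.node 5105 (.leaf (5974, 0, 0)) (.leaf (5317, 43, 0))) (.node 5107 (.leaf (1726, 261, 72)) (.leaf (3905, 164, 58)))) (.node 5110 (.node 5109 (.leaf (5975, 0, 0)) (.leaf (5859, 230, 53))) (.node 5111 (.leaf (5798, 199, 89)) (.leaf (1028, 112, 59))))) (.node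 5116 (.node 5114 (.node 5113 (.leaf (4215, 229, 43)) (.leaf (47, 244, 35))) (.node 5115 (.leaf (5272, 90, 18)) (.leaf (3313, 181, 56)))) (.node 5118 (.node 5117 (.leaf (655, 202, 67)) (.leaf (5365, 269, 70))) (.node 5119 (.leaf (107, 44, 59)) (.leaf (4137, 177, 68)))))))

def tEX_160 : BT (ℕ × ℕ × ℕ) := (.node 5136 (.node 5128 (.node 5124 (.node 5122 (.node 5121 (.leaf (5977, 0, 0)) (.leaf (5191, 172, 33))) (.node 5123 (.leaf (897, 71, 53)) (.leaf (5979, 0, 0)))) (.node 5126 (.node 5125 (.leaf (4446, 216, 84)) (.leaf (4055, 120, 39))) (.node 5127 (.leaf (3846, 231, 46)) (.leaf (5980, 0, 0))))) (.node 5132 (.node 5130 (.node 5129 (.leaf (5981, 0, 0)) (.leaf (5493, 260, 73))) (.node 5131 (.leaf (4382, 168, 61)) (.leaf (3662, 268, 58)))) (.node 5134 (.node 5133 (.leaf (4980, 72, 27)) (.leaf (5984, 0, 0))) (.node 5135 (.leaf (3609, 169, 77)) (.leaf (5986, 0, 0)))))) (.node 5144 (.node 5140 (.node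 5138 (.node 5137 (.leaf (5287, 227, 75)) (.leaf (3649, 149, 78))) (.node 5139 (.leaf (2827, 134, 5)) (.leaf (456, 20, 15)))) (.node 5142 (.node 5141 (.leaf (5987, 0, 0)) (.leaf (4706, 151, 60))) (.node 5143 (.leaf (2997, 248, 55)) (.leaf (4174, 267, 32))))) (.node 5148 (.node 5146 (.node 5145 (.leaf (4872, 27, 55)) (.leaf (1108, 85, 82))) (.node 5147 (.leaf (4352, 189, 13)) (.leaf (260, 208, 31)))) (.node 5150 (.node 5149 (.leaf (5411, 182, 30)) (.leaf (2509, 130, 15))) (.node 5151 (.leaf (4577, 109, 46)) (.leaf (5985, 140, 1)))))))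

def tEX_161 : BT (ℕ × ℕ × ℕ) := (.node 5168 (.node 5160 (.node 5156 (.node 5154 (.node 5153 (.leaf (5936, 36, 58)) (.leaf (1004, 100, 17))) (.node 5155 (.leaf (3987, 75, 63)) (.leaf (2136, 100, 64)))) (.node 5158 (.node 5157 (.leaf (5988, 55, 20)) (.leaf (2188, 15, 26))) (.node 5159 (.leaf (5992, 0, 0)) (.leaf (1775, 209, 64))))) (.node 5164 (.node 5162 (.node 5161 (.leaf (5657, 208, 54)) (.leaf (4310, 30, 63))) (.node 5163 (.leaf (4328, 99, 80)) (.leaf (1894, 252, 33)))) (.node 5166 (.node 5165 (.leaf (5540, 79, 53)) (.leaf (5955, 95, 42))) (.node 5167 (.leaf (1967, 12, 60)) (.leaf (5934, 106, 88)))))) (.node 5176 (.node 5172 (.node 5170 (.node 5169 (.leaf (4097, 26, 6)) (.leaf (4977, 32, 53))) (.node 5171 (.leaf (5996, 0, 0)) (.leaf (5990, 67, 44)))) (.node 5174 (.node 5173 (.leaf (5010, 5, 81)) (.leaf (5997, 0, 0))) (.node 5175 (.leaf (5073, 1, 10)) (.leaf (5998, 0, 0))))) (.node 5180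 (.node 5178 (.node 5177 (.leaf (3873, 110, 22)) (.leaf (5289, 240, 42))) (.node 5179 (.leaf (3632, 234, 54)) (.leaf (1758, 208, 65)))) (.node 5182 (.node 5181 (.leaf (2616, 205, 72)) (.leaf (5316, 220, 59))) (.node 5183 (.leaf (85, 220, 71)) (.leaf (4506, 14, 42)))))))

def tEX_162 : BT (ℕ × ℕ × ℕ) := (.node 5200 (.node 5192 (.node 5188 (.node 5186 (.node 5185 (.leaf (5951, 25, 82)) (.leaf (5919, 136, 67))) (.node 5187 (.leaf (5297, 21, 58)) (.leaf (4639, 255, 65)))) (.node 5190 (.node 5189 (.leaf (5556, 64, 32)) (.leaf (6000, 70, 26))) (.node 5191 (.leaf (6001, 0, 0)) (.leaf (4889, 7, 37))))) (.node 5196 (.node 5194 (.node 5193 (.leaf (4477, 86, 23)) (.leaf (6002, 0, 0))) (.node 5195 (.leaf (5908, 3, 78)) (.leaf (6003, 0, 0)))) (.node 5198 (.node 5197 (.leaf (6004, 0, 0)) (.leaf (4443, 163, 11))) (.node 5199 (.leaf (987, 263, 0)) (.leaf (2214, 130, 64)))))) (.node 5208 (.node 5204 (.node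 5202 (.node 5201 (.leaf (5595, 4, 83)) (.leaf (1631, 166, 24))) (.node 5203 (.leaf (6007, 0, 0)) (.leaf (1659, 140, 16)))) (.node 5206 (.node 5205 (.leaf (3325, 123, 11)) (.leaf (5336, 73, 79))) (.node 5207 (.leaf (1096, 188, 56)) (.leaf (4754, 117, 43))))) (.node 5212 (.node 5210 (.node 5209 (.leaf (3246, 99, 65)) (.leaf (6009, 0, 0))) (.node 5211 (.leaf (4537, 266, 55)) (.leaf (3053, 140, 81)))) (.node 5214 (.node 5213 (.leaf (5, 0, 0)) (.leaf (5849, 119, 81))) (.node 5215 (.leaf (4592, 42, 61)) (.leaf (2438, 102, 86)))))))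

def tEX_163 : BT (ℕ × ℕ × ℕ) := (.node 5232 (.node 5224 (.node 5220 (.node 5218 (.node 5217 (.leaf (6011, 0, 0)) (.leaf (1419, 148, 21))) (.node 5219 (.leaf (4036, 123, 89)) (.leaf (5952, 226, 56)))) (.node 5222 (.node 5221 (.leaf (4424, 228, 8)) (.leaf (934, 34, 32))) (.node 5223 (.leaf (5857, 123, 12)) (.leaf (1318, 40, 21))))) (.node 5228 (.node 5226 (.node 5225 (.leaf (5819, 252, 11)) (.leaf (5684, 184, 85))) (.node 5227 (.leaf (6014, 0, 0)) (.leaf (492, 167, 0)))) (.node 5230 (.node 5229 (.leaf (4923, 53, 39)) (.leaf (2758, 179, 20))) (.node 5231 (.leaf (4979, 226, 44)) (.leaf (5268, 185, 53)))))) (.node 5240 (.node 5236 (.node 5234 (.node 5233 (.leaf (5640, 222, 2)) (.leaf (4748, 45, 22))) (.node 5235 (.leaf (5811, 117, 87)) (.leaf (6015, 0, 0)))) (.node 5238 (.node 5237 (.leaf (5084, 99, 64)) (.leaf (1913, 144, 59))) (.node 5239 (.leaf (5924, 65, 81)) (.leaf (889, 74, 51))))) (.node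 5244 (.node 5242 (.node 5241 (.leaf (2790, 70, 55)) (.leaf (5943, 58, 18))) (.node 5243 (.leaf (4357, 118, 11)) (.leaf (442, 239, 53)))) (.node 5246 (.node 5245 (.leaf (2278, 210, 74)) (.leaf (3298, 140, 2))) (.node 5247 (.leaf (3262, 172, 56)) (.leaf (6017, 0, 0)))))))

def tEX_164 : BT (ℕ × ℕ × ℕ) := (.node 5264 (.node 5256 (.node 5252 (.node 5250 (.node 5249 (.leaf (2002, 240, 37)) (.leaf (1130, 81, 86))) (.node 5251 (.leaf (458, 3, 85)) (.leaf (6019, 0, 0)))) (.node 5254 (.node 5253 (.leaf (6020, 0, 0)) (.leaf (6021, 0, 0))) (.node 5255 (.leaf (6023, 0, 0)) (.leaf (6024, 0, 0))))) (.node 5260 (.node 5258 (.node 5257 (.leaf (785, 197, 13)) (.leaf (2471, 105, 58))) (.node 5259 (.leaf (4665, 104, 54)) (.leaf (876, 267, 49)))) (.node 5262 (.node 5261 (.leaf (3396, 249, 68)) (.leaf (6028, 0, 0))) (.node 5263 (.leaf (4505, 57, 19)) (.leaf (6029, 0, 0)))))) (.node 5272 (.node 5268 (.node 5266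 (.node 5265 (.leaf (5897, 257, 3)) (.leaf (5870, 1, 76))) (.node 5267 (.leaf (5818, 80, 1)) (.leaf (2600, 168, 18)))) (.node 5270 (.node 5269 (.leaf (5438, 260, 3)) (.leaf (4451, 56, 79))) (.node 5271 (.leaf (299, 156, 38)) (.leaf (2453, 239, 13))))) (.node 5276 (.node 5274 (.node 5273 (.leaf (5767, 116, 43)) (.leaf (3892, 13, 4))) (.node 5275 (.leaf (4595, 64, 70)) (.leaf (5999, 232, 80)))) (.node 5278 (.node 5277 (.leaf (6032, 0, 0)) (.leaf (381, 199, 54))) (.node 5279 (.leaf (1681, 148, 1)) (.leaf (5298, 49, 73)))))))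

def tEX_165 : BT (ℕ × ℕ × ℕ) := (.node 5296 (.node 5288 (.node 5284 (.node 5282 (.node 5281 (.leaf (2204, 177, 59)) (.leaf (1756, 27, 39))) (.node 5283 (.leaf (4204, 89, 19)) (.leaf (4774, 186, 31)))) (.node 5286 (.node 5285 (.leaf (5457, 180, 33)) (.leaf (1308, 120, 48))) (.node 5287 (.leaf (6033, 0, 0)) (.leaf (6034, 0, 0))))) (.node 5292 (.node 5290 (.node 5289 (.leaf (5633, 38, 4)) (.leaf (602, 128, 9))) (.node 5291 (.leaf (209, 80, 38)) (.leaf (990, 92, 31)))) (.node 5294 (.node 5293 (.leaf (6036, 0, 0)) (.leaf (5527, 129, 12))) (.node 5295 (.leaf (4575, 66, 57)) (.leaf (5700, 182, 73)))))) (.node 5304 (.node 5300 (.node 5298 (.node 5297 (.leaf (6035, 257, 19)) (.leaf (6037, 0, 0))) (.node 5299 (.leaf (3341, 88, 38)) (.leaf (2990, 28, 5)))) (.node 5302 (.node 5301 (.leaf (6038, 0, 0)) (.leaf (1436, 197, 51))) (.node 5303 (.leaf (3300, 265, 44)) (.leaf (5777, 55, 60))))) (.node 5308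 (.node 5306 (.node 5305 (.leaf (4582, 22, 4)) (.leaf (508, 32, 89))) (.node 5307 (.leaf (633, 264, 64)) (.leaf (6039, 0, 0)))) (.node 5310 (.node 5309 (.leaf (5462, 214, 21)) (.leaf (5723, 56, 0))) (.node 5311 (.leaf (5492, 69, 72)) (.leaf (3256, 168, 13)))))))

def tEX_166 : BT (ℕ × ℕ × ℕ) := (.node 5328 (.node 5320 (.node 5316 (.node 5314 (.node 5313 (.leaf (1244, 140, 26)) (.leaf (796, 80, 88))) (.node 5315 (.leaf (6041, 0, 0)) (.leaf (4805, 199, 62)))) (.node 5318 (.node 5317 (.leaf (3698, 17, 20)) (.leaf (4710, 239, 15))) (.node 5319 (.leaf (3745, 146, 31)) (.leaf (408, 120, 89))))) (.node 5324 (.node 5322 (.node 5321 (.leaf (1664, 28, 83)) (.leaf (6043, 0, 0))) (.node 5323 (.leaf (6044, 0, 0)) (.leaf (4390, 234, 38)))) (.node 5326 (.node 5325 (.leaf (1939, 31, 34)) (.leaf (774, 157, 57))) (.node 5327 (.leaf (6045, 0, 0)) (.leaf (5452, 153, 3)))))) (.node 5336 (.node 5332 (.node 5330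 (.node 5329 (.leaf (6046, 0, 0)) (.leaf (303, 164, 17))) (.node 5331 (.leaf (3163, 31, 38)) (.leaf (5668, 23, 41)))) (.node 5334 (.node 5333 (.leaf (5860, 247, 51)) (.leaf (1453, 3, 32))) (.node 5335 (.leaf (3599, 30, 47)) (.leaf (4573, 234, 51))))) (.node 5340 (.node 5338 (.node 5337 (.leaf (3165, 76, 74)) (.leaf (5693, 138, 63))) (.node 5339 (.leaf (727, 240, 60)) (.leaf (6008, 177, 47)))) (.node 5342 (.node 5341 (.leaf (6049, 0, 0)) (.leaf (4680, 215, 19))) (.node 5343 (.leaf (1755, 4, 66)) (.leaf (1368, 47, 0)))))))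

def tEX_167 : BT (ℕ × ℕ × ℕ) := (.node 5360 (.node 5352 (.node 5348 (.node 5346 (.node 5345 (.leaf (4763, 150, 46)) (.leaf (4061, 237, 28))) (.node 5347 (.leaf (1274, 212, 65)) (.leaf (165, 115, 49)))) (.node 5350 (.node 5349 (.leaf (3852, 253, 8)) (.leaf (6053, 0, 0))) (.node 5351 (.leaf (5730, 4, 53)) (.leaf (4426, 156, 11))))) (.node 5356 (.node 5354 (.node 5353 (.leaf (5502, 194, 52)) (.leaf (3010, 42, 81))) (.node 5355 (.leaf (6054, 0, 0)) (.leaf (5494, 110, 68)))) (.node 5358 (.node 5357 (.leaf (234, 239, 55)) (.leaf (5976, 234, 14))) (.node 5359 (.leaf (962, 174, 53)) (.leaf (4651, 80, 82)))))) (.node 5368 (.node 5364 (.node 5362 (.node 5361 (.leaf (2507, 51, 88)) (.leaf (2766, 75, 48))) (.node 5363 (.leaf (685, 267, 84)) (.leaf (743, 26, 55)))) (.node 5366 (.node 5365 (.leaf (1374, 65, 70)) (.leaf (2970, 39, 51))) (.node 5367 (.leaf (4945, 223, 6)) (.leaf (6056, 0, 0))))) (.node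 5372 (.node 5370 (.node 5369 (.leaf (5355, 126, 26)) (.leaf (5744, 270, 2))) (.node 5371 (.leaf (6058, 0, 0)) (.leaf (760, 35, 80)))) (.node 5374 (.node 5373 (.leaf (5763, 10, 88)) (.leaf (4701, 70, 84))) (.node 5375 (.leaf (529, 239, 46)) (.leaf (6059, 0, 0)))))))

def tEX_168 : BT (ℕ × ℕ × ℕ) := (.node 5392 (.node 5384 (.node 5380 (.node 5378 (.node 5377 (.leaf (6060, 0, 0)) (.leaf (6062, 0, 0))) (.node 5379 (.leaf (4480, 266, 23)) (.leaf (1587, 197, 21)))) (.node 5382 (.node 5381 (.leaf (1728, 183, 34)) (.leaf (866, 47, 54))) (.node 5383 (.leaf (217, 251, 2)) (.leaf (5126, 167, 28))))) (.node 5388 (.node 5386 (.node 5385 (.leaf (3588, 248, 55)) (.leaf (3961, 112, 27))) (.node 5387 (.leaf (4023, 193, 65)) (.leaf (5887, 263, 13)))) (.node 5390 (.node 5389 (.leaf (3567, 183, 24)) (.leaf (5929, 47, 48))) (.node 5391 (.leaf (4428, 172, 65)) (.leaf (5014, 145, 66)))))) (.node 5400 (.node 5396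 (.node 5394 (.node 5393 (.leaf (4442, 2, 51)) (.leaf (5905, 145, 38))) (.node 5395 (.leaf (5745, 56, 19)) (.leaf (3260, 119, 11)))) (.node 5398 (.node 5397 (.leaf (6067, 0, 0)) (.leaf (1428, 269, 15))) (.node 5399 (.leaf (870, 31, 18)) (.leaf (6069, 0, 0))))) (.node 5404 (.node 5402 (.node 5401 (.leaf (5720, 187, 30)) (.leaf (1496, 76, 4))) (.node 5403 (.leaf (6071, 0, 0)) (.leaf (5596, 122, 68)))) (.node 5406 (.node 5405 (.leaf (5396, 150, 12)) (.leaf (4283, 105, 58))) (.node 5407 (.leaf (4148, 103, 56)) (.leaf (3863, 45, 62)))))))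

def tEX_169 : BT (ℕ × ℕ × ℕ) := (.node 5424 (.node 5416 (.node 5412 (.node 5410 (.node 5409 (.leaf (3636, 111, 46)) (.leaf (5351, 40, 54))) (.node 5411 (.leaf (4337, 164, 89)) (.leaf (1798, 139, 11)))) (.node 5414 (.node 5413 (.leaf (1933, 20, 86)) (.leaf (282, 142, 70))) (.node 5415 (.leaf (5782, 200, 88)) (.leaf (5012, 164, 39))))) (.node 5420 (.node 5418 (.node 5417 (.leaf (6072, 0, 0)) (.leaf (5608, 31, 13))) (.node 5419 (.leaf (360, 159, 2)) (.leaf (1128, 237, 15)))) (.node 5422 (.node 5421 (.leaf (1339, 259, 79)) (.leaf (4589, 28, 29))) (.node 5423 (.leaf (1765, 61, 12)) (.leaf (4715, 169, 48)))))) (.node 5432 (.node 5428 (.node 5426 (.node 5425 (.leaf (5873, 226, 87)) (.leaf (2184, 198, 54))) (.node 5427 (.leaf (383, 128, 52)) (.leaf (2906, 44, 4)))) (.node 5430 (.node 5429 (.leaf (293, 56, 16)) (.leaf (4762, 217, 26))) (.node 5431 (.leaf (3174, 49, 24)) (.leaf (1735, 94, 34)))))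 (.node 5436 (.node 5434 (.node 5433 (.leaf (2317, 22, 73)) (.leaf (3485, 64, 34))) (.node 5435 (.leaf (1110, 197, 37)) (.leaf (4406, 76, 30)))) (.node 5438 (.node 5437 (.leaf (2613, 269, 9)) (.leaf (2753, 40, 39))) (.node 5439 (.leaf (6006, 86, 66)) (.leaf (4811, 42, 72)))))))

def tEX_170 : BT (ℕ × ℕ × ℕ) := (.node 5456 (.node 5448 (.node 5444 (.node 5442 (.node 5441 (.leaf (246, 226, 71)) (.leaf (5671, 266, 64))) (.node 5443 (.leaf (6074, 0, 0)) (.leaf (659, 195, 16)))) (.node 5446 (.node 5445 (.leaf (6076, 0, 0)) (.leaf (5159, 162, 34))) (.node 5447 (.leaf (5737, 263, 37)) (.leaf (6077, 0, 0))))) (.node 5452 (.node 5450 (.node 5449 (.leaf (2069, 205, 54)) (.leaf (4974, 215, 24))) (.node 5451 (.leaf (6068, 119, 79)) (.leaf (5991, 127, 89)))) (.node 5454 (.node 5453 (.leaf (5866, 165, 18)) (.leaf (3718, 28, 77))) (.node 5455 (.leaf (4757, 30, 10)) (.leaf (5872, 126, 3)))))) (.node 5464 (.node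 5460 (.node 5458 (.node 5457 (.leaf (3695, 144, 63)) (.leaf (2834, 190, 57))) (.node 5459 (.leaf (6065, 230, 7)) (.leaf (3956, 12, 38)))) (.node 5462 (.node 5461 (.leaf (2174, 80, 19)) (.leaf (6078, 0, 0))) (.node 5463 (.leaf (3311, 204, 61)) (.leaf (4388, 48, 36))))) (.node 5468 (.node 5466 (.node 5465 (.leaf (4127, 137, 73)) (.leaf (5792, 111, 0))) (.node 5467 (.leaf (1989, 253, 86)) (.leaf (2063, 245, 17)))) (.node 5470 (.node 5469 (.leaf (1599, 197, 58)) (.leaf (5151, 237, 15))) (.node 5471 (.leaf (2831, 132, 28)) (.leaf (4827, 151, 29)))))))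

def tEX_171 : BT (ℕ × ℕ × ℕ) := (.node 5488 (.node 5480 (.node 5476 (.node 5474 (.node 5473 (.leaf (1092, 5, 62)) (.leaf (6080, 0, 0))) (.node 5475 (.leaf (5582, 193, 44)) (.leaf (6026, 81, 68)))) (.node 5478 (.node 5477 (.leaf (2495, 146, 70)) (.leaf (895, 162, 74))) (.node 5479 (.leaf (5246, 242, 14)) (.leaf (3365, 102, 15))))) (.node 5484 (.node 5482 (.node 5481 (.leaf (581, 175, 13)) (.leaf (3264, 7, 16))) (.node 5483 (.leaf (5830, 38, 20)) (.leaf (960, 198, 28)))) (.node 5486 (.node 5485 (.leaf (968, 165, 59)) (.leaf (1215, 248, 10))) (.node 5487 (.leaf (766, 129, 26)) (.leaf (6081, 0, 0)))))) (.node 5496 (.node 5492 (.node 5490 (.node 5489 (.leaf (3634, 256, 53)) (.leaf (5102, 103, 18))) (.node 5491 (.leaf (4517, 61, 65)) (.leaf (5156, 133, 10)))) (.node 5494 (.node 5493 (.leaf (1138, 94, 81)) (.leaf (4794, 251, 87))) (.node 5495 (.leaf (2859, 178, 5)) (.leaf (6082, 0, 0))))) (.node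 5500 (.node 5498 (.node 5497 (.leaf (6040, 219, 55)) (.leaf (6057, 189, 79))) (.node 5499 (.leaf (5660, 35, 67)) (.leaf (1498, 220, 52)))) (.node 5502 (.node 5501 (.leaf (3997, 216, 84)) (.leaf (3876, 246, 60))) (.node 5503 (.leaf (6083, 0, 0)) (.leaf (6084, 0, 0)))))))

def tEX_172 : BT (ℕ × ℕ × ℕ) := (.node 5520 (.node 5512 (.node 5508 (.node 5506 (.node 5505 (.leaf (2460, 156, 30)) (.leaf (4090, 82, 35))) (.node 5507 (.leaf (2160, 45, 28)) (.leaf (5371, 3, 39)))) (.node 5510 (.node 5509 (.leaf (2829, 150, 15)) (.leaf (3186, 220, 77))) (.node 5511 (.leaf (3238, 137, 26)) (.leaf (2922, 202, 42))))) (.node 5516 (.node 5514 (.node 5513 (.leaf (4483, 182, 5)) (.leaf (375, 116, 56))) (.node 5515 (.leaf (480, 129, 48)) (.leaf (872, 187, 69)))) (.node 5518 (.node 5517 (.leaf (5753, 117, 80)) (.leaf (3669, 245, 32))) (.node 5519 (.leaf (4263, 198, 33)) (.leaf (3602, 162, 16)))))) (.node 5528 (.node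 5524 (.node 5522 (.node 5521 (.leaf (5089, 239, 86)) (.leaf (6088, 0, 0))) (.node 5523 (.leaf (5385, 183, 69)) (.leaf (1289, 72, 55)))) (.node 5526 (.node 5525 (.leaf (512, 131, 66)) (.leaf (3023, 194, 81))) (.node 5527 (.leaf (4260, 127, 34)) (.leaf (1022, 91, 70))))) (.node 5532 (.node 5530 (.node 5529 (.leaf (5687, 95, 48)) (.leaf (5566, 216, 14))) (.node 5531 (.leaf (6005, 8, 12)) (.leaf (6092, 0, 0)))) (.node 5534 (.node 5533 (.leaf (3875, 14, 66)) (.leaf (265, 5, 38))) (.node 5535 (.leaf (2733, 77, 33)) (.leaf (572, 207, 0)))))))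

def tEX_173 : BT (ℕ × ℕ × ℕ) := (.node 5552 (.node 5544 (.node 5540 (.node 5538 (.node 5537 (.leaf (6025, 110, 11)) (.leaf (391, 180, 66))) (.node 5539 (.leaf (5922, 176, 4)) (.leaf (141, 103, 73)))) (.node 5542 (.node 5541 (.leaf (5774, 73, 70)) (.leaf (6094, 0, 0))) (.node 5543 (.leaf (4803, 252, 0)) (.leaf (2458, 17, 58))))) (.node 5548 (.node 5546 (.node 5545 (.leaf (1995, 68, 7)) (.leaf (6096, 0, 0))) (.node 5547 (.leaf (5726, 105, 61)) (.leaf (6097, 0, 0)))) (.node 5550 (.node 5549 (.leaf (4491, 171, 50)) (.leaf (3911, 53, 86))) (.node 5551 (.leaf (4963, 240, 24)) (.leaf (542, 15, 25)))))) (.node 5560 (.node 5556 (.node 5554 (.node 5553 (.leaf (2335, 21, 64)) (.leaf (5993, 71, 48))) (.node 5555 (.leaf (4083, 231, 54)) (.leaf (3004, 114, 4)))) (.node 5558 (.node 5557 (.leaf (618, 44, 20)) (.leaf (5965, 131, 17))) (.node 5559 (.leaf (5314, 101, 30)) (.leaf (6099, 0, 0))))) (.node 5564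 (.node 5562 (.node 5561 (.leaf (4244, 141, 50)) (.leaf (981, 199, 17))) (.node 5563 (.leaf (2940, 1, 7)) (.leaf (6090, 26, 85)))) (.node 5566 (.node 5565 (.leaf (3094, 86, 27)) (.leaf (2735, 146, 59))) (.node 5567 (.leaf (4499, 166, 62)) (.leaf (5387, 180, 84)))))))

def tEX_174 : BT (ℕ × ℕ × ℕ) := (.node 5584 (.node 5576 (.node 5572 (.node 5570 (.node 5569 (.leaf (4538, 16, 46)) (.leaf (5284, 257, 51))) (.node 5571 (.leaf (3658, 162, 52)) (.leaf (2787, 73, 78)))) (.node 5574 (.node 5573 (.leaf (5630, 27, 34)) (.leaf (6102, 0, 0))) (.node 5575 (.leaf (5376, 153, 8)) (.leaf (3673, 252, 79))))) (.node 5580 (.node 5578 (.node 5577 (.leaf (754, 202, 69)) (.leaf (3783, 118, 47))) (.node 5579 (.leaf (2888, 226, 13)) (.leaf (5612, 163, 9)))) (.node 5582 (.node 5581 (.leaf (517, 145, 80)) (.leaf (5989, 258, 32))) (.node 5583 (.leaf (6104, 0, 0)) (.leaf (2000, 213, 47)))))) (.node 5592 (.node 5588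 (.node 5586 (.node 5585 (.leaf (5844, 32, 28)) (.leaf (4386, 225, 42))) (.node 5587 (.leaf (35, 120, 2)) (.leaf (3489, 206, 49)))) (.node 5590 (.node 5589 (.leaf (5378, 38, 48)) (.leaf (5809, 72, 43))) (.node 5591 (.leaf (4019, 216, 46)) (.leaf (1633, 43, 85))))) (.node 5596 (.node 5594 (.node 5593 (.leaf (3915, 146, 77)) (.leaf (2514, 254, 84))) (.node 5595 (.leaf (3033, 244, 30)) (.leaf (5390, 88, 3)))) (.node 5598 (.node 5597 (.leaf (371, 270, 9)) (.leaf (5520, 5, 34))) (.node 5599 (.leaf (4547, 83, 70)) (.leaf (6108, 0, 0)))))))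

def tEX_175 : BT (ℕ × ℕ × ℕ) := (.node 5616 (.node 5608 (.node 5604 (.node 5602 (.node 5601 (.leaf (1213, 50, 28)) (.leaf (3467, 94, 84))) (.node 5603 (.leaf (2427, 252, 23)) (.leaf (2996, 218, 8)))) (.node 5606 (.node 5605 (.leaf (3422, 179, 12)) (.leaf (5150, 148, 3))) (.node 5607 (.leaf (5542, 1, 1)) (.leaf (4624, 73, 6))))) (.node 5612 (.node 5610 (.node 5609 (.leaf (3666, 14, 76)) (.leaf (2462, 73, 52))) (.node 5611 (.leaf (5918, 134, 53)) (.leaf (5173, 269, 10)))) (.node 5614 (.node 5613 (.leaf (745, 3, 18)) (.leaf (356, 235, 5))) (.node 5615 (.leaf (4111, 59, 36)) (.leaf (5928, 246, 80)))))) (.node 5624 (.node 5620 (.node 5618 (.node 5617 (.leaf (2519, 179, 75)) (.leaf (4713, 159, 13))) (.node 5619 (.leaf (6018, 205, 49)) (.leaf (4606, 168, 3)))) (.node 5622 (.node 5621 (.leaf (2890, 104, 86)) (.leaf (6063, 7, 25))) (.node 5623 (.leaf (6031, 251, 43)) (.leaf (5544, 269, 27))))) (.node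 5628 (.node 5626 (.node 5625 (.leaf (5195, 81, 79)) (.leaf (3092, 204, 71))) (.node 5627 (.leaf (5806, 103, 3)) (.leaf (5861, 170, 30)))) (.node 5630 (.node 5629 (.leaf (5614, 232, 35)) (.leaf (4597, 29, 25))) (.node 5631 (.leaf (4370, 250, 32)) (.leaf (4445, 133, 64)))))))

def tEX_176 : BT (ℕ × ℕ × ℕ) := (.node 5648 (.node 5640 (.node 5636 (.node 5634 (.node 5633 (.leaf (4280, 95, 63)) (.leaf (5320, 154, 6))) (.node 5635 (.leaf (4065, 201, 13)) (.leaf (4622, 136, 59)))) (.node 5638 (.node 5637 (.leaf (3677, 196, 45)) (.leaf (5995, 177, 50))) (.node 5639 (.leaf (3967, 227, 16)) (.leaf (4130, 146, 57))))) (.node 5644 (.node 5642 (.node 5641 (.leaf (6070, 193, 79)) (.leaf (3117, 216, 76))) (.node 5643 (.leaf (5572, 195, 54)) (.leaf (5816, 124, 17)))) (.node 5646 (.node 5645 (.leaf (3940, 9, 42)) (.leaf (5889, 246, 15))) (.node 5647 (.leaf (5295, 241, 2)) (.leaf (4941, 198, 6)))))) (.node 5656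 (.node 5652 (.node 5650 (.node 5649 (.leaf (6112, 0, 0)) (.leaf (3335, 118, 89))) (.node 5651 (.leaf (1423, 211, 39)) (.leaf (6106, 52, 16)))) (.node 5654 (.node 5653 (.leaf (6064, 212, 3)) (.leaf (6113, 0, 0))) (.node 5655 (.leaf (5065, 220, 5)) (.leaf (5273, 137, 12))))) (.node 5660 (.node 5658 (.node 5657 (.leaf (3162, 93, 5)) (.leaf (406, 126, 45))) (.node 5659 (.leaf (2695, 142, 85)) (.leaf (923, 205, 44)))) (.node 5662 (.node 5661 (.leaf (3974, 87, 16)) (.leaf (1284, 70, 43))) (.node 5663 (.leaf (6114, 0, 0)) (.leaf (2138, 122, 32)))))))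

def tEX_177 : BT (ℕ × ℕ × ℕ) := (.node 5680 (.node 5672 (.node 5668 (.node 5666 (.node 5665 (.leaf (3671, 260, 82)) (.leaf (4716, 11, 80))) (.node 5667 (.leaf (4284, 85, 71)) (.leaf (5146, 127, 19)))) (.node 5670 (.node 5669 (.leaf (43, 133, 41)) (.leaf (5117, 243, 11))) (.node 5671 (.leaf (4939, 263, 65)) (.leaf (6116, 0, 0))))) (.node 5676 (.node 5674 (.node 5673 (.leaf (472, 0, 60)) (.leaf (5326, 134, 81))) (.node 5675 (.leaf (5970, 99, 50)) (.leaf (3424, 28, 52)))) (.node 5678 (.node 5677 (.leaf (1800, 200, 1)) (.leaf (2655, 64, 59))) (.node 5679 (.leaf (5842, 155, 38)) (.leaf (5346, 82, 1)))))) (.node 5688 (.node 5684 (.node 5682 (.node 5681 (.leaf (2312, 61, 34)) (.leaf (5382, 136, 10))) (.node 5683 (.leaf (4171, 105, 75)) (.leaf (1647, 176, 12)))) (.node 5686 (.node 5685 (.leaf (2748, 6, 20)) (.leaf (6118, 0, 0))) (.node 5687 (.leaf (5907, 113, 63)) (.leaf (4798, 116, 65))))) (.node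 5692 (.node 5690 (.node 5689 (.leaf (5876, 239, 35)) (.leaf (3769, 262, 37))) (.node 5691 (.leaf (6120, 0, 0)) (.leaf (677, 23, 24)))) (.node 5694 (.node 5693 (.leaf (5964, 168, 13)) (.leaf (5890, 133, 50))) (.node 5695 (.leaf (2498, 71, 64)) (.leaf (2942, 214, 82)))))))

def tEX_178 : BT (ℕ × ℕ × ℕ) := (.node 5712 (.node 5704 (.node 5700 (.node 5698 (.node 5697 (.leaf (3870, 50, 82)) (.leaf (4960, 0, 46))) (.node 5699 (.leaf (2886, 103, 81)) (.leaf (2566, 27, 7)))) (.node 5702 (.node 5701 (.leaf (6066, 71, 88)) (.leaf (6105, 126, 88))) (.node 5703 (.leaf (4050, 11, 54)) (.leaf (4673, 245, 53))))) (.node 5708 (.node 5706 (.node 5705 (.leaf (5982, 62, 14)) (.leaf (6079, 227, 43))) (.node 5707 (.leaf (2994, 198, 79)) (.leaf (5030, 233, 74)))) (.node 5710 (.node 5709 (.leaf (2028, 150, 53)) (.leaf (6122, 0, 0))) (.node 5711 (.leaf (4256, 5, 65)) (.leaf (4873, 41, 32)))))) (.node 5720 (.node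 5716 (.node 5714 (.node 5713 (.leaf (5631, 121, 45)) (.leaf (6117, 129, 80))) (.node 5715 (.leaf (6123, 0, 0)) (.leaf (3025, 169, 14)))) (.node 5718 (.node 5717 (.leaf (3709, 182, 62)) (.leaf (3559, 256, 46))) (.node 5719 (.leaf (5762, 70, 81)) (.leaf (5181, 207, 85))))) (.node 5724 (.node 5722 (.node 5721 (.leaf (1848, 148, 26)) (.leaf (1020, 267, 34))) (.node 5723 (.leaf (6126, 0, 0)) (.leaf (2179, 210, 43)))) (.node 5726 (.node 5725 (.leaf (6013, 51, 31)) (.leaf (4986, 60, 44))) (.node 5727 (.leaf (4958, 116, 88)) (.leaf (5883, 154, 77)))))))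

def tEX_179 : BT (ℕ × ℕ × ℕ) := (.node 5744 (.node 5736 (.node 5732 (.node 5730 (.node 5729 (.leaf (4194, 120, 79)) (.leaf (3960, 245, 68))) (.node 5731 (.leaf (5865, 212, 10)) (.leaf (1517, 128, 32)))) (.node 5734 (.node 5733 (.leaf (5706, 66, 33)) (.leaf (6030, 261, 10))) (.node 5735 (.leaf (6127, 0, 0)) (.leaf (1124, 188, 37))))) (.node 5740 (.node 5738 (.node 5737 (.leaf (4054, 223, 23)) (.leaf (3379, 98, 65))) (.node 5739 (.leaf (145, 149, 3)) (.leaf (4453, 177, 0)))) (.node 5742 (.node 5741 (.leaf (5309, 114, 83)) (.leaf (3861, 77, 38))) (.node 5743 (.leaf (93, 271, 22)) (.leaf (5837, 150, 84)))))) (.node 5752 (.node 5748 (.node 5746 (.node 5745 (.leaf (5914, 194, 32)) (.leaf (2272, 133, 25))) (.node 5747 (.leaf (3729, 235, 20)) (.leaf (5925, 96, 4)))) (.node 5750 (.node 5749 (.leaf (5394, 171, 89)) (.leaf (4350, 144, 83))) (.node 5751 (.leaf (4783, 103, 67)) (.leaf (4856, 151, 80)))))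 (.node 5756 (.node 5754 (.node 5753 (.leaf (5926, 18, 46)) (.leaf (6129, 0, 0))) (.node 5755 (.leaf (5787, 239, 62)) (.leaf (5904, 63, 22)))) (.node 5758 (.node 5757 (.leaf (1869, 226, 10)) (.leaf (5166, 221, 30))) (.node 5759 (.leaf (6091, 24, 48)) (.leaf (5697, 72, 30)))))))

def tEX_180 : BT (ℕ × ℕ × ℕ) := (.node 5776 (.node 5768 (.node 5764 (.node 5762 (.node 5761 (.leaf (4702, 242, 46)) (.leaf (1635, 200, 7))) (.node 5763 (.leaf (3104, 243, 16)) (.leaf (5454, 219, 56)))) (.node 5766 (.node 5765 (.leaf (3439, 13, 33)) (.leaf (5886, 122, 57))) (.node 5767 (.leaf (3900, 171, 78)) (.leaf (3361, 169, 20))))) (.node 5772 (.node 5770 (.node 5769 (.leaf (4012, 227, 1)) (.leaf (4275, 98, 83))) (.node 5771 (.leaf (5807, 118, 17)) (.leaf (5644, 239, 69)))) (.node 5774 (.node 5773 (.leaf (6101, 92, 64)) (.leaf (6130, 0, 0))) (.node 5775 (.leaf (5790, 32, 41)) (.leaf (2985, 20, 59)))))) (.node 5784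 (.node 5780 (.node 5778 (.node 5777 (.leaf (2260, 88, 39)) (.leaf (6010, 141, 18))) (.node 5779 (.leaf (5940, 160, 5)) (.leaf (3659, 247, 65)))) (.node 5782 (.node 5781 (.leaf (2904, 147, 69)) (.leaf (6131, 0, 0))) (.node 5783 (.leaf (2552, 170, 88)) (.leaf (3838, 251, 53))))) (.node 5788 (.node 5786 (.node 5785 (.leaf (5537, 33, 56)) (.leaf (5070, 61, 83))) (.node 5787 (.leaf (6133, 0, 0)) (.leaf (2326, 255, 88)))) (.node 5790 (.node 5789 (.leaf (1627, 35, 39)) (.leaf (4604, 234, 14))) (.node 5791 (.leaf (2093, 230, 21)) (.leaf (6132, 182, 67)))))))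

def tEX_181 : BT (ℕ × ℕ × ℕ) := (.node 5808 (.node 5800 (.node 5796 (.node 5794 (.node 5793 (.leaf (1569, 6, 57)) (.leaf (4414, 54, 47))) (.node 5795 (.leaf (5712, 59, 46)) (.leaf (5680, 17, 47)))) (.node 5798 (.node 5797 (.leaf (5884, 264, 44)) (.leaf (269, 229, 35))) (.node 5799 (.leaf (6136, 0, 0)) (.leaf (1264, 30, 24))))) (.node 5804 (.node 5802 (.node 5801 (.leaf (6121, 146, 63)) (.leaf (5479, 250, 83))) (.node 5803 (.leaf (2569, 215, 84)) (.leaf (2441, 65, 29)))) (.node 5806 (.node 5805 (.leaf (3787, 170, 70)) (.leaf (6050, 102, 29))) (.node 5807 (.leaf (3880, 27, 39)) (.leaf (4027, 175, 20)))))) (.node 5816 (.node 5812 (.node 5810 (.node 5809 (.leaf (1074, 259, 60)) (.leaf (446, 170, 21))) (.node 5811 (.leaf (5858, 8, 24)) (.leaf (914, 100, 38)))) (.node 5814 (.node 5813 (.leaf (5727, 61, 36)) (.leaf (2638, 78, 21))) (.node 5815 (.leaf (1455, 60, 70)) (.leaf (6016, 18, 60))))) (.node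 5820 (.node 5818 (.node 5817 (.leaf (4883, 120, 7)) (.leaf (531, 48, 45))) (.node 5819 (.leaf (1211, 82, 51)) (.leaf (4123, 143, 8)))) (.node 5822 (.node 5821 (.leaf (4996, 267, 40)) (.leaf (133, 12, 28))) (.node 5823 (.leaf (6140, 0, 0)) (.leaf (5962, 230, 13)))))))

def tEX_182 : BT (ℕ × ℕ × ℕ) := (.node 5840 (.node 5832 (.node 5828 (.node 5826 (.node 5825 (.leaf (5193, 23, 89)) (.leaf (835, 18, 65))) (.node 5827 (.leaf (3309, 241, 18)) (.leaf (5060, 123, 71)))) (.node 5830 (.node 5829 (.leaf (2815, 140, 49)) (.leaf (6141, 0, 0))) (.node 5831 (.leaf (1575, 210, 80)) (.leaf (4396, 69, 43))))) (.node 5836 (.node 5834 (.node 5833 (.leaf (2872, 158, 70)) (.leaf (6051, 231, 67))) (.node 5835 (.leaf (5868, 37, 44)) (.leaf (4534, 13, 24)))) (.node 5838 (.node 5837 (.leaf (1781, 174, 10)) (.leaf (2387, 201, 70))) (.node 5839 (.leaf (4841, 157, 38)) (.leaf (3565, 220, 2)))))) (.node 5848 (.node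 5844 (.node 5842 (.node 5841 (.leaf (5869, 11, 47)) (.leaf (3898, 27, 27))) (.node 5843 (.leaf (4188, 236, 89)) (.leaf (5549, 35, 64)))) (.node 5846 (.node 5845 (.leaf (2641, 133, 63)) (.leaf (6055, 54, 2))) (.node 5847 (.leaf (4998, 103, 59)) (.leaf (3926, 122, 60))))) (.node 5852 (.node 5850 (.node 5849 (.leaf (5715, 262, 47)) (.leaf (5050, 266, 73))) (.node 5851 (.leaf (6089, 241, 71)) (.leaf (5783, 31, 70)))) (.node 5854 (.node 5853 (.leaf (5220, 245, 75)) (.leaf (4118, 176, 40))) (.node 5855 (.leaf (6137, 43, 83)) (.leaf (4692, 78, 61)))))))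

def tEX_183 : BT (ℕ × ℕ × ℕ) := (.node 5872 (.node 5864 (.node 5860 (.node 5858 (.node 5857 (.leaf (6110, 165, 47)) (.leaf (5696, 110, 74))) (.node 5859 (.leaf (6144, 0, 0)) (.leaf (5945, 46, 74)))) (.node 5862 (.node 5861 (.leaf (5340, 125, 31)) (.leaf (6098, 202, 79))) (.node 5863 (.leaf (5956, 170, 0)) (.leaf (4321, 167, 25))))) (.node 5868 (.node 5866 (.node 5865 (.leaf (4632, 214, 8)) (.leaf (2968, 55, 7))) (.node 5867 (.leaf (3386, 68, 66)) (.leaf (6128, 266, 68)))) (.node 5870 (.node 5869 (.leaf (6146, 0, 0)) (.leaf (4316, 214, 30))) (.node 5871 (.leaf (1993, 100, 74)) (.leaf (6147, 0, 0)))))) (.node 5880 (.node 5876 (.node 5874 (.node 5873 (.leaf (3537, 201, 23)) (.leaf (2710, 142, 15))) (.node 5875 (.leaf (6135, 261, 47)) (.leaf (752, 161, 51)))) (.node 5878 (.node 5877 (.leaf (4507, 27, 0)) (.leaf (3404, 266, 69))) (.node 5879 (.leaf (589, 31, 40)) (.leaf (6048, 223, 38))))) (.node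 5884 (.node 5882 (.node 5881 (.leaf (5719, 13, 59)) (.leaf (4143, 116, 7))) (.node 5883 (.leaf (4336, 246, 69)) (.leaf (3328, 109, 25)))) (.node 5886 (.node 5885 (.leaf (3384, 246, 23)) (.leaf (1916, 7, 49))) (.node 5887 (.leaf (3849, 6, 63)) (.leaf (5839, 158, 60)))))))

def tEX_184 : BT (ℕ × ℕ × ℕ) := (.node 5904 (.node 5896 (.node 5892 (.node 5890 (.node 5889 (.leaf (5892, 174, 5)) (.leaf (6095, 109, 6))) (.node 5891 (.leaf (6022, 246, 10)) (.leaf (6139, 12, 88)))) (.node 5894 (.node 5893 (.leaf (5359, 238, 78)) (.leaf (4456, 41, 70))) (.node 5895 (.leaf (4237, 8, 73)) (.leaf (4430, 71, 77))))) (.node 5900 (.node 5898 (.node 5897 (.leaf (4630, 224, 61)) (.leaf (4229, 54, 32))) (.node 5899 (.leaf (3150, 132, 39)) (.leaf (155, 122, 10)))) (.node 5902 (.node 5901 (.leaf (6087, 101, 31)) (.leaf (6052, 83, 53))) (.node 5903 (.leaf (3812, 75, 16)) (.leaf (5900, 10, 45)))))) (.node 5912 (.node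 5908 (.node 5906 (.node 5905 (.leaf (585, 260, 25)) (.leaf (6119, 208, 63))) (.node 5907 (.leaf (5292, 183, 3)) (.leaf (1791, 196, 45)))) (.node 5910 (.node 5909 (.leaf (5692, 48, 66)) (.leaf (4262, 197, 27))) (.node 5911 (.leaf (4568, 8, 37)) (.leaf (558, 36, 27))))) (.node 5916 (.node 5914 (.node 5913 (.leaf (5225, 58, 14)) (.leaf (5778, 113, 9))) (.node 5915 (.leaf (5659, 208, 6)) (.leaf (5896, 91, 68)))) (.node 5918 (.node 5917 (.leaf (2221, 193, 41)) (.leaf (6149, 77, 84))) (.node 5919 (.leaf (5760, 143, 31)) (.leaf (5478, 45, 39)))))))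

def tEX_185 : BT (ℕ × ℕ × ℕ) := (.node 5936 (.node 5928 (.node 5924 (.node 5922 (.node 5921 (.leaf (2658, 68, 24)) (.leaf (3777, 169, 15))) (.node 5923 (.leaf (631, 139, 8)) (.leaf (4341, 0, 49)))) (.node 5926 (.node 5925 (.leaf (6085, 123, 75)) (.leaf (2299, 201, 82))) (.node 5927 (.leaf (6142, 160, 88)) (.leaf (2606, 164, 26))))) (.node 5932 (.node 5930 (.node 5929 (.leaf (5946, 94, 40)) (.leaf (4717, 15, 25))) (.node 5931 (.leaf (6150, 206, 2)) (.leaf (4078, 135, 13)))) (.node 5934 (.node 5933 (.leaf (5978, 216, 21)) (.leaf (2213, 174, 64))) (.node 5935 (.leaf (979, 220, 49)) (.leaf (6109, 253, 51)))))) (.node 5944 (.node 5940 (.node 5938 (.node 5937 (.leaf (3373, 24, 53)) (.leaf (5539, 146, 77))) (.node 5939 (.leaf (5262, 36, 87)) (.leaf (4951, 131, 72)))) (.node 5942 (.node 5941 (.leaf (75, 65, 11)) (.leaf (111, 25, 27))) (.node 5943 (.leaf (5242, 60, 38)) (.leaf (1246, 260, 76)))))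 (.node 5948 (.node 5946 (.node 5945 (.leaf (2033, 252, 74)) (.leaf (6138, 97, 44))) (.node 5947 (.leaf (1888, 76, 70)) (.leaf (6042, 263, 26)))) (.node 5950 (.node 5949 (.leaf (6075, 175, 23)) (.leaf (151, 41, 34))) (.node 5951 (.leaf (5052, 174, 1)) (.leaf (2992, 233, 3)))))))

def tEX_186 : BT (ℕ × ℕ × ℕ) := (.node 5968 (.node 5960 (.node 5956 (.node 5954 (.node 5953 (.leaf (5747, 28, 21)) (.leaf (972, 16, 73))) (.node 5955 (.leaf (6125, 44, 24)) (.leaf (2420, 176, 38)))) (.node 5958 (.node 5957 (.leaf (6027, 48, 67)) (.leaf (1852, 81, 66))) (.node 5959 (.leaf (5824, 208, 74)) (.leaf (3798, 98, 77))))) (.node 5964 (.node 5962 (.node 5961 (.leaf (6100, 265, 69)) (.leaf (4662, 169, 9))) (.node 5963 (.leaf (6145, 62, 36)) (.leaf (5294, 11, 23)))) (.node 5966 (.node 5965 (.leaf (1945, 20, 8)) (.leaf (157, 235, 87))) (.node 5967 (.leaf (5017, 4, 55)) (.leaf (5163, 212, 81)))))) (.node 5976 (.node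 5972 (.node 5970 (.node 5969 (.leaf (1621, 154, 30)) (.leaf (1971, 178, 51))) (.node 5971 (.leaf (4886, 134, 88)) (.leaf (5106, 204, 52)))) (.node 5974 (.node 5973 (.leaf (6151, 0, 0)) (.leaf (5504, 266, 40))) (.node 5975 (.leaf (777, 22, 68)) (.leaf (4464, 28, 61))))) (.node 5980 (.node 5978 (.node 5977 (.leaf (305, 19, 2)) (.leaf (5534, 203, 85))) (.node 5979 (.leaf (5259, 269, 20)) (.leaf (5815, 216, 22)))) (.node 5982 (.node 5981 (.leaf (1523, 227, 50)) (.leaf (2051, 94, 42))) (.node 5983 (.leaf (2206, 5, 67)) (.leaf (3826, 86, 35)))))))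

def tEX_187 : BT (ℕ × ℕ × ℕ) := (.node 6000 (.node 5992 (.node 5988 (.node 5986 (.node 5985 (.leaf (820, 126, 30)) (.leaf (4676, 56, 5))) (.node 5987 (.leaf (3538, 68, 24)) (.leaf (4208, 135, 0)))) (.node 5990 (.node 5989 (.leaf (525, 146, 84)) (.leaf (747, 221, 33))) (.node 5991 (.leaf (3002, 240, 9)) (.leaf (5746, 65, 89))))) (.node 5996 (.node 5994 (.node 5993 (.leaf (6124, 65, 48)) (.leaf (5178, 12, 17))) (.node 5995 (.leaf (6107, 45, 42)) (.leaf (4272, 18, 44)))) (.node 5998 (.node 5997 (.leaf (4074, 45, 60)) (.leaf (5704, 150, 57))) (.node 5999 (.leaf (5972, 179, 16)) (.leaf (2649, 11, 74)))))) (.node 6008 (.node 6004 (.node 6002 (.node 6001 (.leaf (5029, 143, 42)) (.leaf (5497, 190, 39))) (.node 6003 (.leaf (1024, 19, 63)) (.leaf (4778, 248, 65)))) (.node 6006 (.node 6005 (.leaf (1457, 21, 1)) (.leaf (5708, 207, 25))) (.node 6007 (.leaf (4134, 200, 17)) (.leaf (4132, 60, 2))))) (.node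 6012 (.node 6010 (.node 6009 (.leaf (2619, 49, 79)) (.leaf (3353, 100, 72))) (.node 6011 (.leaf (6152, 0, 0)) (.leaf (2388, 213, 1)))) (.node 6014 (.node 6013 (.leaf (1689, 76, 41)) (.leaf (5765, 263, 66))) (.node 6015 (.leaf (713, 25, 40)) (.leaf (5158, 242, 81)))))))

def tEX_188 : BT (ℕ × ℕ × ℕ) := (.node 6032 (.node 6024 (.node 6020 (.node 6018 (.node 6017 (.leaf (2109, 248, 38)) (.leaf (4319, 150, 43))) (.node 6019 (.leaf (4542, 59, 37)) (.leaf (2893, 189, 32)))) (.node 6022 (.node 6021 (.leaf (5651, 206, 50)) (.leaf (5994, 269, 46))) (.node 6023 (.leaf (1291, 115, 32)) (.leaf (1944, 6, 45))))) (.node 6028 (.node 6026 (.node 6025 (.leaf (5422, 42, 26)) (.leaf (3995, 38, 87))) (.node 6027 (.leaf (1903, 60, 15)) (.leaf (4593, 24, 10)))) (.node 6030 (.node 6029 (.leaf (4479, 9, 22)) (.leaf (4495, 28, 46))) (.node 6031 (.leaf (5826, 116, 49)) (.leaf (3923, 64, 35)))))) (.node 6040 (.node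 6036 (.node 6034 (.node 6033 (.leaf (3760, 91, 84)) (.leaf (2669, 68, 26))) (.node 6035 (.leaf (5072, 51, 88)) (.leaf (2634, 23, 40)))) (.node 6038 (.node 6037 (.leaf (5814, 158, 11)) (.leaf (87, 214, 41))) (.node 6039 (.leaf (570, 208, 13)) (.leaf (5567, 196, 73))))) (.node 6044 (.node 6042 (.node 6041 (.leaf (3064, 51, 81)) (.leaf (71, 236, 59))) (.node 6043 (.leaf (3147, 62, 26)) (.leaf (5847, 169, 31)))) (.node 6046 (.node 6045 (.leaf (6115, 249, 87)) (.leaf (3851, 78, 6))) (.node 6047 (.leaf (6073, 191, 44)) (.leaf (612, 182, 35)))))))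

def tEX_189 : BT (ℕ × ℕ × ℕ) := (.node 6064 (.node 6056 (.node 6052 (.node 6050 (.node 6049 (.leaf (2604, 253, 28)) (.leaf (4041, 97, 37))) (.node 6051 (.leaf (17, 94, 57)) (.leaf (6154, 0, 0)))) (.node 6054 (.node 6053 (.leaf (1187, 253, 82)) (.leaf (705, 151, 87))) (.node 6055 (.leaf (2270, 219, 27)) (.leaf (3040, 26, 48))))) (.node 6060 (.node 6058 (.node 6057 (.leaf (5911, 271, 58)) (.leaf (5846, 13, 0))) (.node 6059 (.leaf (4121, 86, 31)) (.leaf (4661, 128, 35)))) (.node 6062 (.node 6061 (.leaf (97, 210, 13)) (.leaf (1553, 220, 84))) (.node 6063 (.leaf (4932, 71, 84)) (.leaf (5393, 96, 6)))))) (.node 6072 (.node 6068 (.node 6066 (.node 6065 (.leaf (5271, 182, 68)) (.leaf (49, 90, 44))) (.node 6067 (.leaf (6148, 144, 81)) (.leaf (6086, 87, 83)))) (.node 6070 (.node 6069 (.leaf (1081, 225, 68)) (.leaf (1980, 178, 76))) (.node 6071 (.leaf (4911, 126, 9)) (.leaf (4282, 63, 13))))) (.node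 6076 (.node 6074 (.node 6073 (.leaf (2215, 66, 74)) (.leaf (2045, 2, 37))) (.node 6075 (.leaf (6155, 243, 69)) (.leaf (3843, 221, 71)))) (.node 6078 (.node 6077 (.leaf (3587, 258, 49)) (.leaf (6061, 233, 72))) (.node 6079 (.leaf (3944, 153, 7)) (.leaf (5301, 204, 21)))))))

def tEX_190 : BT (ℕ × ℕ × ℕ) := (.node 6096 (.node 6088 (.node 6084 (.node 6082 (.node 6081 (.leaf (3665, 218, 59)) (.leaf (4560, 62, 50))) (.node 6083 (.leaf (5623, 197, 63)) (.leaf (3427, 232, 50)))) (.node 6086 (.node 6085 (.leaf (1242, 148, 35)) (.leaf (4493, 41, 43))) (.node 6087 (.leaf (4331, 22, 3)) (.leaf (2800, 193, 72))))) (.node 6092 (.node 6090 (.node 6089 (.leaf (4332, 212, 48)) (.leaf (3036, 58, 29))) (.node 6091 (.leaf (5983, 200, 58)) (.leaf (5543, 261, 53)))) (.node 6094 (.node 6093 (.leaf (3652, 125, 50)) (.leaf (5240, 13, 62))) (.node 6095 (.leaf (3616, 95, 31)) (.leaf (6012, 265, 1)))))) (.node 6104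 (.node 6100 (.node 6098 (.node 6097 (.leaf (1910, 99, 5)) (.leaf (5024, 85, 71))) (.node 6099 (.leaf (4871, 109, 38)) (.leaf (5342, 207, 89)))) (.node 6102 (.node 6101 (.leaf (4412, 238, 58)) (.leaf (5825, 184, 55))) (.node 6103 (.leaf (5738, 52, 28)) (.leaf (4657, 242, 48))))) (.node 6108 (.node 6106 (.node 6105 (.leaf (2415, 47, 33)) (.leaf (5757, 76, 44))) (.node 6107 (.leaf (5516, 94, 28)) (.leaf (6093, 151, 22)))) (.node 6110 (.node 6109 (.leaf (6047, 47, 32)) (.leaf (4115, 174, 7))) (.node 6111 (.leaf (5646, 137, 10)) (.leaf (4356, 152, 44)))))))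

def tEX_191 : BT (ℕ × ℕ × ℕ) := (.node 6128 (.node 6120 (.node 6116 (.node 6114 (.node 6113 (.leaf (3067, 198, 89)) (.leaf (3337, 4, 64))) (.node 6115 (.leaf (5270, 133, 78)) (.leaf (5379, 12, 9)))) (.node 6118 (.node 6117 (.leaf (4764, 68, 40)) (.leaf (3965, 217, 78))) (.node 6119 (.leaf (3198, 210, 34)) (.leaf (510, 23, 28))))) (.node 6124 (.node 6122 (.node 6121 (.leaf (1720, 212, 81)) (.leaf (5563, 233, 20))) (.node 6123 (.leaf (970, 89, 15)) (.leaf (4663, 172, 22)))) (.node 6126 (.node 6125 (.leaf (5581, 233, 88)) (.leaf (5625, 0, 48))) (.node 6127 (.leaf (4302, 86, 62)) (.leaf (4365, 146, 63)))))) (.node 6136 (.node 6132 (.node 6130 (.node 6129 (.leaf (3075, 209, 70)) (.leaf (5445, 155, 12))) (.node 6131 (.leaf (4908, 247, 46)) (.leaf (798, 139, 24)))) (.node 6134 (.node 6133 (.leaf (1855, 26, 48)) (.leaf (183, 33, 53))) (.node 6135 (.leaf (5832, 180, 66)) (.leaf (5695, 258, 55)))))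 (.node 6140 (.node 6138 (.node 6137 (.leaf (5634, 164, 75)) (.leaf (5304, 187, 83))) (.node 6139 (.leaf (6134, 46, 60)) (.leaf (3954, 240, 38)))) (.node 6142 (.node 6141 (.leaf (5752, 82, 76)) (.leaf (794, 120, 67))) (.node 6143 (.leaf (2761, 79, 2)) (.leaf (5958, 129, 16)))))))

def tEX_192 : BT (ℕ × ℕ × ℕ) := (.node 6150 (.node 6147 (.node 6145 (.leaf (6103, 138, 65)) (.node 6146 (.leaf (3693, 29, 20)) (.leaf (707, 214, 72)))) (.node 6148 (.leaf (3249, 12, 61)) (.node 6149 (.leaf (4503, 100, 16)) (.leaf (6111, 215, 55))))) (.node 6153 (.node 6151 (.leaf (4608, 266, 87)) (.node 6152 (.leaf (2194, 56, 9)) (.leaf (2841, 172, 46)))) (.node 6154 (.leaf (6143, 171, 9)) (.node 6155 (.leaf (6153, 124, 62)) (.leaf (4648, 61, 55))))))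

def tEXG_0 : BT (ℕ × ℕ × ℕ) := (.node 384 (.node 192 (.node 96 (.node 32 tEX_0 (.node 64 tEX_1 tEX_2)) (.node 128 tEX_3 (.node 160 tEX_4 tEX_5))) (.node 288 (.node 224 tEX_6 (.node 256 tEX_7 tEX_8)) (.node 320 tEX_9 (.node 352 tEX_10 tEX_11)))) (.node 576 (.node 480 (.node 416 tEX_12 (.node 448 tEX_13 tEX_14)) (.node 512 tEX_15 (.node 544 tEX_16 tEX_17))) (.node 672 (.node 608 tEX_18 (.node 640 tEX_19 tEX_20)) (.node 704 tEX_21 (.node 736 tEX_22 tEX_23)))))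

def tEXG_24 : BT (ℕ × ℕ × ℕ) := (.node 1152 (.node 960 (.node 864 (.node 800 tEX_24 (.node 832 tEX_25 tEX_26)) (.node 896 tEX_27 (.node 928 tEX_28 tEX_29))) (.node 1056 (.node 992 tEX_30 (.node 1024 tEX_31 tEX_32)) (.node 1088 tEX_33 (.node 1120 tEX_34 tEX_35)))) (.node 1344 (.node 1248 (.node 1184 tEX_36 (.node 1216 tEX_37 tEX_38)) (.node 1280 tEX_39 (.node 1312 tEX_40 tEX_41))) (.node 1440 (.node 1376 tEX_42 (.node 1408 tEX_43 tEX_44)) (.node 1472 tEX_45 (.node 1504 tEX_46 tEX_47)))))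

def tEXG_48 : BT (ℕ × ℕ × ℕ) := (.node 1920 (.node 1728 (.node 1632 (.node 1568 tEX_48 (.node 1600 tEX_49 tEX_50)) (.node 1664 tEX_51 (.node 1696 tEX_52 tEX_53))) (.node 1824 (.node 1760 tEX_54 (.node 1792 tEX_55 tEX_56)) (.node 1856 tEX_57 (.node 1888 tEX_58 tEX_59)))) (.node 2112 (.node 2016 (.node 1952 tEX_60 (.node 1984 tEX_61 tEX_62)) (.node 2048 tEX_63 (.node 2080 tEX_64 tEX_65))) (.node 2208 (.node 2144 tEX_66 (.node 2176 tEX_67 tEX_68)) (.node 2240 tEX_69 (.node 2272 tEX_70 tEX_71)))))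

def tEXG_72 : BT (ℕ × ℕ × ℕ) := (.node 2688 (.node 2496 (.node 2400 (.node 2336 tEX_72 (.node 2368 tEX_73 tEX_74)) (.node 2432 tEX_75 (.node 2464 tEX_76 tEX_77))) (.node 2592 (.node 2528 tEX_78 (.node 2560 tEX_79 tEX_80)) (.node 2624 tEX_81 (.node 2656 tEX_82 tEX_83)))) (.node 2880 (.node 2784 (.node 2720 tEX_84 (.node 2752 tEX_85 tEX_86)) (.node 2816 tEX_87 (.node 2848 tEX_88 tEX_89))) (.node 2976 (.node 2912 tEX_90 (.node 2944 tEX_91 tEX_92)) (.node 3008 tEX_93 (.node 3040 tEX_94 tEX_95)))))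

def tEXG_96 : BT (ℕ × ℕ × ℕ) := (.node 3456 (.node 3264 (.node 3168 (.node 3104 tEX_96 (.node 3136 tEX_97 tEX_98)) (.node 3200 tEX_99 (.node 3232 tEX_100 tEX_101))) (.node 3360 (.node 3296 tEX_102 (.node 3328 tEX_103 tEX_104)) (.node 3392 tEX_105 (.node 3424 tEX_106 tEX_107)))) (.node 3648 (.node 3552 (.node 3488 tEX_108 (.node 3520 tEX_109 tEX_110)) (.node 3584 tEX_111 (.node 3616 tEX_112 tEX_113))) (.node 3744 (.node 3680 tEX_114 (.node 3712 tEX_115 tEX_116)) (.node 3776 tEX_117 (.node 3808 tEX_118 tEX_119)))))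

def tEXG_120 : BT (ℕ × ℕ × ℕ) := (.node 4224 (.node 4032 (.node 3936 (.node 3872 tEX_120 (.node 3904 tEX_121 tEX_122)) (.node 3968 tEX_123 (.node 4000 tEX_124 tEX_125))) (.node 4128 (.node 4064 tEX_126 (.node 4096 tEX_127 tEX_128)) (.node 4160 tEX_129 (.node 4192 tEX_130 tEX_131)))) (.node 4416 (.node 4320 (.node 4256 tEX_132 (.node 4288 tEX_133 tEX_134)) (.node 4352 tEX_135 (.node 4384 tEX_136 tEX_137))) (.node 4512 (.node 4448 tEX_138 (.node 4480 tEX_139 tEX_140)) (.node 4544 tEX_141 (.node 4576 tEX_142 tEX_143)))))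

def tEXG_144 : BT (ℕ × ℕ × ℕ) := (.node 4992 (.node 4800 (.node 4704 (.node 4640 tEX_144 (.node 4672 tEX_145 tEX_146)) (.node 4736 tEX_147 (.node 4768 tEX_148 tEX_149))) (.node 4896 (.node 4832 tEX_150 (.node 4864 tEX_151 tEX_152)) (.node 4928 tEX_153 (.node 4960 tEX_154 tEX_155)))) (.node 5184 (.node 5088 (.node 5024 tEX_156 (.node 5056 tEX_157 tEX_158)) (.node 5120 tEX_159 (.node 5152 tEX_160 tEX_161))) (.node 5280 (.node 5216 tEX_162 (.node 5248 tEX_163 tEX_164)) (.node 5312 tEX_165 (.node 5344 tEX_166 tEX_167)))))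

def tEXG_168 : BT (ℕ × ℕ × ℕ) := (.node 5760 (.node 5568 (.node 5472 (.node 5408 tEX_168 (.node 5440 tEX_169 tEX_170)) (.node 5504 tEX_171 (.node 5536 tEX_172 tEX_173))) (.node 5664 (.node 5600 tEX_174 (.node 5632 tEX_175 tEX_176)) (.node 5696 tEX_177 (.node 5728 tEX_178 tEX_179)))) (.node 5952 (.node 5856 (.node 5792 tEX_180 (.node 5824 tEX_181 tEX_182)) (.node 5888 tEX_183 (.node 5920 tEX_184 tEX_185))) (.node 6048 (.node 5984 tEX_186 (.node 6016 tEX_187 tEX_188)) (.node 6112 (.node 6080 tEX_189 tEX_190) (.node 6144 tEX_191 tEX_192)))))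

def tEX : BT (ℕ × ℕ × ℕ) := (.node 3072 (.node 1536 (.node 768 tEXG_0 tEXG_24) (.node 2304 tEXG_48 tEXG_72)) (.node 4608 (.node 3840 tEXG_96 tEXG_120) (.node 5376 tEXG_144 tEXG_168)))

def tEY_0 : BT (ℕ × ℕ × ℕ) := (.node 16 (.node 8 (.node 4 (.node 2 (.node 1 (.leaf (0, 233, 38)) (.leaf (3, 0, 0))) (.node 3 (.leaf (5, 0, 0)) (.leaf (7, 0, 0)))) (.node 6 (.node 5 (.leaf (9, 0, 0)) (.leaf (11, 0, 0))) (.node 7 (.leaf (13, 0, 0)) (.leaf (15, 0, 0))))) (.node 12 (.node 10 (.node 9 (.leaf (17, 0, 0)) (.leaf (19, 0, 0))) (.node 11 (.leaf (21, 0, 0)) (.leaf (23, 0, 0)))) (.node 14 (.node 13 (.leaf (25, 0, 0)) (.leaf (27, 0, 0))) (.node 15 (.leaf (29, 0, 0)) (.leaf (31, 0, 0)))))) (.node 24 (.node 20 (.node 18 (.node 17 (.leaf (33, 0, 0)) (.leaf (35, 0, 0))) (.node 19 (.leaf (37, 0, 0)) (.leaf (39, 0, 0)))) (.node 22 (.node 21 (.leaf (41, 0, 0)) (.leaf (43, 0, 0))) (.node 23 (.leaf (45, 0, 0))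 (.leaf (47, 0, 0))))) (.node 28 (.node 26 (.node 25 (.leaf (49, 0, 0)) (.leaf (51, 0, 0))) (.node 27 (.leaf (53, 0, 0)) (.leaf (55, 0, 0)))) (.node 30 (.node 29 (.leaf (57, 0, 0)) (.leaf (59, 0, 0))) (.node 31 (.leaf (61, 0, 0)) (.leaf (63, 0, 0)))))))

def tEY_1 : BT (ℕ × ℕ × ℕ) := (.node 48 (.node 40 (.node 36 (.node 34 (.node 33 (.leaf (65, 0, 0)) (.leaf (67, 0, 0))) (.node 35 (.leaf (69, 0, 0)) (.leaf (71, 0, 0)))) (.node 38 (.node 37 (.leaf (73, 0, 0)) (.leaf (75, 0, 0))) (.node 39 (.leaf (77, 0, 0)) (.leaf (79, 0, 0))))) (.node 44 (.node 42 (.node 41 (.leaf (81, 0, 0)) (.leaf (83, 0, 0))) (.node 43 (.leaf (85, 0, 0)) (.leaf (87, 0, 0)))) (.node 46 (.node 45 (.leaf (89, 0, 0)) (.leaf (91, 0, 0))) (.node 47 (.leaf (93, 0, 0)) (.leaf (95, 0, 0)))))) (.node 56 (.node 52 (.node 50 (.node 49 (.leaf (97, 0, 0)) (.leaf (99, 0, 0))) (.node 51 (.leaf (101, 0, 0)) (.leaf (103, 0, 0)))) (.node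 54 (.node 53 (.leaf (105, 0, 0)) (.leaf (107, 0, 0))) (.node 55 (.leaf (109, 0, 0)) (.leaf (111, 0, 0))))) (.node 60 (.node 58 (.node 57 (.leaf (113, 0, 0)) (.leaf (115, 0, 0))) (.node 59 (.leaf (117, 0, 0)) (.leaf (119, 0, 0)))) (.node 62 (.node 61 (.leaf (121, 0, 0)) (.leaf (123, 0, 0))) (.node 63 (.leaf (125, 0, 0)) (.leaf (127, 0, 0)))))))

def tEY_2 : BT (ℕ × ℕ × ℕ) := (.node 80 (.node 72 (.node 68 (.node 66 (.node 65 (.leaf (129, 0, 0)) (.leaf (131, 0, 0))) (.node 67 (.leaf (133, 0, 0)) (.leaf (135, 0, 0)))) (.node 70 (.node 69 (.leaf (137, 0, 0)) (.leaf (139, 0, 0))) (.node 71 (.leaf (141, 0, 0)) (.leaf (143, 0, 0))))) (.node 76 (.node 74 (.node 73 (.leaf (145, 0, 0)) (.leaf (147, 0, 0))) (.node 75 (.leaf (149, 0, 0)) (.leaf (151, 0, 0)))) (.node 78 (.node 77 (.leaf (153, 0, 0)) (.leaf (155, 0, 0))) (.node 79 (.leaf (157, 0, 0)) (.leaf (159, 0, 0)))))) (.node 88 (.node 84 (.node 82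 (.node 81 (.leaf (161, 0, 0)) (.leaf (163, 0, 0))) (.node 83 (.leaf (165, 0, 0)) (.leaf (167, 0, 0)))) (.node 86 (.node 85 (.leaf (169, 0, 0)) (.leaf (171, 0, 0))) (.node 87 (.leaf (173, 0, 0)) (.leaf (175, 0, 0))))) (.node 92 (.node 90 (.node 89 (.leaf (177, 0, 0)) (.leaf (179, 0, 0))) (.node 91 (.leaf (181, 0, 0)) (.leaf (183, 0, 0)))) (.node 94 (.node 93 (.leaf (185, 0, 0)) (.leaf (187, 0, 0))) (.node 95 (.leaf (189, 0, 0)) (.leaf (191, 0, 0)))))))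

def tEY_3 : BT (ℕ × ℕ × ℕ) := (.node 112 (.node 104 (.node 100 (.node 98 (.node 97 (.leaf (193, 0, 0)) (.leaf (195, 0, 0))) (.node 99 (.leaf (197, 0, 0)) (.leaf (199, 0, 0)))) (.node 102 (.node 101 (.leaf (201, 0, 0)) (.leaf (203, 0, 0))) (.node 103 (.leaf (205, 0, 0)) (.leaf (207, 0, 0))))) (.node 108 (.node 106 (.node 105 (.leaf (209, 0, 0)) (.leaf (211, 0, 0))) (.node 107 (.leaf (213, 0, 0)) (.leaf (215, 0, 0)))) (.node 110 (.node 109 (.leaf (217, 0, 0)) (.leaf (219, 0, 0))) (.node 111 (.leaf (221, 0, 0)) (.leaf (223, 0, 0)))))) (.node 120 (.node 116 (.node 114 (.node 113 (.leaf (76, 144, 0)) (.leaf (226, 0, 0))) (.node 115 (.leaf (228, 0, 0)) (.leaf (230, 0, 0)))) (.node 118 (.node 117 (.leaf (232, 0, 0)) (.leaf (234, 0, 0))) (.node 119 (.leaf (236, 0, 0)) (.leaf (238, 0, 0))))) (.node 124 (.node 122 (.node 121 (.leaf (240, 0, 0)) (.leaf (242, 0, 0))) (.node 123 (.leaf (244, 0, 0)) (.leaf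 (246, 0, 0)))) (.node 126 (.node 125 (.leaf (248, 0, 0)) (.leaf (250, 0, 0))) (.node 127 (.leaf (252, 0, 0)) (.leaf (254, 0, 0)))))))

def tEY_4 : BT (ℕ × ℕ × ℕ) := (.node 144 (.node 136 (.node 132 (.node 130 (.node 129 (.leaf (256, 0, 0)) (.leaf (258, 0, 0))) (.node 131 (.leaf (260, 0, 0)) (.leaf (262, 0, 0)))) (.node 134 (.node 133 (.leaf (245, 50, 43)) (.leaf (265, 0, 0))) (.node 135 (.leaf (267, 0, 0)) (.leaf (269, 0, 0))))) (.node 140 (.node 138 (.node 137 (.leaf (271, 0, 0)) (.leaf (273, 0, 0))) (.node 139 (.leaf (275, 0, 0)) (.leaf (277, 0, 0)))) (.node 142 (.node 141 (.leaf (278, 0, 0)) (.leaf (280, 0, 0))) (.node 143 (.leaf (282, 0, 0)) (.leaf (283, 0, 0)))))) (.node 152 (.node 148 (.node 146 (.node 145 (.leaf (285, 0, 0)) (.leaf (287, 0, 0))) (.node 147 (.leaf (289, 0, 0)) (.leaf (291, 0, 0)))) (.node 150 (.node 149 (.leaf (293, 0, 0)) (.leaf (295, 0, 0))) (.node 151 (.leaf (297,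 0, 0)) (.leaf (299, 0, 0))))) (.node 156 (.node 154 (.node 153 (.leaf (301, 0, 0)) (.leaf (303, 0, 0))) (.node 155 (.leaf (305, 0, 0)) (.leaf (307, 0, 0)))) (.node 158 (.node 157 (.leaf (309, 0, 0)) (.leaf (311, 0, 0))) (.node 159 (.leaf (313, 0, 0)) (.leaf (315, 0, 0)))))))

def tEY_5 : BT (ℕ × ℕ × ℕ) := (.node 176 (.node 168 (.node 164 (.node 162 (.node 161 (.leaf (317, 0, 0)) (.leaf (319, 0, 0))) (.node 163 (.leaf (321, 0, 0)) (.leaf (323, 0, 0)))) (.node 166 (.node 165 (.leaf (325, 0, 0)) (.leaf (327, 0, 0))) (.node 167 (.leaf (329, 0, 0)) (.leaf (331, 0, 0))))) (.node 172 (.node 170 (.node 169 (.leaf (333, 0, 0)) (.leaf (335, 0, 0))) (.node 171 (.leaf (337, 0, 0)) (.leaf (339, 0, 0)))) (.node 174 (.node 173 (.leaf (341, 0, 0)) (.leaf (343, 0, 0))) (.node 175 (.leaf (345, 0, 0)) (.leaf (347, 0, 0)))))) (.node 184 (.node 180 (.node 178 (.node 177 (.leaf (349, 0, 0)) (.leaf (124, 223, 15)))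 (.node 179 (.leaf (352, 0, 0)) (.leaf (354, 0, 0)))) (.node 182 (.node 181 (.leaf (356, 0, 0)) (.leaf (358, 0, 0))) (.node 183 (.leaf (360, 0, 0)) (.leaf (231, 132, 73))))) (.node 188 (.node 186 (.node 185 (.leaf (363, 0, 0)) (.leaf (365, 0, 0))) (.node 187 (.leaf (367, 0, 0)) (.leaf (369, 0, 0)))) (.node 190 (.node 189 (.leaf (371, 0, 0)) (.leaf (373, 0, 0))) (.node 191 (.leaf (375, 0, 0)) (.leaf (377, 0, 0)))))))

def tEY_6 : BT (ℕ × ℕ × ℕ) := (.node 208 (.node 200 (.node 196 (.node 194 (.node 193 (.leaf (379, 0, 0)) (.leaf (381, 0, 0))) (.node 195 (.leaf (383, 0, 0)) (.leaf (385, 0, 0)))) (.node 198 (.node 197 (.leaf (387, 0, 0)) (.leaf (389, 0, 0))) (.node 199 (.leaf (391, 0, 0)) (.leaf (393, 0, 0))))) (.node 204 (.node 202 (.node 201 (.leaf (395, 0, 0)) (.leaf (396, 0, 0))) (.node 203 (.leaf (398, 0, 0)) (.leaf (400, 0, 0)))) (.node 206 (.node 205 (.leaf (402, 0, 0)) (.leaf (404, 0,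 0))) (.node 207 (.leaf (406, 0, 0)) (.leaf (408, 0, 0)))))) (.node 216 (.node 212 (.node 210 (.node 209 (.leaf (410, 0, 0)) (.leaf (412, 0, 0))) (.node 211 (.leaf (414, 0, 0)) (.leaf (416, 0, 0)))) (.node 214 (.node 213 (.leaf (261, 169, 62)) (.leaf (418, 0, 0))) (.node 215 (.leaf (420, 0, 0)) (.leaf (422, 0, 0))))) (.node 220 (.node 218 (.node 217 (.leaf (424, 0, 0)) (.leaf (426, 0, 0))) (.node 219 (.leaf (428, 0, 0)) (.leaf (430, 0, 0)))) (.node 222 (.node 221 (.leaf (432, 0, 0)) (.leaf (266, 46, 18))) (.node 223 (.leaf (435, 0, 0)) (.leaf (437, 0, 0)))))))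

def tEY_7 : BT (ℕ × ℕ × ℕ) := (.node 240 (.node 232 (.node 228 (.node 226 (.node 225 (.leaf (439, 0, 0)) (.leaf (441, 0, 0))) (.node 227 (.leaf (442, 0, 0)) (.leaf (444, 0, 0)))) (.node 230 (.node 229 (.leaf (446, 0, 0)) (.leaf (448, 0, 0))) (.node 231 (.leaf (450, 0, 0)) (.leaf (452, 0, 0))))) (.node 236 (.node 234 (.node 233 (.leaf (454, 0, 0)) (.leaf (456, 0, 0))) (.node 235 (.leaf (458, 0, 0)) (.leaf (460, 0, 0)))) (.node 238 (.node 237 (.leaf (462, 0, 0)) (.leaf (438, 192, 25))) (.node 239 (.leaf (465, 0, 0)) (.leaf (467, 0, 0)))))) (.node 248 (.node 244 (.node 242 (.node 241 (.leaf (468, 0, 0)) (.leaf (470, 0, 0))) (.node 243 (.leaf (472, 0, 0)) (.leaf (474, 0, 0)))) (.node 246 (.node 245 (.leaf (476, 0, 0)) (.leaf (478, 0, 0))) (.node 247 (.leaf (480, 0, 0)) (.leaf (482, 0, 0))))) (.node 252 (.node 250 (.node 249 (.leaf (484, 0, 0)) (.leaf (486, 0, 0))) (.node 251 (.leaf (488, 0,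 0)) (.leaf (490, 0, 0)))) (.node 254 (.node 253 (.leaf (492, 0, 0)) (.leaf (494, 0, 0))) (.node 255 (.leaf (496, 0, 0)) (.leaf (498, 0, 0)))))))

def tEY_8 : BT (ℕ × ℕ × ℕ) := (.node 272 (.node 264 (.node 260 (.node 258 (.node 257 (.leaf (500, 0, 0)) (.leaf (502, 0, 0))) (.node 259 (.leaf (504, 0, 0)) (.leaf (506, 0, 0)))) (.node 262 (.node 261 (.leaf (508, 0, 0)) (.leaf (510, 0, 0))) (.node 263 (.leaf (512, 0, 0)) (.leaf (263, 162, 19))))) (.node 268 (.node 266 (.node 265 (.leaf (515, 0, 0)) (.leaf (517, 0, 0))) (.node 267 (.leaf (519, 0, 0)) (.leaf (521, 0, 0)))) (.node 270 (.node 269 (.leaf (523, 0, 0)) (.leaf (525, 0, 0))) (.node 271 (.leaf (527, 0, 0)) (.leaf (529, 0, 0)))))) (.node 280 (.node 276 (.node 274 (.node 273 (.leaf (531, 0, 0)) (.leaf (533, 0, 0))) (.node 275 (.leaf (535, 0, 0)) (.leaf (537, 0, 0)))) (.node 278 (.node 277 (.leaf (538, 0, 0)) (.leaf (540, 0, 0))) (.node 279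 (.leaf (542, 0, 0)) (.leaf (544, 0, 0))))) (.node 284 (.node 282 (.node 281 (.leaf (546, 0, 0)) (.leaf (548, 0, 0))) (.node 283 (.leaf (550, 0, 0)) (.leaf (552, 0, 0)))) (.node 286 (.node 285 (.leaf (554, 0, 0)) (.leaf (556, 0, 0))) (.node 287 (.leaf (558, 0, 0)) (.leaf (560, 0, 0)))))))

def tEY_9 : BT (ℕ × ℕ × ℕ) := (.node 304 (.node 296 (.node 292 (.node 290 (.node 289 (.leaf (562, 0, 0)) (.leaf (564, 0, 0))) (.node 291 (.leaf (566, 0, 0)) (.leaf (568, 0, 0)))) (.node 294 (.node 293 (.leaf (570, 0, 0)) (.leaf (572, 0, 0))) (.node 295 (.leaf (180, 118, 33)) (.leaf (575, 0, 0))))) (.node 300 (.node 298 (.node 297 (.leaf (577, 0, 0)) (.leaf (579, 0, 0))) (.node 299 (.leaf (581, 0, 0)) (.leaf (583, 0, 0)))) (.node 302 (.node 301 (.leaf (585, 0, 0)) (.leaf (587, 0, 0))) (.node 303 (.leaf (589, 0, 0)) (.leaf (591, 0, 0)))))) (.node 312 (.node 308 (.node 306 (.node 305 (.leaf (593, 0, 0)) (.leaf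 (594, 0, 0))) (.node 307 (.leaf (596, 0, 0)) (.leaf (479, 160, 72)))) (.node 310 (.node 309 (.leaf (144, 6, 84)) (.leaf (600, 0, 0))) (.node 311 (.leaf (602, 0, 0)) (.leaf (603, 0, 0))))) (.node 316 (.node 314 (.node 313 (.leaf (18, 162, 48)) (.leaf (547, 181, 65))) (.node 315 (.leaf (606, 0, 0)) (.leaf (608, 0, 0)))) (.node 318 (.node 317 (.leaf (610, 0, 0)) (.leaf (612, 0, 0))) (.node 319 (.leaf (614, 0, 0)) (.leaf (616, 0, 0)))))))

def tEY_10 : BT (ℕ × ℕ × ℕ) := (.node 336 (.node 328 (.node 324 (.node 322 (.node 321 (.leaf (618, 0, 0)) (.leaf (620, 0, 0))) (.node 323 (.leaf (622, 0, 0)) (.leaf (624, 0, 0)))) (.node 326 (.node 325 (.leaf (626, 0, 0)) (.leaf (628, 0, 0))) (.node 327 (.leaf (630, 0, 0)) (.leaf (631, 0, 0))))) (.node 332 (.node 330 (.node 329 (.leaf (633, 0, 0)) (.leaf (635, 0, 0))) (.node 331 (.leaf (637, 0, 0)) (.leaf (639, 0, 0)))) (.node 334 (.node 333 (.leaf (641, 0,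 0)) (.leaf (643, 0, 0))) (.node 335 (.leaf (645, 0, 0)) (.leaf (647, 0, 0)))))) (.node 344 (.node 340 (.node 338 (.node 337 (.leaf (649, 0, 0)) (.leaf (651, 0, 0))) (.node 339 (.leaf (653, 0, 0)) (.leaf (655, 0, 0)))) (.node 342 (.node 341 (.leaf (657, 0, 0)) (.leaf (659, 0, 0))) (.node 343 (.leaf (661, 0, 0)) (.leaf (663, 0, 0))))) (.node 348 (.node 346 (.node 345 (.leaf (665, 0, 0)) (.leaf (667, 0, 0))) (.node 347 (.leaf (669, 0, 0)) (.leaf (671, 0, 0)))) (.node 350 (.node 349 (.leaf (673, 0, 0)) (.leaf (675, 0, 0))) (.node 351 (.leaf (677, 0, 0)) (.leaf (679, 0, 0)))))))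

def tEY_11 : BT (ℕ × ℕ × ℕ) := (.node 368 (.node 360 (.node 356 (.node 354 (.node 353 (.leaf (681, 0, 0)) (.leaf (683, 0, 0))) (.node 355 (.leaf (685, 0, 0)) (.leaf (687, 0, 0)))) (.node 358 (.node 357 (.leaf (689, 0, 0)) (.leaf (691, 0, 0))) (.node 359 (.leaf (235, 112, 12)) (.leaf (694, 0, 0))))) (.node 364 (.node 362 (.node 361 (.leaf (696, 0, 0)) (.leaf (698, 0, 0))) (.node 363 (.leaf (700, 0, 0)) (.leaf (212, 199, 63)))) (.node 366 (.node 365 (.leaf (703, 0, 0)) (.leaf (705, 0, 0))) (.node 367 (.leaf (707, 0, 0)) (.leaf (709, 0, 0)))))) (.node 376 (.node 372 (.node 370 (.node 369 (.leaf (711, 0, 0)) (.leaf (713, 0, 0))) (.node 371 (.leaf (715, 0, 0)) (.leaf (717, 0, 0)))) (.node 374 (.node 373 (.leaf (719, 0, 0)) (.leaf (721, 0, 0))) (.node 375 (.leaf (723, 0, 0)) (.leaf (725, 0, 0))))) (.node 380 (.node 378 (.node 377 (.leaf (727, 0, 0)) (.leaf (729, 0, 0))) (.node 379 (.leaf (731,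 0, 0)) (.leaf (733, 0, 0)))) (.node 382 (.node 381 (.leaf (735, 0, 0)) (.leaf (737, 0, 0))) (.node 383 (.leaf (739, 0, 0)) (.leaf (741, 0, 0)))))))

def tEY_12 : BT (ℕ × ℕ × ℕ) := (.node 400 (.node 392 (.node 388 (.node 386 (.node 385 (.leaf (743, 0, 0)) (.leaf (118, 218, 69))) (.node 387 (.leaf (745, 0, 0)) (.leaf (747, 0, 0)))) (.node 390 (.node 389 (.leaf (749, 0, 0)) (.leaf (90, 264, 46))) (.node 391 (.leaf (752, 0, 0)) (.leaf (754, 0, 0))))) (.node 396 (.node 394 (.node 393 (.leaf (756, 0, 0)) (.leaf (758, 0, 0))) (.node 395 (.leaf (760, 0, 0)) (.leaf (762, 0, 0)))) (.node 398 (.node 397 (.leaf (764, 0, 0)) (.leaf (766, 0, 0))) (.node 399 (.leaf (768, 0, 0)) (.leaf (770, 0, 0)))))) (.node 408 (.node 404 (.node 402 (.node 401 (.leaf (772, 0, 0)) (.leaf (774, 0, 0))) (.node 403 (.leaf (776, 0, 0)) (.leaf (777, 0, 0)))) (.node 406 (.node 405 (.leaf (779, 0, 0)) (.leaf (781, 0, 0))) (.node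 407 (.leaf (783, 0, 0)) (.leaf (785, 0, 0))))) (.node 412 (.node 410 (.node 409 (.leaf (787, 0, 0)) (.leaf (789, 0, 0))) (.node 411 (.leaf (791, 0, 0)) (.leaf (793, 0, 0)))) (.node 414 (.node 413 (.leaf (794, 0, 0)) (.leaf (796, 0, 0))) (.node 415 (.leaf (798, 0, 0)) (.leaf (800, 0, 0)))))))

def tEY_13 : BT (ℕ × ℕ × ℕ) := (.node 432 (.node 424 (.node 420 (.node 418 (.node 417 (.leaf (802, 0, 0)) (.leaf (804, 0, 0))) (.node 419 (.leaf (656, 169, 13)) (.leaf (807, 0, 0)))) (.node 422 (.node 421 (.leaf (809, 0, 0)) (.leaf (811, 0, 0))) (.node 423 (.leaf (813, 0, 0)) (.leaf (815, 0, 0))))) (.node 428 (.node 426 (.node 425 (.leaf (816, 0, 0)) (.leaf (818, 0, 0))) (.node 427 (.leaf (820, 0, 0)) (.leaf (822, 0, 0)))) (.node 430 (.node 429 (.leaf (824, 0, 0)) (.leaf (826, 0, 0))) (.node 431 (.leaf (828, 0, 0)) (.leaf (830, 0, 0)))))) (.node 440 (.node 436 (.node 434 (.node 433 (.leaf (832, 0, 0))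 (.leaf (740, 201, 89))) (.node 435 (.leaf (835, 0, 0)) (.leaf (837, 0, 0)))) (.node 438 (.node 437 (.leaf (839, 0, 0)) (.leaf (841, 0, 0))) (.node 439 (.leaf (843, 0, 0)) (.leaf (845, 0, 0))))) (.node 444 (.node 442 (.node 441 (.leaf (847, 0, 0)) (.leaf (849, 0, 0))) (.node 443 (.leaf (78, 262, 30)) (.leaf (852, 0, 0)))) (.node 446 (.node 445 (.leaf (854, 0, 0)) (.leaf (856, 0, 0))) (.node 447 (.leaf (858, 0, 0)) (.leaf (860, 0, 0)))))))

def tEY_14 : BT (ℕ × ℕ × ℕ) := (.node 464 (.node 456 (.node 452 (.node 450 (.node 449 (.leaf (862, 0, 0)) (.leaf (864, 0, 0))) (.node 451 (.leaf (866, 0, 0)) (.leaf (868, 0, 0)))) (.node 454 (.node 453 (.leaf (870, 0, 0)) (.leaf (872, 0, 0))) (.node 455 (.leaf (662, 43, 45)) (.leaf (259, 77, 47))))) (.node 460 (.node 458 (.node 457 (.leaf (876, 0, 0)) (.leaf (878, 0, 0))) (.node 459 (.leaf (880, 0, 0)) (.leaf (140, 258, 23)))) (.node 462 (.node 461 (.leaf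 (883, 0, 0)) (.leaf (885, 0, 0))) (.node 463 (.leaf (887, 0, 0)) (.leaf (889, 0, 0)))))) (.node 472 (.node 468 (.node 466 (.node 465 (.leaf (891, 0, 0)) (.leaf (208, 22, 82))) (.node 467 (.leaf (893, 0, 0)) (.leaf (895, 0, 0)))) (.node 470 (.node 469 (.leaf (897, 0, 0)) (.leaf (899, 0, 0))) (.node 471 (.leaf (901, 0, 0)) (.leaf (902, 0, 0))))) (.node 476 (.node 474 (.node 473 (.leaf (904, 0, 0)) (.leaf (906, 0, 0))) (.node 475 (.leaf (908, 0, 0)) (.leaf (909, 0, 0)))) (.node 478 (.node 477 (.leaf (910, 0, 0)) (.leaf (912, 0, 0))) (.node 479 (.leaf (342, 178, 70)) (.leaf (914, 0, 0)))))))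

def tEY_15 : BT (ℕ × ℕ × ℕ) := (.node 496 (.node 488 (.node 484 (.node 482 (.node 481 (.leaf (916, 0, 0)) (.leaf (913, 225, 60))) (.node 483 (.leaf (919, 0, 0)) (.leaf (921, 0, 0)))) (.node 486 (.node 485 (.leaf (923, 0, 0)) (.leaf (925, 0, 0))) (.node 487 (.leaf (927, 0, 0)) (.leaf (929, 0, 0))))) (.node 492 (.node 490 (.node 489 (.leaf (931, 0, 0)) (.leaf (933, 0, 0))) (.node 491 (.leaf (934, 0, 0)) (.leaf (936, 0, 0)))) (.node 494 (.node 493 (.leaf (938, 0, 0)) (.leaf (940, 0, 0))) (.node 495 (.leaf (10, 160, 62)) (.leaf (942, 0, 0)))))) (.node 504 (.node 500 (.node 498 (.node 497 (.leaf (944, 0, 0)) (.leaf (946, 0, 0))) (.node 499 (.leaf (948, 0, 0)) (.leaf (218, 137, 3)))) (.node 502 (.node 501 (.leaf (951, 0, 0)) (.leaf (953, 0, 0))) (.node 503 (.leaf (955, 0, 0)) (.leaf (956, 0, 0))))) (.node 508 (.node 506 (.node 505 (.leaf (958, 0, 0)) (.leaf (960, 0, 0))) (.node 507 (.leaf (962,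 0, 0)) (.leaf (964, 0, 0)))) (.node 510 (.node 509 (.leaf (966, 0, 0)) (.leaf (968, 0, 0))) (.node 511 (.leaf (970, 0, 0)) (.leaf (972, 0, 0)))))))

def tEY_16 : BT (ℕ × ℕ × ℕ) := (.node 528 (.node 520 (.node 516 (.node 514 (.node 513 (.leaf (974, 0, 0)) (.leaf (975, 0, 0))) (.node 515 (.leaf (977, 0, 0)) (.leaf (979, 0, 0)))) (.node 518 (.node 517 (.leaf (981, 0, 0)) (.leaf (983, 0, 0))) (.node 519 (.leaf (935, 80, 33)) (.leaf (985, 0, 0))))) (.node 524 (.node 522 (.node 521 (.leaf (987, 0, 0)) (.leaf (988, 0, 0))) (.node 523 (.leaf (990, 0, 0)) (.leaf (992, 0, 0)))) (.node 526 (.node 525 (.leaf (994, 0, 0)) (.leaf (996, 0, 0))) (.node 527 (.leaf (998, 0, 0)) (.leaf (1000, 0, 0)))))) (.node 536 (.node 532 (.node 530 (.node 529 (.leaf (1002, 0, 0)) (.leaf (1004, 0, 0))) (.node 531 (.leaf (1006, 0, 0)) (.leaf (1008, 0, 0)))) (.node 534 (.node 533 (.leaf (1010, 0, 0)) (.leaf (48, 66, 86)))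 (.node 535 (.leaf (1013, 0, 0)) (.leaf (1015, 0, 0))))) (.node 540 (.node 538 (.node 537 (.leaf (1017, 0, 0)) (.leaf (871, 75, 57))) (.node 539 (.leaf (1020, 0, 0)) (.leaf (1022, 0, 0)))) (.node 542 (.node 541 (.leaf (1024, 0, 0)) (.leaf (1026, 0, 0))) (.node 543 (.leaf (1028, 0, 0)) (.leaf (1029, 0, 0)))))))

def tEY_17 : BT (ℕ × ℕ × ℕ) := (.node 560 (.node 552 (.node 548 (.node 546 (.node 545 (.leaf (1031, 0, 0)) (.leaf (1033, 0, 0))) (.node 547 (.leaf (1035, 0, 0)) (.leaf (1037, 0, 0)))) (.node 550 (.node 549 (.leaf (1039, 0, 0)) (.leaf (1041, 0, 0))) (.node 551 (.leaf (1043, 0, 0)) (.leaf (1034, 145, 42))))) (.node 556 (.node 554 (.node 553 (.leaf (1046, 0, 0)) (.leaf (1048, 0, 0))) (.node 555 (.leaf (1050, 0, 0)) (.leaf (1052, 0, 0)))) (.node 558 (.node 557 (.leaf (567, 10, 78)) (.leaf (40, 123, 47))) (.node 559 (.leaf (1056, 0, 0)) (.leaf (1058, 0, 0)))))) (.node 568 (.node 564 (.node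 562 (.node 561 (.leaf (1060, 0, 0)) (.leaf (1062, 0, 0))) (.node 563 (.leaf (1064, 0, 0)) (.leaf (1066, 0, 0)))) (.node 566 (.node 565 (.leaf (1068, 0, 0)) (.leaf (1070, 0, 0))) (.node 567 (.leaf (1072, 0, 0)) (.leaf (1074, 0, 0))))) (.node 572 (.node 570 (.node 569 (.leaf (1076, 0, 0)) (.leaf (1078, 0, 0))) (.node 571 (.leaf (926, 49, 7)) (.leaf (1081, 0, 0)))) (.node 574 (.node 573 (.leaf (1083, 0, 0)) (.leaf (1085, 0, 0))) (.node 575 (.leaf (1086, 0, 0)) (.leaf (1088, 0, 0)))))))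

def tEY_18 : BT (ℕ × ℕ × ℕ) := (.node 592 (.node 584 (.node 580 (.node 578 (.node 577 (.leaf (590, 149, 43)) (.leaf (1090, 0, 0))) (.node 579 (.leaf (1092, 0, 0)) (.leaf (1094, 0, 0)))) (.node 582 (.node 581 (.leaf (1096, 0, 0)) (.leaf (1098, 0, 0))) (.node 583 (.leaf (1100, 0, 0)) (.leaf (1102, 0, 0))))) (.node 588 (.node 586 (.node 585 (.leaf (1104, 0, 0)) (.leaf (1106, 0, 0))) (.node 587 (.leaf (1108, 0, 0)) (.leaf (1110, 0, 0)))) (.node 590 (.node 589 (.leaf (1112, 0, 0)) (.leaf (1114, 0, 0))) (.node 591 (.leaf (1116, 0, 0)) (.leaf (1118, 0, 0)))))) (.node 600 (.node 596 (.node 594 (.node 593 (.leaf (1120, 0, 0)) (.leaf (1122, 0, 0))) (.node 595 (.leaf (1124, 0, 0)) (.leaf (1126, 0, 0)))) (.node 598 (.node 597 (.leaf (1128, 0, 0)) (.leaf (1130, 0, 0))) (.node 599 (.leaf (1132, 0, 0)) (.leaf (1134, 0, 0))))) (.node 604 (.node 602 (.node 601 (.leaf (1136, 0, 0)) (.leaf (1138, 0, 0))) (.node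 603 (.leaf (1140, 0, 0)) (.leaf (423, 192, 9)))) (.node 606 (.node 605 (.leaf (1142, 0, 0)) (.leaf (1144, 0, 0))) (.node 607 (.leaf (607, 154, 24)) (.leaf (1146, 0, 0)))))))

def tEY_19 : BT (ℕ × ℕ × ℕ) := (.node 624 (.node 616 (.node 612 (.node 610 (.node 609 (.leaf (1148, 0, 0)) (.leaf (905, 262, 33))) (.node 611 (.leaf (1151, 0, 0)) (.leaf (1153, 0, 0)))) (.node 614 (.node 613 (.leaf (1155, 0, 0)) (.leaf (336, 149, 62))) (.node 615 (.leaf (1158, 0, 0)) (.leaf (1160, 0, 0))))) (.node 620 (.node 618 (.node 617 (.leaf (886, 165, 88)) (.leaf (1163, 0, 0))) (.node 619 (.leaf (1164, 0, 0)) (.leaf (1166, 0, 0)))) (.node 622 (.node 621 (.leaf (1167, 0, 0)) (.leaf (1169, 0, 0))) (.node 623 (.leaf (1171, 0, 0)) (.leaf (1173, 0, 0)))))) (.node 632 (.node 628 (.node 626 (.node 625 (.leaf (1174, 0, 0)) (.leaf (1176, 0, 0))) (.node 627 (.leaf (1178, 0, 0)) (.leaf (1180, 0, 0)))) (.node 630 (.node 629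 (.leaf (808, 86, 35)) (.leaf (1183, 0, 0))) (.node 631 (.leaf (1185, 0, 0)) (.leaf (1187, 0, 0))))) (.node 636 (.node 634 (.node 633 (.leaf (1189, 0, 0)) (.leaf (1190, 0, 0))) (.node 635 (.leaf (1192, 0, 0)) (.leaf (1194, 0, 0)))) (.node 638 (.node 637 (.leaf (1196, 0, 0)) (.leaf (1197, 0, 0))) (.node 639 (.leaf (1199, 0, 0)) (.leaf (1200, 0, 0)))))))

def tEY_20 : BT (ℕ × ℕ × ℕ) := (.node 656 (.node 648 (.node 644 (.node 642 (.node 641 (.leaf (1202, 0, 0)) (.leaf (1203, 0, 0))) (.node 643 (.leaf (1205, 0, 0)) (.leaf (1207, 0, 0)))) (.node 646 (.node 645 (.leaf (1209, 0, 0)) (.leaf (1211, 0, 0))) (.node 647 (.leaf (1213, 0, 0)) (.leaf (1215, 0, 0))))) (.node 652 (.node 650 (.node 649 (.leaf (1217, 0, 0)) (.leaf (1219, 0, 0))) (.node 651 (.leaf (1221, 0, 0)) (.leaf (1223, 0, 0)))) (.node 654 (.node 653 (.leaf (1224, 0, 0)) (.leaf (1225, 0, 0))) (.node 655 (.leaf (1227, 0, 0)) (.leaf (1229,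 0, 0)))))) (.node 664 (.node 660 (.node 658 (.node 657 (.leaf (1231, 0, 0)) (.leaf (1232, 0, 0))) (.node 659 (.leaf (1234, 0, 0)) (.leaf (642, 126, 31)))) (.node 662 (.node 661 (.leaf (1237, 0, 0)) (.leaf (108, 149, 79))) (.node 663 (.leaf (1240, 0, 0)) (.leaf (1242, 0, 0))))) (.node 668 (.node 666 (.node 665 (.leaf (1244, 0, 0)) (.leaf (1246, 0, 0))) (.node 667 (.leaf (1184, 15, 72)) (.leaf (1249, 0, 0)))) (.node 670 (.node 669 (.leaf (1251, 0, 0)) (.leaf (1253, 0, 0))) (.node 671 (.leaf (1254, 0, 0)) (.leaf (1256, 0, 0)))))))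

def tEY_21 : BT (ℕ × ℕ × ℕ) := (.node 688 (.node 680 (.node 676 (.node 674 (.node 673 (.leaf (1258, 0, 0)) (.leaf (1260, 0, 0))) (.node 675 (.leaf (1262, 0, 0)) (.leaf (1264, 0, 0)))) (.node 678 (.node 677 (.leaf (1266, 0, 0)) (.leaf (1268, 0, 0))) (.node 679 (.leaf (1270, 0, 0)) (.leaf (1272, 0, 0))))) (.node 684 (.node 682 (.node 681 (.leaf (1274, 0, 0)) (.leaf (1276, 0, 0))) (.node 683 (.leaf (1278, 0, 0)) (.leaf (1280, 0, 0)))) (.node 686 (.node 685 (.leaf (1282, 0, 0)) (.leaf (1284, 0, 0))) (.node 687 (.leaf (1285, 0, 0)) (.leaf (1287, 0, 0)))))) (.node 696 (.node 692 (.node 690 (.node 689 (.leaf (1289, 0, 0)) (.leaf (1291, 0, 0))) (.node 691 (.leaf (1293, 0, 0)) (.leaf (1295, 0, 0)))) (.node 694 (.node 693 (.leaf (38, 145, 67)) (.leaf (1297, 0, 0))) (.node 695 (.leaf (1299, 0, 0)) (.leaf (1300, 0, 0))))) (.node 700 (.node 698 (.node 697 (.leaf (1301, 162, 13)) (.leaf (1303, 0, 0)))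 (.node 699 (.leaf (1305, 0, 0)) (.leaf (1307, 0, 0)))) (.node 702 (.node 701 (.leaf (1308, 0, 0)) (.leaf (1310, 0, 0))) (.node 703 (.leaf (1312, 0, 0)) (.leaf (1314, 0, 0)))))))

def tEY_22 : BT (ℕ × ℕ × ℕ) := (.node 720 (.node 712 (.node 708 (.node 706 (.node 705 (.leaf (1316, 0, 0)) (.leaf (1318, 0, 0))) (.node 707 (.leaf (1320, 0, 0)) (.leaf (1322, 0, 0)))) (.node 710 (.node 709 (.leaf (1324, 0, 0)) (.leaf (1326, 0, 0))) (.node 711 (.leaf (1328, 0, 0)) (.leaf (1330, 0, 0))))) (.node 716 (.node 714 (.node 713 (.leaf (214, 252, 6)) (.leaf (1333, 0, 0))) (.node 715 (.leaf (1335, 0, 0)) (.leaf (1337, 0, 0)))) (.node 718 (.node 717 (.leaf (1339, 0, 0)) (.leaf (1341, 0, 0))) (.node 719 (.leaf (1343, 0, 0)) (.leaf (1345, 0, 0)))))) (.node 728 (.node 724 (.node 722 (.node 721 (.leaf (1347, 0, 0)) (.leaf (1348, 0, 0))) (.node 723 (.leaf (1350, 0, 0)) (.leaf (1352, 0, 0)))) (.node 726 (.node 725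 (.leaf (1354, 0, 0)) (.leaf (1356, 0, 0))) (.node 727 (.leaf (1358, 0, 0)) (.leaf (1360, 0, 0))))) (.node 732 (.node 730 (.node 729 (.leaf (1362, 0, 0)) (.leaf (1364, 0, 0))) (.node 731 (.leaf (1366, 0, 0)) (.leaf (1368, 0, 0)))) (.node 734 (.node 733 (.leaf (1370, 0, 0)) (.leaf (1372, 0, 0))) (.node 735 (.leaf (1374, 0, 0)) (.leaf (1376, 0, 0)))))))

def tEY_23 : BT (ℕ × ℕ × ℕ) := (.node 752 (.node 744 (.node 740 (.node 738 (.node 737 (.leaf (1378, 0, 0)) (.leaf (1380, 0, 0))) (.node 739 (.leaf (1381, 0, 0)) (.leaf (1383, 0, 0)))) (.node 742 (.node 741 (.leaf (1384, 0, 0)) (.leaf (1386, 0, 0))) (.node 743 (.leaf (1387, 0, 0)) (.leaf (1389, 0, 0))))) (.node 748 (.node 746 (.node 745 (.leaf (1391, 0, 0)) (.leaf (1393, 0, 0))) (.node 747 (.leaf (1395, 0, 0)) (.leaf (1397, 0, 0)))) (.node 750 (.node 749 (.leaf (1399, 0, 0)) (.leaf (1401, 0, 0))) (.node 751 (.leaf (817, 73, 9)) (.leaf (1404,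 0, 0)))))) (.node 760 (.node 756 (.node 754 (.node 753 (.leaf (1406, 0, 0)) (.leaf (1408, 0, 0))) (.node 755 (.leaf (1410, 0, 0)) (.leaf (1412, 0, 0)))) (.node 758 (.node 757 (.leaf (1413, 0, 0)) (.leaf (1415, 0, 0))) (.node 759 (.leaf (1417, 0, 0)) (.leaf (1419, 0, 0))))) (.node 764 (.node 762 (.node 761 (.leaf (1421, 0, 0)) (.leaf (1423, 0, 0))) (.node 763 (.leaf (1425, 0, 0)) (.leaf (976, 84, 26)))) (.node 766 (.node 765 (.leaf (1428, 0, 0)) (.leaf (178, 224, 53))) (.node 767 (.leaf (1431, 0, 0)) (.leaf (1433, 0, 0)))))))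

def tEY_24 : BT (ℕ × ℕ × ℕ) := (.node 784 (.node 776 (.node 772 (.node 770 (.node 769 (.leaf (1434, 0, 0)) (.leaf (1436, 0, 0))) (.node 771 (.leaf (1438, 0, 0)) (.leaf (1440, 0, 0)))) (.node 774 (.node 773 (.leaf (1275, 98, 50)) (.leaf (1443, 0, 0))) (.node 775 (.leaf (1445, 0, 0)) (.leaf (1447, 0, 0))))) (.node 780 (.node 778 (.node 777 (.leaf (1449, 0, 0)) (.leaf (1451, 0, 0))) (.node 779 (.leaf (1453, 0, 0)) (.leaf (1455, 0, 0)))) (.node 782 (.node 781 (.leaf (1457, 0, 0)) (.leaf (1459, 0, 0))) (.node 783 (.leaf (1461, 0, 0)) (.leaf (1463, 0, 0)))))) (.node 792 (.node 788 (.node 786 (.node 785 (.leaf (654, 243, 9)) (.leaf (1466, 0, 0))) (.node 787 (.leaf (1468, 0, 0)) (.leaf (1470, 0, 0)))) (.node 790 (.node 789 (.leaf (1472, 0, 0)) (.leaf (1321, 78, 27))) (.node 791 (.leaf (1474, 0, 0)) (.leaf (1475, 0, 0))))) (.node 796 (.node 794 (.node 793 (.leaf (1477, 0, 0)) (.leaf (1479, 0, 0)))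 (.node 795 (.leaf (1481, 0, 0)) (.leaf (1483, 0, 0)))) (.node 798 (.node 797 (.leaf (821, 102, 1)) (.leaf (1486, 0, 0))) (.node 799 (.leaf (1488, 0, 0)) (.leaf (1490, 0, 0)))))))

def tEY_25 : BT (ℕ × ℕ × ℕ) := (.node 816 (.node 808 (.node 804 (.node 802 (.node 801 (.leaf (801, 141, 32)) (.leaf (702, 180, 43))) (.node 803 (.leaf (1494, 0, 0)) (.leaf (1496, 0, 0)))) (.node 806 (.node 805 (.leaf (1498, 0, 0)) (.leaf (1500, 0, 0))) (.node 807 (.leaf (1502, 0, 0)) (.leaf (1504, 0, 0))))) (.node 812 (.node 810 (.node 809 (.leaf (1506, 0, 0)) (.leaf (1508, 0, 0))) (.node 811 (.leaf (1510, 0, 0)) (.leaf (1511, 0, 0)))) (.node 814 (.node 813 (.leaf (765, 61, 80)) (.leaf (1514, 0, 0))) (.node 815 (.leaf (1515, 0, 0)) (.leaf (1517, 0, 0)))))) (.node 824 (.node 820 (.node 818 (.node 817 (.leaf (1519, 0, 0)) (.leaf (338, 25, 54))) (.node 819 (.leaf (1521, 0, 0)) (.leaf (1523, 0, 0)))) (.node 822 (.node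 821 (.leaf (1525, 0, 0)) (.leaf (1527, 0, 0))) (.node 823 (.leaf (1529, 0, 0)) (.leaf (1531, 0, 0))))) (.node 828 (.node 826 (.node 825 (.leaf (1533, 0, 0)) (.leaf (1535, 0, 0))) (.node 827 (.leaf (1537, 0, 0)) (.leaf (1539, 0, 0)))) (.node 830 (.node 829 (.leaf (1541, 0, 0)) (.leaf (1543, 0, 0))) (.node 831 (.leaf (1545, 0, 0)) (.leaf (1547, 0, 0)))))))

def tEY_26 : BT (ℕ × ℕ × ℕ) := (.node 848 (.node 840 (.node 836 (.node 834 (.node 833 (.leaf (1549, 0, 0)) (.leaf (264, 36, 49))) (.node 835 (.leaf (1551, 0, 0)) (.leaf (1553, 0, 0)))) (.node 838 (.node 837 (.leaf (382, 76, 27)) (.leaf (1556, 0, 0))) (.node 839 (.leaf (1558, 0, 0)) (.leaf (1560, 0, 0))))) (.node 844 (.node 842 (.node 841 (.leaf (1562, 0, 0)) (.leaf (1564, 0, 0))) (.node 843 (.leaf (1566, 0, 0)) (.leaf (863, 50, 8)))) (.node 846 (.node 845 (.leaf (1569, 0, 0)) (.leaf (1571, 0, 0))) (.node 847 (.leaf (1573, 0, 0)) (.leaf (1575,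 0, 0)))))) (.node 856 (.node 852 (.node 850 (.node 849 (.leaf (1577, 0, 0)) (.leaf (1579, 0, 0))) (.node 851 (.leaf (867, 181, 59)) (.leaf (1581, 0, 0)))) (.node 854 (.node 853 (.leaf (1583, 0, 0)) (.leaf (1585, 0, 0))) (.node 855 (.leaf (1587, 0, 0)) (.leaf (1589, 0, 0))))) (.node 860 (.node 858 (.node 857 (.leaf (1591, 0, 0)) (.leaf (1593, 0, 0))) (.node 859 (.leaf (1594, 0, 0)) (.leaf (1596, 0, 0)))) (.node 862 (.node 861 (.leaf (1597, 0, 0)) (.leaf (1599, 0, 0))) (.node 863 (.leaf (819, 77, 19)) (.leaf (1601, 0, 0)))))))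

def tEY_27 : BT (ℕ × ℕ × ℕ) := (.node 880 (.node 872 (.node 868 (.node 866 (.node 865 (.leaf (1603, 0, 0)) (.leaf (1605, 0, 0))) (.node 867 (.leaf (1607, 0, 0)) (.leaf (1609, 0, 0)))) (.node 870 (.node 869 (.leaf (1611, 0, 0)) (.leaf (1612, 0, 0))) (.node 871 (.leaf (1614, 0, 0)) (.leaf (1616, 0, 0))))) (.node 876 (.node 874 (.node 873 (.leaf (1618, 0, 0)) (.leaf (1619, 0, 0))) (.node 875 (.leaf (1621, 0, 0)) (.leaf (366, 60, 64)))) (.node 878 (.node 877 (.leaf (1624, 0, 0)) (.leaf (1625, 0, 0))) (.node 879 (.leaf (1627, 0, 0)) (.leaf (1629, 0, 0)))))) (.node 888 (.node 884 (.node 882 (.node 881 (.leaf (1631, 0, 0)) (.leaf (1633, 0, 0))) (.node 883 (.leaf (1635, 0, 0)) (.leaf (1473, 219, 25)))) (.node 886 (.node 885 (.leaf (1638, 0, 0)) (.leaf (1640, 0, 0))) (.node 887 (.leaf (1641, 0, 0)) (.leaf (1643, 0, 0))))) (.node 892 (.node 890 (.node 889 (.leaf (1645, 0, 0)) (.leaf (1647, 0, 0)))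 (.node 891 (.leaf (1649, 0, 0)) (.leaf (1651, 0, 0)))) (.node 894 (.node 893 (.leaf (1653, 0, 0)) (.leaf (1654, 0, 0))) (.node 895 (.leaf (640, 199, 17)) (.leaf (1657, 0, 0)))))))

def tEY_28 : BT (ℕ × ℕ × ℕ) := (.node 912 (.node 904 (.node 900 (.node 898 (.node 897 (.leaf (1659, 0, 0)) (.leaf (1661, 0, 0))) (.node 899 (.leaf (1662, 0, 0)) (.leaf (1664, 0, 0)))) (.node 902 (.node 901 (.leaf (1666, 0, 0)) (.leaf (1668, 0, 0))) (.node 903 (.leaf (1670, 0, 0)) (.leaf (1672, 0, 0))))) (.node 908 (.node 906 (.node 905 (.leaf (322, 216, 65)) (.leaf (1267, 117, 68))) (.node 907 (.leaf (1675, 0, 0)) (.leaf (1677, 0, 0)))) (.node 910 (.node 909 (.leaf (1679, 0, 0)) (.leaf (1681, 0, 0))) (.node 911 (.leaf (1683, 0, 0)) (.leaf (1685, 0, 0)))))) (.node 920 (.node 916 (.node 914 (.node 913 (.leaf (1687, 0, 0)) (.leaf (1689, 0, 0))) (.node 915 (.leaf (1691, 0, 0)) (.leaf (1693, 0, 0)))) (.node 918 (.node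 917 (.leaf (1695, 0, 0)) (.leaf (1697, 0, 0))) (.node 919 (.leaf (1699, 0, 0)) (.leaf (1701, 0, 0))))) (.node 924 (.node 922 (.node 921 (.leaf (1703, 0, 0)) (.leaf (952, 16, 72))) (.node 923 (.leaf (469, 186, 30)) (.leaf (1204, 134, 75)))) (.node 926 (.node 925 (.leaf (1708, 0, 0)) (.leaf (1710, 0, 0))) (.node 927 (.leaf (1712, 0, 0)) (.leaf (1714, 0, 0)))))))

def tEY_29 : BT (ℕ × ℕ × ℕ) := (.node 944 (.node 936 (.node 932 (.node 930 (.node 929 (.leaf (1716, 0, 0)) (.leaf (1718, 0, 0))) (.node 931 (.leaf (1720, 0, 0)) (.leaf (1722, 0, 0)))) (.node 934 (.node 933 (.leaf (1724, 0, 0)) (.leaf (1726, 0, 0))) (.node 935 (.leaf (1728, 0, 0)) (.leaf (1730, 0, 0))))) (.node 940 (.node 938 (.node 937 (.leaf (1732, 0, 0)) (.leaf (1734, 0, 0))) (.node 939 (.leaf (1735, 0, 0)) (.leaf (1737, 0, 0)))) (.node 942 (.node 941 (.leaf (1738, 0, 0)) (.leaf (1658, 112, 2))) (.node 943 (.leaf (1741, 0, 0)) (.leaf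 (1742, 0, 0)))))) (.node 952 (.node 948 (.node 946 (.node 945 (.leaf (578, 68, 75)) (.leaf (1745, 0, 0))) (.node 947 (.leaf (1747, 0, 0)) (.leaf (1749, 0, 0)))) (.node 950 (.node 949 (.leaf (1751, 0, 0)) (.leaf (1753, 0, 0))) (.node 951 (.leaf (1755, 0, 0)) (.leaf (1756, 0, 0))))) (.node 956 (.node 954 (.node 953 (.leaf (1758, 0, 0)) (.leaf (1760, 0, 0))) (.node 955 (.leaf (803, 31, 29)) (.leaf (1763, 0, 0)))) (.node 958 (.node 957 (.leaf (1765, 0, 0)) (.leaf (1767, 0, 0))) (.node 959 (.leaf (1769, 0, 0)) (.leaf (1771, 0, 0)))))))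

def tEY_30 : BT (ℕ × ℕ × ℕ) := (.node 976 (.node 968 (.node 964 (.node 962 (.node 961 (.leaf (1773, 0, 0)) (.leaf (1775, 0, 0))) (.node 963 (.leaf (1776, 0, 0)) (.leaf (1778, 0, 0)))) (.node 966 (.node 965 (.leaf (1588, 26, 43)) (.leaf (1781, 0, 0))) (.node 967 (.leaf (1783, 0, 0)) (.leaf (1785, 0, 0))))) (.node 972 (.node 970 (.node 969 (.leaf (1787, 0, 0)) (.leaf (1789, 0, 0))) (.node 971 (.leaf (1791, 0, 0)) (.leaf (1793, 0, 0)))) (.node 974 (.node 973 (.leaf (1795, 0, 0)) (.leaf (1796, 0, 0))) (.node 975 (.leaf (1798, 0, 0)) (.leaf (1800, 0, 0)))))) (.node 984 (.node 980 (.node 978 (.node 977 (.leaf (1802, 0, 0)) (.leaf (1602, 119, 40))) (.node 979 (.leaf (417, 217, 42)) (.leaf (1805, 0, 0)))) (.node 982 (.node 981 (.leaf (1807, 0, 0)) (.leaf (1809, 0, 0))) (.node 983 (.leaf (1811, 0, 0)) (.leaf (1813, 0, 0))))) (.node 988 (.node 986 (.node 985 (.leaf (1815, 0, 0)) (.leaf (1817, 0, 0)))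 (.node 987 (.leaf (1819, 0, 0)) (.leaf (1821, 0, 0)))) (.node 990 (.node 989 (.leaf (24, 106, 8)) (.leaf (1824, 0, 0))) (.node 991 (.leaf (1826, 0, 0)) (.leaf (1827, 0, 0)))))))

def tEY_31 : BT (ℕ × ℕ × ℕ) := (.node 1008 (.node 1000 (.node 996 (.node 994 (.node 993 (.leaf (1828, 0, 0)) (.leaf (1830, 0, 0))) (.node 995 (.leaf (233, 32, 82)) (.leaf (1832, 0, 0)))) (.node 998 (.node 997 (.leaf (1834, 0, 0)) (.leaf (1835, 0, 0))) (.node 999 (.leaf (1837, 0, 0)) (.leaf (1839, 0, 0))))) (.node 1004 (.node 1002 (.node 1001 (.leaf (1841, 0, 0)) (.leaf (969, 263, 1))) (.node 1003 (.leaf (1844, 0, 0)) (.leaf (1846, 0, 0)))) (.node 1006 (.node 1005 (.leaf (1848, 0, 0)) (.leaf (1850, 0, 0))) (.node 1007 (.leaf (1852, 0, 0)) (.leaf (1854, 0, 0)))))) (.node 1016 (.node 1012 (.node 1010 (.node 1009 (.leaf (1855, 0, 0)) (.leaf (1857, 0, 0))) (.node 1011 (.leaf (1859, 0, 0)) (.leaf (911, 264, 68)))) (.node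 1014 (.node 1013 (.leaf (1862, 0, 0)) (.leaf (1845, 262, 38))) (.node 1015 (.leaf (1865, 0, 0)) (.leaf (1867, 0, 0))))) (.node 1020 (.node 1018 (.node 1017 (.leaf (1869, 0, 0)) (.leaf (1871, 0, 0))) (.node 1019 (.leaf (1873, 0, 0)) (.leaf (1288, 107, 38)))) (.node 1022 (.node 1021 (.leaf (1876, 0, 0)) (.leaf (1878, 0, 0))) (.node 1023 (.leaf (1880, 0, 0)) (.leaf (1882, 0, 0)))))))

def tEY_32 : BT (ℕ × ℕ × ℕ) := (.node 1040 (.node 1032 (.node 1028 (.node 1026 (.node 1025 (.leaf (1884, 0, 0)) (.leaf (1886, 0, 0))) (.node 1027 (.leaf (1888, 0, 0)) (.leaf (1890, 0, 0)))) (.node 1030 (.node 1029 (.leaf (1892, 0, 0)) (.leaf (1894, 0, 0))) (.node 1031 (.leaf (1896, 0, 0)) (.leaf (1898, 0, 0))))) (.node 1036 (.node 1034 (.node 1033 (.leaf (1899, 0, 0)) (.leaf (1901, 0, 0))) (.node 1035 (.leaf (1903, 0, 0)) (.leaf (1905, 0, 0)))) (.node 1038 (.node 1037 (.leaf (1907, 0, 0)) (.leaf (748, 240, 66)))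 (.node 1039 (.leaf (1910, 0, 0)) (.leaf (1912, 0, 0)))))) (.node 1048 (.node 1044 (.node 1042 (.node 1041 (.leaf (1913, 0, 0)) (.leaf (1914, 0, 0))) (.node 1043 (.leaf (1916, 0, 0)) (.leaf (1918, 0, 0)))) (.node 1046 (.node 1045 (.leaf (1920, 0, 0)) (.leaf (1922, 0, 0))) (.node 1047 (.leaf (1924, 0, 0)) (.leaf (1926, 0, 0))))) (.node 1052 (.node 1050 (.node 1049 (.leaf (1927, 0, 0)) (.leaf (1929, 0, 0))) (.node 1051 (.leaf (1931, 0, 0)) (.leaf (1933, 0, 0)))) (.node 1054 (.node 1053 (.leaf (1471, 259, 13)) (.leaf (1936, 0, 0))) (.node 1055 (.leaf (1292, 87, 21)) (.leaf (1939, 0, 0)))))))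

def tEY_33 : BT (ℕ × ℕ × ℕ) := (.node 1072 (.node 1064 (.node 1060 (.node 1058 (.node 1057 (.leaf (1941, 0, 0)) (.leaf (32, 199, 44))) (.node 1059 (.leaf (1944, 0, 0)) (.leaf (1945, 0, 0)))) (.node 1062 (.node 1061 (.leaf (1598, 257, 75)) (.leaf (1948, 0, 0))) (.node 1063 (.leaf (1950, 0, 0)) (.leaf (1952, 0, 0))))) (.node 1068 (.node 1066 (.node 1065 (.leaf (1954, 0, 0)) (.leaf (1168, 231, 21))) (.node 1067 (.leaf (1957, 0, 0)) (.leaf (806, 87, 58)))) (.node 1070 (.node 1069 (.leaf (1960, 0, 0)) (.leaf (1961, 0, 0))) (.node 1071 (.leaf (1963, 0, 0)) (.leaf (1965, 0, 0)))))) (.node 1080 (.node 1076 (.node 1074 (.node 1073 (.leaf (1967, 0, 0)) (.leaf (1969, 0, 0))) (.node 1075 (.leaf (1971, 0, 0)) (.leaf (1973, 0, 0)))) (.node 1078 (.node 1077 (.leaf (1975, 0, 0)) (.leaf (1977, 0, 0))) (.node 1079 (.leaf (1979, 0, 0)) (.leaf (1980, 0, 0))))) (.node 1084 (.node 1082 (.node 1081 (.leaf (1982,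 0, 0)) (.leaf (1984, 0, 0))) (.node 1083 (.leaf (1986, 0, 0)) (.leaf (1988, 0, 0)))) (.node 1086 (.node 1085 (.leaf (1989, 0, 0)) (.leaf (1991, 0, 0))) (.node 1087 (.leaf (1993, 0, 0)) (.leaf (1995, 0, 0)))))))

def tEY_34 : BT (ℕ × ℕ × ℕ) := (.node 1104 (.node 1096 (.node 1092 (.node 1090 (.node 1089 (.leaf (1555, 179, 7)) (.leaf (1997, 0, 0))) (.node 1091 (.leaf (1117, 11, 49)) (.leaf (726, 93, 74)))) (.node 1094 (.node 1093 (.leaf (2000, 0, 0)) (.leaf (2002, 0, 0))) (.node 1095 (.leaf (2004, 0, 0)) (.leaf (2006, 0, 0))))) (.node 1100 (.node 1098 (.node 1097 (.leaf (2008, 0, 0)) (.leaf (2010, 0, 0))) (.node 1099 (.leaf (2012, 0, 0)) (.leaf (2014, 0, 0)))) (.node 1102 (.node 1101 (.leaf (2016, 0, 0)) (.leaf (198, 39, 37))) (.node 1103 (.leaf (2019, 0, 0)) (.leaf (1365, 236, 69)))))) (.node 1112 (.node 1108 (.node 1106 (.node 1105 (.leaf (965, 238, 71)) (.leaf (1294, 180, 53))) (.node 1107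 (.leaf (2022, 0, 0)) (.leaf (1770, 181, 10)))) (.node 1110 (.node 1109 (.leaf (300, 161, 40)) (.leaf (2026, 0, 0))) (.node 1111 (.leaf (2028, 0, 0)) (.leaf (1655, 257, 74))))) (.node 1116 (.node 1114 (.node 1113 (.leaf (2031, 0, 0)) (.leaf (2033, 0, 0))) (.node 1115 (.leaf (2035, 0, 0)) (.leaf (2037, 0, 0)))) (.node 1118 (.node 1117 (.leaf (2039, 0, 0)) (.leaf (2041, 0, 0))) (.node 1119 (.leaf (2043, 0, 0)) (.leaf (2045, 0, 0)))))))

def tEY_35 : BT (ℕ × ℕ × ℕ) := (.node 1136 (.node 1128 (.node 1124 (.node 1122 (.node 1121 (.leaf (2047, 0, 0)) (.leaf (2049, 0, 0))) (.node 1123 (.leaf (2051, 0, 0)) (.leaf (2053, 0, 0)))) (.node 1126 (.node 1125 (.leaf (2055, 0, 0)) (.leaf (2057, 0, 0))) (.node 1127 (.leaf (2059, 0, 0)) (.leaf (2061, 0, 0))))) (.node 1132 (.node 1130 (.node 1129 (.leaf (2063, 0, 0)) (.leaf (2065, 0, 0))) (.node 1131 (.leaf (2067, 0, 0)) (.leaf (2069, 0, 0)))) (.node 1134 (.node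 1133 (.leaf (2071, 0, 0)) (.leaf (2072, 0, 0))) (.node 1135 (.leaf (2074, 0, 0)) (.leaf (2075, 0, 0)))))) (.node 1144 (.node 1140 (.node 1138 (.node 1137 (.leaf (2077, 0, 0)) (.leaf (1482, 199, 82))) (.node 1139 (.leaf (2080, 0, 0)) (.leaf (1157, 3, 81)))) (.node 1142 (.node 1141 (.leaf (2083, 0, 0)) (.leaf (2085, 0, 0))) (.node 1143 (.leaf (2087, 0, 0)) (.leaf (2089, 0, 0))))) (.node 1148 (.node 1146 (.node 1145 (.leaf (2091, 0, 0)) (.leaf (2093, 0, 0))) (.node 1147 (.leaf (2095, 0, 0)) (.leaf (2097, 0, 0)))) (.node 1150 (.node 1149 (.leaf (2099, 0, 0)) (.leaf (2100, 0, 0))) (.node 1151 (.leaf (2102, 0, 0)) (.leaf (2104, 0, 0)))))))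

def tEY_36 : BT (ℕ × ℕ × ℕ) := (.node 1168 (.node 1160 (.node 1156 (.node 1154 (.node 1153 (.leaf (302, 130, 38)) (.leaf (2107, 0, 0))) (.node 1155 (.leaf (2109, 0, 0)) (.leaf (2110, 0, 0)))) (.node 1158 (.node 1157 (.leaf (2112, 0, 0)) (.leaf (2114, 0, 0))) (.node 1159 (.leaf (2116, 0, 0)) (.leaf (2118, 0, 0))))) (.node 1164 (.node 1162 (.node 1161 (.leaf (1252, 266, 73)) (.leaf (2120, 0, 0))) (.node 1163 (.leaf (2122, 0, 0)) (.leaf (2123, 0, 0)))) (.node 1166 (.node 1165 (.leaf (2125, 0, 0)) (.leaf (2127, 0, 0))) (.node 1167 (.leaf (1532, 245, 21)) (.leaf (2130, 0, 0)))))) (.node 1176 (.node 1172 (.node 1170 (.node 1169 (.leaf (2131, 0, 0)) (.leaf (1111, 238, 76))) (.node 1171 (.leaf (2134, 0, 0)) (.leaf (2136, 0, 0)))) (.node 1174 (.node 1173 (.leaf (2138, 0, 0)) (.leaf (2140, 0, 0))) (.node 1175 (.leaf (2141, 0, 0)) (.leaf (2143, 0, 0))))) (.node 1180 (.node 1178 (.node 1177 (.leaf (449,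 193, 75)) (.leaf (2146, 0, 0))) (.node 1179 (.leaf (2148, 0, 0)) (.leaf (2150, 0, 0)))) (.node 1182 (.node 1181 (.leaf (1492, 142, 38)) (.leaf (148, 9, 54))) (.node 1183 (.leaf (2153, 0, 0)) (.leaf (2155, 0, 0)))))))

def tEY_37 : BT (ℕ × ℕ × ℕ) := (.node 1200 (.node 1192 (.node 1188 (.node 1186 (.node 1185 (.leaf (1499, 160, 50)) (.leaf (2158, 0, 0))) (.node 1187 (.leaf (2160, 0, 0)) (.leaf (2162, 0, 0)))) (.node 1190 (.node 1189 (.leaf (2164, 0, 0)) (.leaf (2165, 0, 0))) (.node 1191 (.leaf (2132, 222, 73)) (.leaf (2070, 9, 8))))) (.node 1196 (.node 1194 (.node 1193 (.leaf (2169, 0, 0)) (.leaf (2170, 0, 0))) (.node 1195 (.leaf (2172, 0, 0)) (.leaf (2174, 0, 0)))) (.node 1198 (.node 1197 (.leaf (2175, 0, 0)) (.leaf (2177, 0, 0))) (.node 1199 (.leaf (1469, 173, 50)) (.leaf (2179, 0, 0)))))) (.node 1208 (.node 1204 (.node 1202 (.node 1201 (.leaf (2181, 0, 0)) (.leaf (2182, 0, 0))) (.node 1203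 (.leaf (2184, 0, 0)) (.leaf (2186, 0, 0)))) (.node 1206 (.node 1205 (.leaf (2188, 0, 0)) (.leaf (2190, 0, 0))) (.node 1207 (.leaf (2192, 0, 0)) (.leaf (2194, 0, 0))))) (.node 1212 (.node 1210 (.node 1209 (.leaf (202, 94, 58)) (.leaf (2197, 0, 0))) (.node 1211 (.leaf (2199, 0, 0)) (.leaf (2201, 0, 0)))) (.node 1214 (.node 1213 (.leaf (1766, 161, 40)) (.leaf (2204, 0, 0))) (.node 1215 (.leaf (2206, 0, 0)) (.leaf (2208, 0, 0)))))))

def tEY_38 : BT (ℕ × ℕ × ℕ) := (.node 1232 (.node 1224 (.node 1220 (.node 1218 (.node 1217 (.leaf (2210, 0, 0)) (.leaf (1968, 51, 53))) (.node 1219 (.leaf (2213, 0, 0)) (.leaf (2214, 0, 0)))) (.node 1222 (.node 1221 (.leaf (2215, 0, 0)) (.leaf (595, 251, 65))) (.node 1223 (.leaf (2218, 0, 0)) (.leaf (2219, 0, 0))))) (.node 1228 (.node 1226 (.node 1225 (.leaf (2221, 0, 0)) (.leaf (2222, 0, 0))) (.node 1227 (.leaf (2224, 0, 0)) (.leaf (1777, 203, 37)))) (.node 1230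 (.node 1229 (.leaf (2227, 0, 0)) (.leaf (2229, 0, 0))) (.node 1231 (.leaf (2231, 0, 0)) (.leaf (2233, 0, 0)))))) (.node 1240 (.node 1236 (.node 1234 (.node 1233 (.leaf (2235, 0, 0)) (.leaf (2237, 0, 0))) (.node 1235 (.leaf (730, 42, 9)) (.leaf (2240, 0, 0)))) (.node 1238 (.node 1237 (.leaf (2242, 0, 0)) (.leaf (2244, 0, 0))) (.node 1239 (.leaf (784, 15, 50)) (.leaf (2247, 0, 0))))) (.node 1244 (.node 1242 (.node 1241 (.leaf (2249, 0, 0)) (.leaf (2251, 0, 0))) (.node 1243 (.leaf (2253, 0, 0)) (.leaf (2255, 0, 0)))) (.node 1246 (.node 1245 (.leaf (2257, 0, 0)) (.leaf (2259, 0, 0))) (.node 1247 (.leaf (2260, 0, 0)) (.leaf (2262, 0, 0)))))))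

def tEY_39 : BT (ℕ × ℕ × ℕ) := (.node 1264 (.node 1256 (.node 1252 (.node 1250 (.node 1249 (.leaf (2264, 0, 0)) (.leaf (2265, 0, 0))) (.node 1251 (.leaf (279, 31, 12)) (.leaf (632, 254, 47)))) (.node 1254 (.node 1253 (.leaf (2268, 0, 0)) (.leaf (2269, 0, 0))) (.node 1255 (.leaf (2270, 0, 0)) (.leaf (2272, 0, 0))))) (.node 1260 (.node 1258 (.node 1257 (.leaf (2274, 0, 0)) (.leaf (2276, 0, 0))) (.node 1259 (.leaf (2278, 0, 0)) (.leaf (2280, 0, 0)))) (.node 1262 (.node 1261 (.leaf (2282, 0, 0)) (.leaf (2284, 0, 0))) (.node 1263 (.leaf (2286, 0, 0)) (.leaf (2288, 0, 0)))))) (.node 1272 (.node 1268 (.node 1266 (.node 1265 (.leaf (1484, 58, 78)) (.leaf (2291, 0, 0))) (.node 1267 (.leaf (2293, 0, 0)) (.leaf (2090, 236, 82)))) (.node 1270 (.node 1269 (.leaf (2295, 0, 0)) (.leaf (2297, 0, 0))) (.node 1271 (.leaf (481, 216, 39)) (.leaf (2299, 0, 0))))) (.node 1276 (.node 1274 (.node 1273 (.leaf (2301,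 0, 0)) (.leaf (2303, 0, 0))) (.node 1275 (.leaf (2304, 0, 0)) (.leaf (2306, 0, 0)))) (.node 1278 (.node 1277 (.leaf (2308, 0, 0)) (.leaf (1713, 250, 45))) (.node 1279 (.leaf (1426, 19, 29)) (.leaf (2312, 0, 0)))))))

def tEY_40 : BT (ℕ × ℕ × ℕ) := (.node 1296 (.node 1288 (.node 1284 (.node 1282 (.node 1281 (.leaf (1367, 101, 21)) (.leaf (2314, 0, 0))) (.node 1283 (.leaf (1891, 240, 87)) (.leaf (2317, 0, 0)))) (.node 1286 (.node 1285 (.leaf (1093, 108, 43)) (.leaf (2320, 0, 0))) (.node 1287 (.leaf (2, 51, 0)) (.leaf (2323, 0, 0))))) (.node 1292 (.node 1290 (.node 1289 (.leaf (2325, 0, 0)) (.leaf (2326, 0, 0))) (.node 1291 (.leaf (2328, 0, 0)) (.leaf (2330, 0, 0)))) (.node 1294 (.node 1293 (.leaf (2331, 0, 0)) (.leaf (2333, 0, 0))) (.node 1295 (.leaf (2335, 0, 0)) (.leaf (2337, 0, 0)))))) (.node 1304 (.node 1300 (.node 1298 (.node 1297 (.leaf (2339, 0, 0)) (.leaf (2341, 0, 0))) (.node 1299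 (.leaf (2343, 0, 0)) (.leaf (2345, 0, 0)))) (.node 1302 (.node 1301 (.leaf (2347, 0, 0)) (.leaf (1018, 87, 22))) (.node 1303 (.leaf (2349, 0, 0)) (.leaf (2351, 0, 0))))) (.node 1308 (.node 1306 (.node 1305 (.leaf (2025, 55, 32)) (.leaf (2354, 0, 0))) (.node 1307 (.leaf (2356, 0, 0)) (.leaf (617, 248, 85)))) (.node 1310 (.node 1309 (.leaf (2359, 0, 0)) (.leaf (2361, 0, 0))) (.node 1311 (.leaf (2363, 0, 0)) (.leaf (2365, 0, 0)))))))

def tEY_41 : BT (ℕ × ℕ × ℕ) := (.node 1328 (.node 1320 (.node 1316 (.node 1314 (.node 1313 (.leaf (2367, 0, 0)) (.leaf (2369, 0, 0))) (.node 1315 (.leaf (2370, 0, 0)) (.leaf (2372, 0, 0)))) (.node 1318 (.node 1317 (.leaf (2374, 0, 0)) (.leaf (2376, 0, 0))) (.node 1319 (.leaf (2378, 0, 0)) (.leaf (2380, 0, 0))))) (.node 1324 (.node 1322 (.node 1321 (.leaf (2381, 0, 0)) (.leaf (2383, 0, 0))) (.node 1323 (.leaf (2385, 0, 0)) (.leaf (2387, 0, 0)))) (.node 1326 (.node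 1325 (.leaf (2388, 0, 0)) (.leaf (2390, 0, 0))) (.node 1327 (.leaf (2336, 180, 81)) (.leaf (2392, 0, 0)))))) (.node 1336 (.node 1332 (.node 1330 (.node 1329 (.leaf (2394, 0, 0)) (.leaf (2396, 0, 0))) (.node 1331 (.leaf (2398, 0, 0)) (.leaf (2400, 0, 0)))) (.node 1334 (.node 1333 (.leaf (2402, 0, 0)) (.leaf (2404, 0, 0))) (.node 1335 (.leaf (1392, 271, 28)) (.leaf (2407, 0, 0))))) (.node 1340 (.node 1338 (.node 1337 (.leaf (2409, 0, 0)) (.leaf (2411, 0, 0))) (.node 1339 (.leaf (2413, 0, 0)) (.leaf (2415, 0, 0)))) (.node 1342 (.node 1341 (.leaf (2417, 0, 0)) (.leaf (2419, 0, 0))) (.node 1343 (.leaf (2420, 0, 0)) (.leaf (2422, 0, 0)))))))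

def tEY_42 : BT (ℕ × ℕ × ℕ) := (.node 1360 (.node 1352 (.node 1348 (.node 1346 (.node 1345 (.leaf (2424, 0, 0)) (.leaf (2425, 0, 0))) (.node 1347 (.leaf (2427, 0, 0)) (.leaf (2429, 0, 0)))) (.node 1350 (.node 1349 (.leaf (2431, 0, 0)) (.leaf (2433, 0, 0))) (.node 1351 (.leaf (330, 34, 56)) (.leaf (2434, 0, 0))))) (.node 1356 (.node 1354 (.node 1353 (.leaf (2054, 8, 58)) (.leaf (2436, 0, 0))) (.node 1355 (.leaf (2438, 0, 0)) (.leaf (2005, 77, 13)))) (.node 1358 (.node 1357 (.leaf (2441, 0, 0)) (.leaf (2443, 0, 0))) (.node 1359 (.leaf (72, 159, 32)) (.leaf (2446, 0, 0)))))) (.node 1368 (.node 1364 (.node 1362 (.node 1361 (.leaf (2448, 0, 0)) (.leaf (2450, 0, 0))) (.node 1363 (.leaf (138, 205, 76)) (.leaf (2327, 235, 66)))) (.node 1366 (.node 1365 (.leaf (2453, 0, 0)) (.leaf (1951, 101, 52))) (.node 1367 (.leaf (2455, 0, 0)) (.leaf (684, 138, 75))))) (.node 1372 (.node 1370 (.node 1369 (.leaf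 (573, 188, 88)) (.leaf (2458, 0, 0))) (.node 1371 (.leaf (2460, 0, 0)) (.leaf (2462, 0, 0)))) (.node 1374 (.node 1373 (.leaf (2464, 0, 0)) (.leaf (2466, 0, 0))) (.node 1375 (.leaf (1586, 162, 39)) (.leaf (2469, 0, 0)))))))

def tEY_43 : BT (ℕ × ℕ × ℕ) := (.node 1392 (.node 1384 (.node 1380 (.node 1378 (.node 1377 (.leaf (2471, 0, 0)) (.leaf (2243, 260, 51))) (.node 1379 (.leaf (2474, 0, 0)) (.leaf (2475, 0, 0)))) (.node 1382 (.node 1381 (.leaf (2477, 0, 0)) (.leaf (2479, 0, 0))) (.node 1383 (.leaf (2481, 0, 0)) (.leaf (2482, 0, 0))))) (.node 1388 (.node 1386 (.node 1385 (.leaf (1125, 19, 19)) (.leaf (2485, 0, 0))) (.node 1387 (.leaf (2487, 0, 0)) (.leaf (2489, 0, 0)))) (.node 1390 (.node 1389 (.leaf (2491, 0, 0)) (.leaf (2410, 153, 50))) (.node 1391 (.leaf (2494, 0, 0)) (.leaf (2495, 0, 0)))))) (.node 1400 (.node 1396 (.node 1394 (.node 1393 (.leaf (2496, 0, 0)) (.leaf (186, 64, 78))) (.node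 1395 (.leaf (2498, 0, 0)) (.leaf (2500, 0, 0)))) (.node 1398 (.node 1397 (.leaf (2502, 0, 0)) (.leaf (755, 69, 44))) (.node 1399 (.leaf (2504, 0, 0)) (.leaf (20, 97, 38))))) (.node 1404 (.node 1402 (.node 1401 (.leaf (2507, 0, 0)) (.leaf (2509, 0, 0))) (.node 1403 (.leaf (963, 264, 2)) (.leaf (2512, 0, 0)))) (.node 1406 (.node 1405 (.leaf (2514, 0, 0)) (.leaf (2516, 0, 0))) (.node 1407 (.leaf (2517, 0, 0)) (.leaf (2519, 0, 0)))))))

def tEY_44 : BT (ℕ × ℕ × ℕ) := (.node 1424 (.node 1416 (.node 1412 (.node 1410 (.node 1409 (.leaf (2521, 0, 0)) (.leaf (2523, 0, 0))) (.node 1411 (.leaf (666, 180, 65)) (.leaf (2526, 0, 0)))) (.node 1414 (.node 1413 (.leaf (2528, 0, 0)) (.leaf (2530, 0, 0))) (.node 1415 (.leaf (1561, 197, 87)) (.leaf (2531, 0, 0))))) (.node 1420 (.node 1418 (.node 1417 (.leaf (2532, 0, 0)) (.leaf (2534, 0, 0))) (.node 1419 (.leaf (2522, 233, 27)) (.leaf (2537, 0, 0)))) (.node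 1422 (.node 1421 (.leaf (2539, 0, 0)) (.leaf (2541, 0, 0))) (.node 1423 (.leaf (2543, 0, 0)) (.leaf (2111, 227, 86)))))) (.node 1432 (.node 1428 (.node 1426 (.node 1425 (.leaf (1075, 36, 12)) (.leaf (2546, 0, 0))) (.node 1427 (.leaf (2547, 0, 0)) (.leaf (2548, 0, 0)))) (.node 1430 (.node 1429 (.leaf (2550, 0, 0)) (.leaf (2552, 0, 0))) (.node 1431 (.leaf (2554, 0, 0)) (.leaf (2556, 0, 0))))) (.node 1436 (.node 1434 (.node 1433 (.leaf (625, 75, 71)) (.leaf (2559, 0, 0))) (.node 1435 (.leaf (597, 12, 54)) (.leaf (2499, 124, 79)))) (.node 1438 (.node 1437 (.leaf (2527, 39, 85)) (.leaf (2563, 0, 0))) (.node 1439 (.leaf (2564, 0, 0)) (.leaf (2566, 0, 0)))))))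

def tEY_45 : BT (ℕ × ℕ × ℕ) := (.node 1456 (.node 1448 (.node 1444 (.node 1442 (.node 1441 (.leaf (2567, 0, 0)) (.leaf (2569, 0, 0))) (.node 1443 (.leaf (2571, 0, 0)) (.leaf (318, 119, 61)))) (.node 1446 (.node 1445 (.leaf (274, 120, 1)) (.leaf (2575, 0, 0))) (.node 1447 (.leaf (2577, 0, 0)) (.leaf (2579, 0, 0))))) (.node 1452 (.node 1450 (.node 1449 (.leaf (2581, 0, 0)) (.leaf (2583, 0, 0))) (.node 1451 (.leaf (2585, 0, 0)) (.leaf (2586, 0, 0)))) (.node 1454 (.node 1453 (.leaf (170, 266, 89)) (.leaf (2588, 0, 0))) (.node 1455 (.leaf (1507, 190, 41)) (.leaf (2591, 0, 0)))))) (.node 1464 (.node 1460 (.node 1458 (.node 1457 (.leaf (881, 135, 0)) (.leaf (2593, 0, 0))) (.node 1459 (.leaf (1663, 114, 88)) (.leaf (2596, 0, 0)))) (.node 1462 (.node 1461 (.leaf (112, 69, 18)) (.leaf (2598, 0, 0))) (.node 1463 (.leaf (1057, 169, 9)) (.leaf (2600, 0, 0))))) (.node 1468 (.node 1466 (.node 1465 (.leaf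 (2602, 0, 0)) (.leaf (2604, 0, 0))) (.node 1467 (.leaf (2606, 0, 0)) (.leaf (2607, 0, 0)))) (.node 1470 (.node 1469 (.leaf (2609, 0, 0)) (.leaf (2611, 0, 0))) (.node 1471 (.leaf (1402, 142, 58)) (.leaf (2613, 0, 0)))))))

def tEY_46 : BT (ℕ × ℕ × ℕ) := (.node 1488 (.node 1480 (.node 1476 (.node 1474 (.node 1473 (.leaf (2614, 0, 0)) (.leaf (2616, 0, 0))) (.node 1475 (.leaf (2617, 0, 0)) (.leaf (2619, 0, 0)))) (.node 1478 (.node 1477 (.leaf (2621, 0, 0)) (.leaf (2623, 0, 0))) (.node 1479 (.leaf (2625, 0, 0)) (.leaf (1639, 10, 73))))) (.node 1484 (.node 1482 (.node 1481 (.leaf (2627, 0, 0)) (.leaf (2628, 0, 0))) (.node 1483 (.leaf (2630, 0, 0)) (.leaf (2632, 0, 0)))) (.node 1486 (.node 1485 (.leaf (2634, 0, 0)) (.leaf (2636, 0, 0))) (.node 1487 (.leaf (693, 173, 31)) (.leaf (2638, 0, 0)))))) (.node 1496 (.node 1492 (.node 1490 (.node 1489 (.leaf (1375, 16, 7)) (.leaf (2641, 0, 0))) (.node 1491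 (.leaf (2642, 0, 0)) (.leaf (2644, 0, 0)))) (.node 1494 (.node 1493 (.leaf (2646, 0, 0)) (.leaf (2648, 0, 0))) (.node 1495 (.leaf (2649, 0, 0)) (.leaf (2650, 0, 0))))) (.node 1500 (.node 1498 (.node 1497 (.leaf (2652, 0, 0)) (.leaf (2653, 0, 0))) (.node 1499 (.leaf (2655, 0, 0)) (.leaf (2656, 0, 0)))) (.node 1502 (.node 1501 (.leaf (2658, 0, 0)) (.leaf (436, 53, 84))) (.node 1503 (.leaf (2661, 0, 0)) (.leaf (2663, 0, 0)))))))

def tEY_47 : BT (ℕ × ℕ × ℕ) := (.node 1520 (.node 1512 (.node 1508 (.node 1506 (.node 1505 (.leaf (2665, 0, 0)) (.leaf (2666, 0, 0))) (.node 1507 (.leaf (1904, 160, 76)) (.leaf (2668, 0, 0)))) (.node 1510 (.node 1509 (.leaf (2669, 0, 0)) (.leaf (2671, 0, 0))) (.node 1511 (.leaf (2672, 0, 0)) (.leaf (2674, 0, 0))))) (.node 1516 (.node 1514 (.node 1513 (.leaf (1829, 263, 72)) (.leaf (1833, 194, 68))) (.node 1515 (.leaf (2677, 0, 0)) (.leaf (1429, 32, 3)))) (.node 1518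 (.node 1517 (.leaf (2680, 0, 0)) (.leaf (1840, 88, 6))) (.node 1519 (.leaf (842, 108, 60)) (.leaf (239, 269, 78)))))) (.node 1528 (.node 1524 (.node 1522 (.node 1521 (.leaf (2684, 0, 0)) (.leaf (2686, 0, 0))) (.node 1523 (.leaf (2688, 0, 0)) (.leaf (2690, 0, 0)))) (.node 1526 (.node 1525 (.leaf (68, 86, 64)) (.leaf (2693, 0, 0))) (.node 1527 (.leaf (2695, 0, 0)) (.leaf (2696, 0, 0))))) (.node 1532 (.node 1530 (.node 1529 (.leaf (2698, 0, 0)) (.leaf (42, 99, 20))) (.node 1531 (.leaf (530, 232, 16)) (.leaf (1600, 35, 75)))) (.node 1534 (.node 1533 (.leaf (1874, 265, 39)) (.leaf (182, 56, 40))) (.node 1535 (.leaf (2702, 0, 0)) (.leaf (1889, 161, 19)))))))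

def tEY_48 : BT (ℕ × ℕ × ℕ) := (.node 1552 (.node 1544 (.node 1540 (.node 1538 (.node 1537 (.leaf (2599, 171, 12)) (.leaf (2706, 0, 0))) (.node 1539 (.leaf (2708, 0, 0)) (.leaf (2710, 0, 0)))) (.node 1542 (.node 1541 (.leaf (447, 178, 72)) (.leaf (2713, 0, 0))) (.node 1543 (.leaf (2603, 76, 81)) (.leaf (2716, 0, 0))))) (.node 1548 (.node 1546 (.node 1545 (.leaf (483, 28, 20)) (.leaf (2719, 0, 0))) (.node 1547 (.leaf (2721, 0, 0)) (.leaf (2722, 0, 0)))) (.node 1550 (.node 1549 (.leaf (1992, 104, 43)) (.leaf (2725, 0, 0))) (.node 1551 (.leaf (2727, 0, 0)) (.leaf (2729, 0, 0)))))) (.node 1560 (.node 1556 (.node 1554 (.node 1553 (.leaf (2701, 168, 71)) (.leaf (2732, 0, 0))) (.node 1555 (.leaf (2733, 0, 0)) (.leaf (2734, 0, 0)))) (.node 1558 (.node 1557 (.leaf (2735, 0, 0)) (.leaf (2737, 0, 0))) (.node 1559 (.leaf (2739, 0, 0)) (.leaf (2741, 0, 0))))) (.node 1564 (.node 1562 (.node 1561 (.leaf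 (2743, 0, 0)) (.leaf (690, 220, 69))) (.node 1563 (.leaf (2745, 0, 0)) (.leaf (2030, 93, 3)))) (.node 1566 (.node 1565 (.leaf (2505, 32, 57)) (.leaf (2748, 0, 0))) (.node 1567 (.leaf (2750, 0, 0)) (.leaf (522, 98, 31)))))))

def tEY_49 : BT (ℕ × ℕ × ℕ) := (.node 1584 (.node 1576 (.node 1572 (.node 1570 (.node 1569 (.leaf (2752, 0, 0)) (.leaf (2753, 0, 0))) (.node 1571 (.leaf (2754, 0, 0)) (.leaf (2154, 167, 23)))) (.node 1574 (.node 1573 (.leaf (2756, 0, 0)) (.leaf (2758, 0, 0))) (.node 1575 (.leaf (220, 245, 39)) (.leaf (2761, 0, 0))))) (.node 1580 (.node 1578 (.node 1577 (.leaf (2763, 0, 0)) (.leaf (2289, 154, 70))) (.node 1579 (.leaf (2766, 0, 0)) (.leaf (2768, 0, 0)))) (.node 1582 (.node 1581 (.leaf (2770, 0, 0)) (.leaf (2772, 0, 0))) (.node 1583 (.leaf (2774, 0, 0)) (.leaf (2776, 0, 0)))))) (.node 1592 (.node 1588 (.node 1586 (.node 1585 (.leaf (1842, 69, 86)) (.leaf (2533, 144, 77)))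 (.node 1587 (.leaf (2382, 172, 85)) (.leaf (2779, 0, 0)))) (.node 1590 (.node 1589 (.leaf (2780, 0, 0)) (.leaf (2781, 0, 0))) (.node 1591 (.leaf (440, 19, 66)) (.leaf (949, 137, 64))))) (.node 1596 (.node 1594 (.node 1593 (.leaf (2784, 0, 0)) (.leaf (2785, 0, 0))) (.node 1595 (.leaf (1895, 2, 69)) (.leaf (2023, 264, 27)))) (.node 1598 (.node 1597 (.leaf (2787, 0, 0)) (.leaf (2342, 69, 36))) (.node 1599 (.leaf (2790, 0, 0)) (.leaf (2747, 74, 88)))))))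

def tEY_50 : BT (ℕ × ℕ × ℕ) := (.node 1616 (.node 1608 (.node 1604 (.node 1602 (.node 1601 (.leaf (2792, 0, 0)) (.leaf (2794, 0, 0))) (.node 1603 (.leaf (2796, 0, 0)) (.leaf (499, 55, 40)))) (.node 1606 (.node 1605 (.leaf (2798, 0, 0)) (.leaf (2800, 0, 0))) (.node 1607 (.leaf (2802, 0, 0)) (.leaf (2804, 0, 0))))) (.node 1612 (.node 1610 (.node 1609 (.leaf (2806, 0, 0)) (.leaf (2808, 0, 0))) (.node 1611 (.leaf (2809, 0, 0)) (.leaf (2810, 0, 0)))) (.node 1614 (.node 1613 (.leaf (2812, 0, 0)) (.leaf (2814, 0, 0))) (.node 1615 (.leaf (2815, 0, 0)) (.leaf (2492, 28, 44)))))) (.node 1624 (.node 1620 (.node 1618 (.node 1617 (.leaf (2818, 0, 0)) (.leaf (2820, 0, 0))) (.node 1619 (.leaf (2822, 0, 0)) (.leaf (2823, 0, 0)))) (.node 1622 (.node 1621 (.leaf (2825, 0, 0)) (.leaf (2827, 0, 0))) (.node 1623 (.leaf (493, 239, 64)) (.leaf (2829, 0, 0))))) (.node 1628 (.node 1626 (.node 1625 (.leaf (2831,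 0, 0)) (.leaf (850, 118, 21))) (.node 1627 (.leaf (2834, 0, 0)) (.leaf (2835, 0, 0)))) (.node 1630 (.node 1629 (.leaf (2836, 0, 0)) (.leaf (753, 201, 27))) (.node 1631 (.leaf (2838, 0, 0)) (.leaf (2839, 0, 0)))))))

def tEY_51 : BT (ℕ × ℕ × ℕ) := (.node 1648 (.node 1640 (.node 1636 (.node 1634 (.node 1633 (.leaf (2841, 0, 0)) (.leaf (2843, 0, 0))) (.node 1635 (.leaf (2845, 0, 0)) (.leaf (2846, 0, 0)))) (.node 1638 (.node 1637 (.leaf (2847, 0, 0)) (.leaf (1450, 12, 37))) (.node 1639 (.leaf (1119, 208, 52)) (.leaf (2851, 0, 0))))) (.node 1644 (.node 1642 (.node 1641 (.leaf (2853, 0, 0)) (.leaf (2855, 0, 0))) (.node 1643 (.leaf (2857, 0, 0)) (.leaf (2568, 7, 72)))) (.node 1646 (.node 1645 (.leaf (102, 162, 31)) (.leaf (2859, 0, 0))) (.node 1647 (.leaf (1642, 60, 10)) (.leaf (2862, 0, 0)))))) (.node 1656 (.node 1652 (.node 1650 (.node 1649 (.leaf (2864, 0, 0)) (.leaf (2866, 0, 0))) (.node 1651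 (.leaf (2868, 0, 0)) (.leaf (2870, 0, 0)))) (.node 1654 (.node 1653 (.leaf (2872, 0, 0)) (.leaf (2874, 0, 0))) (.node 1655 (.leaf (2875, 0, 0)) (.leaf (1177, 55, 49))))) (.node 1660 (.node 1658 (.node 1657 (.leaf (2878, 0, 0)) (.leaf (22, 3, 51))) (.node 1659 (.leaf (2881, 0, 0)) (.leaf (2863, 67, 10)))) (.node 1662 (.node 1661 (.leaf (2689, 226, 21)) (.leaf (2884, 0, 0))) (.node 1663 (.leaf (2886, 0, 0)) (.leaf (1139, 43, 4)))))))

def tEY_52 : BT (ℕ × ℕ × ℕ) := (.node 1680 (.node 1672 (.node 1668 (.node 1666 (.node 1665 (.leaf (2888, 0, 0)) (.leaf (2890, 0, 0))) (.node 1667 (.leaf (2891, 0, 0)) (.leaf (2893, 0, 0)))) (.node 1670 (.node 1669 (.leaf (2895, 0, 0)) (.leaf (2897, 0, 0))) (.node 1671 (.leaf (549, 164, 14)) (.leaf (2900, 0, 0))))) (.node 1676 (.node 1674 (.node 1673 (.leaf (2901, 0, 0)) (.leaf (2903, 0, 0))) (.node 1675 (.leaf (2904, 0, 0)) (.leaf (390, 19, 28)))) (.node 1678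 (.node 1677 (.leaf (2906, 0, 0)) (.leaf (2908, 0, 0))) (.node 1679 (.leaf (2082, 231, 69)) (.leaf (2911, 0, 0)))))) (.node 1688 (.node 1684 (.node 1682 (.node 1681 (.leaf (2913, 0, 0)) (.leaf (2914, 0, 0))) (.node 1683 (.leaf (2916, 0, 0)) (.leaf (2918, 0, 0)))) (.node 1686 (.node 1685 (.leaf (2920, 0, 0)) (.leaf (2922, 0, 0))) (.node 1687 (.leaf (174, 76, 50)) (.leaf (2924, 0, 0))))) (.node 1692 (.node 1690 (.node 1689 (.leaf (2925, 0, 0)) (.leaf (2926, 0, 0))) (.node 1691 (.leaf (2928, 0, 0)) (.leaf (2930, 0, 0)))) (.node 1694 (.node 1693 (.leaf (2931, 0, 0)) (.leaf (1430, 196, 6))) (.node 1695 (.leaf (2933, 0, 0)) (.leaf (2935, 0, 0)))))))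

def tEY_53 : BT (ℕ × ℕ × ℕ) := (.node 1712 (.node 1704 (.node 1700 (.node 1698 (.node 1697 (.leaf (2936, 0, 0)) (.leaf (2938, 0, 0))) (.node 1699 (.leaf (2940, 0, 0)) (.leaf (2329, 158, 39)))) (.node 1702 (.node 1701 (.leaf (2942, 0, 0)) (.leaf (2943, 0, 0))) (.node 1703 (.leaf (2945, 0, 0)) (.leaf (2947, 0, 0))))) (.node 1708 (.node 1706 (.node 1705 (.leaf (2948, 0, 0)) (.leaf (989, 201, 77))) (.node 1707 (.leaf (2951, 0, 0)) (.leaf (2726, 203, 50)))) (.node 1710 (.node 1709 (.leaf (1870, 64, 78)) (.leaf (939, 209, 26))) (.node 1711 (.leaf (2919, 37, 72)) (.leaf (1680, 20, 7)))))) (.node 1720 (.node 1716 (.node 1714 (.node 1713 (.leaf (997, 77, 86)) (.leaf (2957, 0, 0))) (.node 1715 (.leaf (2959, 0, 0)) (.leaf (2961, 0, 0)))) (.node 1718 (.node 1717 (.leaf (2963, 0, 0)) (.leaf (1688, 14, 47))) (.node 1719 (.leaf (1228, 54, 6)) (.leaf (1512, 124, 47))))) (.node 1724 (.node 1722 (.node 1721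 (.leaf (2968, 0, 0)) (.leaf (2969, 0, 0))) (.node 1723 (.leaf (2970, 0, 0)) (.leaf (2972, 0, 0)))) (.node 1726 (.node 1725 (.leaf (2974, 0, 0)) (.leaf (1007, 227, 22))) (.node 1727 (.leaf (1137, 117, 4)) (.leaf (2977, 0, 0)))))))

def tEY_54 : BT (ℕ × ℕ × ℕ) := (.node 1744 (.node 1736 (.node 1732 (.node 1730 (.node 1729 (.leaf (2978, 0, 0)) (.leaf (2098, 120, 0))) (.node 1731 (.leaf (2980, 0, 0)) (.leaf (2981, 0, 0)))) (.node 1734 (.node 1733 (.leaf (2983, 0, 0)) (.leaf (2985, 0, 0))) (.node 1735 (.leaf (2987, 0, 0)) (.leaf (701, 220, 35))))) (.node 1740 (.node 1738 (.node 1737 (.leaf (2990, 0, 0)) (.leaf (2992, 0, 0))) (.node 1739 (.leaf (2994, 0, 0)) (.leaf (2996, 0, 0)))) (.node 1742 (.node 1741 (.leaf (2997, 0, 0)) (.leaf (2998, 0, 0))) (.node 1743 (.leaf (3000, 0, 0)) (.leaf (3002, 0, 0)))))) (.node 1752 (.node 1748 (.node 1746 (.node 1745 (.leaf (3004, 0, 0)) (.leaf (2592, 204, 8)))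 (.node 1747 (.leaf (3006, 0, 0)) (.leaf (3008, 0, 0)))) (.node 1750 (.node 1749 (.leaf (674, 63, 54)) (.leaf (3010, 0, 0))) (.node 1751 (.leaf (3012, 0, 0)) (.leaf (3014, 0, 0))))) (.node 1756 (.node 1754 (.node 1753 (.leaf (2767, 20, 84)) (.leaf (3016, 0, 0))) (.node 1755 (.leaf (3018, 0, 0)) (.leaf (1079, 199, 0)))) (.node 1758 (.node 1757 (.leaf (3021, 0, 0)) (.leaf (3023, 0, 0))) (.node 1759 (.leaf (3025, 0, 0)) (.leaf (3027, 0, 0)))))))

def tEY_55 : BT (ℕ × ℕ × ℕ) := (.node 1776 (.node 1768 (.node 1764 (.node 1762 (.node 1761 (.leaf (3028, 0, 0)) (.leaf (2954, 231, 6))) (.node 1763 (.leaf (1530, 44, 44)) (.leaf (1446, 213, 68)))) (.node 1766 (.node 1765 (.leaf (3032, 0, 0)) (.leaf (3033, 0, 0))) (.node 1767 (.leaf (3035, 0, 0)) (.leaf (3036, 0, 0))))) (.node 1772 (.node 1770 (.node 1769 (.leaf (247, 88, 85)) (.leaf (3038, 0, 0))) (.node 1771 (.leaf (3040, 0, 0)) (.leaf (3042, 0, 0))))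 (.node 1774 (.node 1773 (.leaf (3044, 0, 0)) (.leaf (2246, 240, 71))) (.node 1775 (.leaf (3046, 0, 0)) (.leaf (3047, 0, 0)))))) (.node 1784 (.node 1780 (.node 1778 (.node 1777 (.leaf (1271, 228, 36)) (.leaf (3049, 0, 0))) (.node 1779 (.leaf (3051, 0, 0)) (.leaf (3053, 0, 0)))) (.node 1782 (.node 1781 (.leaf (3020, 8, 55)) (.leaf (3055, 0, 0))) (.node 1783 (.leaf (2549, 210, 32)) (.leaf (3058, 0, 0))))) (.node 1788 (.node 1786 (.node 1785 (.leaf (3060, 0, 0)) (.leaf (3062, 0, 0))) (.node 1787 (.leaf (3064, 0, 0)) (.leaf (928, 237, 52)))) (.node 1790 (.node 1789 (.leaf (3067, 0, 0)) (.leaf (2562, 148, 4))) (.node 1791 (.leaf (3070, 0, 0)) (.leaf (1462, 135, 48)))))))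

def tEY_56 : BT (ℕ × ℕ × ℕ) := (.node 1808 (.node 1800 (.node 1796 (.node 1794 (.node 1793 (.leaf (3072, 0, 0)) (.leaf (1897, 30, 0))) (.node 1795 (.leaf (2965, 234, 58)) (.leaf (873, 88, 46)))) (.node 1798 (.node 1797 (.leaf (3075, 0, 0)) (.leaf (3077, 0, 0))) (.node 1799 (.leaf (3078, 0, 0)) (.leaf (200, 132, 44))))) (.node 1804 (.node 1802 (.node 1801 (.leaf (833, 173, 41)) (.leaf (3080, 0, 0))) (.node 1803 (.leaf (3082, 0, 0)) (.leaf (3084, 0, 0)))) (.node 1806 (.node 1805 (.leaf (3085, 0, 0)) (.leaf (3086, 0, 0))) (.node 1807 (.leaf (3087, 0, 0)) (.leaf (3089, 0, 0)))))) (.node 1816 (.node 1812 (.node 1810 (.node 1809 (.leaf (769, 237, 25)) (.leaf (3092, 0, 0))) (.node 1811 (.leaf (3094, 0, 0)) (.leaf (3095, 0, 0)))) (.node 1814 (.node 1813 (.leaf (2142, 243, 8)) (.leaf (3096, 0, 0))) (.node 1815 (.leaf (3098, 0, 0)) (.leaf (429, 247, 53))))) (.node 1820 (.node 1818 (.node 1817 (.leaf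 (3100, 0, 0)) (.leaf (1327, 103, 56))) (.node 1819 (.leaf (3102, 0, 0)) (.leaf (3104, 0, 0)))) (.node 1822 (.node 1821 (.leaf (3106, 0, 0)) (.leaf (3107, 0, 0))) (.node 1823 (.leaf (3109, 0, 0)) (.leaf (2211, 241, 6)))))))

def tEY_57 : BT (ℕ × ℕ × ℕ) := (.node 1840 (.node 1832 (.node 1828 (.node 1826 (.node 1825 (.leaf (3112, 0, 0)) (.leaf (3114, 0, 0))) (.node 1827 (.leaf (2989, 114, 45)) (.leaf (3117, 0, 0)))) (.node 1830 (.node 1829 (.leaf (1925, 113, 43)) (.leaf (3120, 0, 0))) (.node 1831 (.leaf (3122, 0, 0)) (.leaf (3124, 0, 0))))) (.node 1836 (.node 1834 (.node 1833 (.leaf (1942, 54, 78)) (.leaf (2640, 197, 88))) (.node 1835 (.leaf (3128, 0, 0)) (.leaf (2285, 114, 61)))) (.node 1838 (.node 1837 (.leaf (270, 216, 29)) (.leaf (3029, 207, 39))) (.node 1839 (.leaf (1544, 51, 77)) (.leaf (3133, 0, 0)))))) (.node 1848 (.node 1844 (.node 1842 (.node 1841 (.leaf (443, 62, 47)) (.leaf (3136,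 0, 0))) (.node 1843 (.leaf (2731, 118, 67)) (.leaf (3139, 0, 0)))) (.node 1846 (.node 1845 (.leaf (1516, 53, 15)) (.leaf (3142, 0, 0))) (.node 1847 (.leaf (3144, 0, 0)) (.leaf (3145, 0, 0))))) (.node 1852 (.node 1850 (.node 1849 (.leaf (3147, 0, 0)) (.leaf (1665, 135, 80))) (.node 1851 (.leaf (3149, 0, 0)) (.leaf (2976, 164, 8)))) (.node 1854 (.node 1853 (.leaf (3150, 0, 0)) (.leaf (3152, 0, 0))) (.node 1855 (.leaf (3153, 0, 0)) (.leaf (3154, 0, 0)))))))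

def tEY_58 : BT (ℕ × ℕ × ℕ) := (.node 1872 (.node 1864 (.node 1860 (.node 1858 (.node 1857 (.leaf (3155, 0, 0)) (.leaf (3157, 0, 0))) (.node 1859 (.leaf (3159, 0, 0)) (.leaf (3160, 0, 0)))) (.node 1862 (.node 1861 (.leaf (3162, 0, 0)) (.leaf (3163, 0, 0))) (.node 1863 (.leaf (3165, 0, 0)) (.leaf (3167, 0, 0))))) (.node 1868 (.node 1866 (.node 1865 (.leaf (3168, 0, 0)) (.leaf (3170, 0, 0))) (.node 1867 (.leaf (3172, 0, 0)) (.leaf (3174, 0, 0)))) (.node 1870 (.node 1869 (.leaf (3176, 0, 0)) (.leaf (2612, 88, 43))) (.node 1871 (.leaf (3177, 0, 0)) (.leaf (3179, 0, 0)))))) (.node 1880 (.node 1876 (.node 1874 (.node 1873 (.leaf (3181, 0, 0)) (.leaf (1432, 261, 89))) (.node 1875 (.leaf (2445, 53, 74)) (.leaf (1239, 89, 60)))) (.node 1878 (.node 1877 (.leaf (3185, 0, 0)) (.leaf (3186, 0, 0))) (.node 1879 (.leaf (3187, 0, 0)) (.leaf (3189, 0, 0))))) (.node 1884 (.node 1882 (.node 1881 (.leaf (509,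 96, 52)) (.leaf (1501, 115, 71))) (.node 1883 (.leaf (3192, 0, 0)) (.leaf (3194, 0, 0)))) (.node 1886 (.node 1885 (.leaf (773, 109, 12)) (.leaf (2578, 58, 54))) (.node 1887 (.leaf (204, 44, 22)) (.leaf (3198, 0, 0)))))))

def tEY_59 : BT (ℕ × ℕ × ℕ) := (.node 1904 (.node 1896 (.node 1892 (.node 1890 (.node 1889 (.leaf (3200, 0, 0)) (.leaf (3202, 0, 0))) (.node 1891 (.leaf (3203, 0, 0)) (.leaf (1935, 118, 86)))) (.node 1894 (.node 1893 (.leaf (724, 76, 29)) (.leaf (3205, 0, 0))) (.node 1895 (.leaf (3207, 0, 0)) (.leaf (1851, 44, 14))))) (.node 1900 (.node 1898 (.node 1897 (.leaf (3209, 0, 0)) (.leaf (16, 179, 54))) (.node 1899 (.leaf (1191, 48, 66)) (.leaf (3213, 0, 0)))) (.node 1902 (.node 1901 (.leaf (3214, 0, 0)) (.leaf (1442, 12, 80))) (.node 1903 (.leaf (3216, 0, 0)) (.leaf (2744, 57, 28)))))) (.node 1912 (.node 1908 (.node 1906 (.node 1905 (.leaf (30, 94, 44)) (.leaf (2166, 194, 87)))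 (.node 1907 (.leaf (1334, 70, 49)) (.leaf (3183, 17, 15)))) (.node 1910 (.node 1909 (.leaf (3222, 0, 0)) (.leaf (3224, 0, 0))) (.node 1911 (.leaf (3069, 69, 46)) (.leaf (3227, 0, 0))))) (.node 1916 (.node 1914 (.node 1913 (.leaf (3228, 0, 0)) (.leaf (1750, 164, 25))) (.node 1915 (.leaf (3230, 0, 0)) (.leaf (1754, 226, 6)))) (.node 1918 (.node 1917 (.leaf (2915, 139, 72)) (.leaf (3233, 0, 0))) (.node 1919 (.leaf (3235, 0, 0)) (.leaf (3236, 0, 0)))))))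

def tEY_60 : BT (ℕ × ℕ × ℕ) := (.node 1936 (.node 1928 (.node 1924 (.node 1922 (.node 1921 (.leaf (3238, 0, 0)) (.leaf (3240, 0, 0))) (.node 1923 (.leaf (2865, 62, 36)) (.leaf (3243, 0, 0)))) (.node 1926 (.node 1925 (.leaf (3245, 0, 0)) (.leaf (3246, 0, 0))) (.node 1927 (.leaf (795, 19, 73)) (.leaf (3249, 0, 0))))) (.node 1932 (.node 1930 (.node 1929 (.leaf (3251, 0, 0)) (.leaf (3253, 0, 0))) (.node 1931 (.leaf (1458, 244, 13)) (.leaf (1154, 28, 53)))) (.node 1934 (.node 1933 (.leaf (3256, 0, 0)) (.leaf (3258, 0, 0))) (.node 1935 (.leaf (3260, 0, 0)) (.leaf (2705, 252, 25)))))) (.node 1944 (.node 1940 (.node 1938 (.node 1937 (.leaf (3262, 0, 0)) (.leaf (3264, 0, 0))) (.node 1939 (.leaf (2015, 249, 58)) (.leaf (638, 164, 17)))) (.node 1942 (.node 1941 (.leaf (3266, 0, 0)) (.leaf (3268, 0, 0))) (.node 1943 (.leaf (2167, 195, 62)) (.leaf (1847, 112, 38))))) (.node 1948 (.node 1946 (.node 1945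 (.leaf (3269, 0, 0)) (.leaf (2209, 110, 57))) (.node 1947 (.leaf (3271, 0, 0)) (.leaf (3273, 0, 0)))) (.node 1950 (.node 1949 (.leaf (3274, 0, 0)) (.leaf (3276, 0, 0))) (.node 1951 (.leaf (3278, 0, 0)) (.leaf (3280, 0, 0)))))))

def tEY_61 : BT (ℕ × ℕ × ℕ) := (.node 1968 (.node 1960 (.node 1956 (.node 1954 (.node 1953 (.leaf (3281, 0, 0)) (.leaf (2717, 44, 34))) (.node 1955 (.leaf (2430, 263, 39)) (.leaf (3284, 0, 0)))) (.node 1958 (.node 1957 (.leaf (3285, 0, 0)) (.leaf (2346, 184, 11))) (.node 1959 (.leaf (2403, 270, 68)) (.leaf (1061, 144, 85))))) (.node 1964 (.node 1962 (.node 1961 (.leaf (3288, 0, 0)) (.leaf (2217, 85, 15))) (.node 1963 (.leaf (3291, 0, 0)) (.leaf (836, 238, 27)))) (.node 1966 (.node 1965 (.leaf (3294, 0, 0)) (.leaf (3296, 0, 0))) (.node 1967 (.leaf (3298, 0, 0)) (.leaf (3299, 0, 0)))))) (.node 1976 (.node 1972 (.node 1970 (.node 1969 (.leaf (2395, 85, 78)) (.leaf (2139,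 222, 62))) (.node 1971 (.leaf (3300, 0, 0)) (.leaf (943, 106, 82)))) (.node 1974 (.node 1973 (.leaf (2979, 107, 37)) (.leaf (2850, 148, 81))) (.node 1975 (.leaf (3305, 0, 0)) (.leaf (3307, 0, 0))))) (.node 1980 (.node 1978 (.node 1977 (.leaf (3308, 0, 0)) (.leaf (3309, 0, 0))) (.node 1979 (.leaf (3311, 0, 0)) (.leaf (3313, 0, 0)))) (.node 1982 (.node 1981 (.leaf (1729, 141, 31)) (.leaf (3314, 0, 0))) (.node 1983 (.leaf (3316, 0, 0)) (.leaf (3318, 0, 0)))))))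

def tEY_62 : BT (ℕ × ℕ × ℕ) := (.node 2000 (.node 1992 (.node 1988 (.node 1986 (.node 1985 (.leaf (3320, 0, 0)) (.leaf (3322, 0, 0))) (.node 1987 (.leaf (3323, 0, 0)) (.leaf (3325, 0, 0)))) (.node 1990 (.node 1989 (.leaf (937, 57, 42)) (.leaf (3328, 0, 0))) (.node 1991 (.leaf (1095, 0, 62)) (.leaf (288, 236, 16))))) (.node 1996 (.node 1994 (.node 1993 (.leaf (2220, 186, 51)) (.leaf (922, 73, 30))) (.node 1995 (.leaf (3333, 0, 0)) (.leaf (3335, 0, 0)))) (.node 1998 (.node 1997 (.leaf (3337, 0, 0)) (.leaf (3339, 0, 0))) (.node 1999 (.leaf (3341, 0, 0)) (.leaf (2149, 244, 34)))))) (.node 2008 (.node 2004 (.node 2002 (.node 2001 (.leaf (1009, 269, 3)) (.leaf (1861, 5, 26))) (.node 2003 (.leaf (3344, 0, 0)) (.leaf (3345, 0, 0)))) (.node 2006 (.node 2005 (.leaf (3347, 0, 0)) (.leaf (3349, 0, 0))) (.node 2007 (.leaf (1700, 118, 4)) (.leaf (257, 248, 64))))) (.node 2012 (.node 2010 (.node 2009 (.leaf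 (2707, 133, 88)) (.leaf (3353, 0, 0))) (.node 2011 (.leaf (3355, 0, 0)) (.leaf (2506, 140, 50)))) (.node 2014 (.node 2013 (.leaf (3317, 229, 38)) (.leaf (1757, 146, 51))) (.node 2015 (.leaf (3359, 0, 0)) (.leaf (3361, 0, 0)))))))

def tEY_63 : BT (ℕ × ℕ × ℕ) := (.node 2032 (.node 2024 (.node 2020 (.node 2018 (.node 2017 (.leaf (3363, 0, 0)) (.leaf (3365, 0, 0))) (.node 2019 (.leaf (636, 199, 29)) (.leaf (3367, 0, 0)))) (.node 2022 (.node 2021 (.leaf (2921, 73, 39)) (.leaf (1261, 36, 84))) (.node 2023 (.leaf (3369, 0, 0)) (.leaf (3037, 131, 49))))) (.node 2028 (.node 2026 (.node 2025 (.leaf (3372, 0, 0)) (.leaf (3373, 0, 0))) (.node 2027 (.leaf (2738, 4, 43)) (.leaf (3375, 0, 0)))) (.node 2030 (.node 2029 (.leaf (3377, 0, 0)) (.leaf (3378, 0, 0))) (.node 2031 (.leaf (3379, 0, 0)) (.leaf (3380, 0, 0)))))) (.node 2040 (.node 2036 (.node 2034 (.node 2033 (.leaf (3381, 0, 0)) (.leaf (3382, 0,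 0))) (.node 2035 (.leaf (3384, 0, 0)) (.leaf (1059, 86, 75)))) (.node 2038 (.node 2037 (.leaf (3386, 0, 0)) (.leaf (3388, 0, 0))) (.node 2039 (.leaf (3390, 0, 0)) (.leaf (3392, 0, 0))))) (.node 2044 (.node 2042 (.node 2041 (.leaf (2946, 107, 40)) (.leaf (2525, 28, 84))) (.node 2043 (.leaf (3394, 0, 0)) (.leaf (3395, 0, 0)))) (.node 2046 (.node 2045 (.leaf (1592, 162, 21)) (.leaf (3396, 0, 0))) (.node 2047 (.leaf (3398, 0, 0)) (.leaf (3399, 0, 0)))))))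

def tEY_64 : BT (ℕ × ℕ × ℕ) := (.node 2064 (.node 2056 (.node 2052 (.node 2050 (.node 2049 (.leaf (3400, 0, 0)) (.leaf (3401, 0, 0))) (.node 2051 (.leaf (3402, 0, 0)) (.leaf (3403, 0, 0)))) (.node 2054 (.node 2053 (.leaf (3404, 0, 0)) (.leaf (3406, 0, 0))) (.node 2055 (.leaf (136, 53, 50)) (.leaf (3409, 0, 0))))) (.node 2060 (.node 2058 (.node 2057 (.leaf (359, 267, 38)) (.leaf (160, 148, 48))) (.node 2059 (.leaf (1934, 270, 41)) (.leaf (3412, 0, 0)))) (.node 2062 (.node 2061 (.leaf (3414, 0, 0)) (.leaf (1414, 243, 58))) (.node 2063 (.leaf (3416, 0, 0)) (.leaf (3418, 0, 0)))))) (.node 2072 (.node 2068 (.node 2066 (.node 2065 (.leaf (3420, 0, 0)) (.leaf (3421, 0, 0))) (.node 2067 (.leaf (3422, 0, 0)) (.leaf (3424, 0, 0)))) (.node 2070 (.node 2069 (.leaf (2858, 87, 12)) (.leaf (3290, 73, 21))) (.node 2071 (.leaf (206, 267, 68)) (.leaf (3427, 0, 0))))) (.node 2076 (.node 2074 (.node 2073 (.leaf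 (3429, 0, 0)) (.leaf (3431, 0, 0))) (.node 2075 (.leaf (857, 8, 37)) (.leaf (999, 155, 3)))) (.node 2078 (.node 2077 (.leaf (3434, 0, 0)) (.leaf (3436, 0, 0))) (.node 2079 (.leaf (1218, 119, 28)) (.leaf (2185, 172, 19)))))))

def tEY_65 : BT (ℕ × ℕ × ℕ) := (.node 2096 (.node 2088 (.node 2084 (.node 2082 (.node 2081 (.leaf (1790, 140, 76)) (.leaf (3439, 0, 0))) (.node 2083 (.leaf (3440, 0, 0)) (.leaf (3442, 0, 0)))) (.node 2086 (.node 2085 (.leaf (3444, 0, 0)) (.leaf (3445, 0, 0))) (.node 2087 (.leaf (3129, 220, 35)) (.leaf (3448, 0, 0))))) (.node 2092 (.node 2090 (.node 2089 (.leaf (574, 221, 18)) (.leaf (3450, 0, 0))) (.node 2091 (.leaf (3452, 0, 0)) (.leaf (2267, 75, 18)))) (.node 2094 (.node 2093 (.leaf (3454, 0, 0)) (.leaf (419, 256, 53))) (.node 2095 (.leaf (2917, 31, 20)) (.leaf (3458, 0, 0)))))) (.node 2104 (.node 2100 (.node 2098 (.node 2097 (.leaf (3460, 0, 0)) (.leaf (3462, 0, 0)))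 (.node 2099 (.leaf (2079, 109, 65)) (.leaf (3465, 0, 0)))) (.node 2102 (.node 2101 (.leaf (3467, 0, 0)) (.leaf (3469, 0, 0))) (.node 2103 (.leaf (2171, 42, 58)) (.leaf (3472, 0, 0))))) (.node 2108 (.node 2106 (.node 2105 (.leaf (3474, 0, 0)) (.leaf (786, 120, 76))) (.node 2107 (.leaf (3477, 0, 0)) (.leaf (3479, 0, 0)))) (.node 2110 (.node 2109 (.leaf (1025, 34, 41)) (.leaf (3481, 0, 0))) (.node 2111 (.leaf (3483, 0, 0)) (.leaf (3485, 0, 0)))))))

def tEY_66 : BT (ℕ × ℕ × ℕ) := (.node 2128 (.node 2120 (.node 2116 (.node 2114 (.node 2113 (.leaf (3487, 0, 0)) (.leaf (3489, 0, 0))) (.node 2115 (.leaf (3491, 0, 0)) (.leaf (3493, 0, 0)))) (.node 2118 (.node 2117 (.leaf (2371, 55, 84)) (.leaf (3354, 125, 13))) (.node 2119 (.leaf (328, 10, 41)) (.leaf (3497, 0, 0))))) (.node 2124 (.node 2122 (.node 2121 (.leaf (3499, 0, 0)) (.leaf (3500, 0, 0))) (.node 2123 (.leaf (993, 208, 33)) (.leaf (2168, 93,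 65)))) (.node 2126 (.node 2125 (.leaf (3502, 0, 0)) (.leaf (505, 261, 54))) (.node 2127 (.leaf (3259, 27, 88)) (.leaf (2313, 135, 1)))))) (.node 2136 (.node 2132 (.node 2130 (.node 2129 (.leaf (3505, 0, 0)) (.leaf (3506, 0, 0))) (.node 2131 (.leaf (3508, 0, 0)) (.leaf (3509, 0, 0)))) (.node 2134 (.node 2133 (.leaf (3511, 0, 0)) (.leaf (3512, 0, 0))) (.node 2135 (.leaf (3514, 0, 0)) (.leaf (3515, 0, 0))))) (.node 2140 (.node 2138 (.node 2137 (.leaf (3516, 0, 0)) (.leaf (3517, 0, 0))) (.node 2139 (.leaf (3519, 0, 0)) (.leaf (2844, 42, 52)))) (.node 2142 (.node 2141 (.leaf (3522, 0, 0)) (.leaf (1784, 79, 10))) (.node 2143 (.leaf (3523, 0, 0)) (.leaf (1990, 64, 50)))))))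

def tEY_67 : BT (ℕ × ℕ × ℕ) := (.node 2160 (.node 2152 (.node 2148 (.node 2146 (.node 2145 (.leaf (3524, 0, 0)) (.leaf (357, 28, 86))) (.node 2147 (.leaf (3526, 0, 0)) (.leaf (1998, 17, 88)))) (.node 2150 (.node 2149 (.leaf (2807, 10, 25)) (.leaf (3215, 228, 74))) (.node 2151 (.leaf (2757, 19, 27)) (.leaf (3529, 0, 0))))) (.node 2156 (.node 2154 (.node 2153 (.leaf (2357, 146, 17)) (.leaf (3532, 0, 0))) (.node 2155 (.leaf (2316, 198, 0)) (.leaf (3535, 0, 0)))) (.node 2158 (.node 2157 (.leaf (3537, 0, 0)) (.leaf (3538, 0, 0))) (.node 2159 (.leaf (1342, 39, 36)) (.leaf (2352, 101, 35)))))) (.node 2168 (.node 2164 (.node 2162 (.node 2161 (.leaf (3540, 0, 0)) (.leaf (2021, 225, 56))) (.node 2163 (.leaf (1856, 40, 43)) (.leaf (2700, 66, 87)))) (.node 2166 (.node 2165 (.leaf (1355, 163, 82)) (.leaf (2032, 256, 19))) (.node 2167 (.leaf (3546, 0, 0)) (.leaf (3548, 0, 0))))) (.node 2172 (.node 2170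 (.node 2169 (.leaf (3550, 0, 0)) (.leaf (3552, 0, 0))) (.node 2171 (.leaf (3554, 0, 0)) (.leaf (3555, 0, 0)))) (.node 2174 (.node 2173 (.leaf (3557, 0, 0)) (.leaf (3559, 0, 0))) (.node 2175 (.leaf (3561, 0, 0)) (.leaf (3563, 0, 0)))))))

def tEY_68 : BT (ℕ × ℕ × ℕ) := (.node 2192 (.node 2184 (.node 2180 (.node 2178 (.node 2177 (.leaf (3564, 0, 0)) (.leaf (3565, 0, 0))) (.node 2179 (.leaf (3566, 0, 0)) (.leaf (3567, 0, 0)))) (.node 2182 (.node 2181 (.leaf (3569, 0, 0)) (.leaf (3571, 0, 0))) (.node 2183 (.leaf (3572, 0, 0)) (.leaf (3573, 0, 0))))) (.node 2188 (.node 2186 (.node 2185 (.leaf (3575, 0, 0)) (.leaf (3577, 0, 0))) (.node 2187 (.leaf (192, 264, 32)) (.leaf (1622, 202, 73)))) (.node 2190 (.node 2189 (.leaf (3417, 196, 72)) (.leaf (3581, 0, 0))) (.node 2191 (.leaf (2842, 86, 38)) (.leaf (2773, 68, 44)))))) (.node 2200 (.node 2196 (.node 2194 (.node 2193 (.leaf (3585, 0, 0)) (.leaf (3587,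 0, 0))) (.node 2195 (.leaf (2508, 155, 5)) (.leaf (3588, 0, 0)))) (.node 2198 (.node 2197 (.leaf (445, 189, 25)) (.leaf (565, 262, 75))) (.node 2199 (.leaf (861, 35, 5)) (.leaf (3592, 0, 0))))) (.node 2204 (.node 2202 (.node 2201 (.leaf (3594, 0, 0)) (.leaf (3596, 0, 0))) (.node 2203 (.leaf (1698, 63, 7)) (.leaf (3599, 0, 0)))) (.node 2206 (.node 2205 (.leaf (2408, 234, 3)) (.leaf (3602, 0, 0))) (.node 2207 (.leaf (2988, 98, 85)) (.leaf (2007, 162, 79)))))))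

def tEY_69 : BT (ℕ × ℕ × ℕ) := (.node 2224 (.node 2216 (.node 2212 (.node 2210 (.node 2209 (.leaf (241, 83, 49)) (.leaf (2046, 155, 59))) (.node 2211 (.leaf (3606, 0, 0)) (.leaf (1534, 178, 16)))) (.node 2214 (.node 2213 (.leaf (3608, 0, 0)) (.leaf (3609, 0, 0))) (.node 2215 (.leaf (2910, 39, 10)) (.leaf (3611, 0, 0))))) (.node 2220 (.node 2218 (.node 2217 (.leaf (1, 0, 0)) (.leaf (3613, 0, 0))) (.node 2219 (.leaf (563, 205, 85)) (.leaf (3616, 0, 0)))) (.node 2222 (.node 2221 (.leaf (3617, 0, 0)) (.leaf (3618, 0, 0))) (.node 2223 (.leaf (1216, 62, 59)) (.leaf (3195, 34, 7)))))) (.node 2232 (.node 2228 (.node 2226 (.node 2225 (.leaf (3622, 0, 0)) (.leaf (3623, 0, 0))) (.node 2227 (.leaf (3625, 0, 0)) (.leaf (3627, 0, 0)))) (.node 2230 (.node 2229 (.leaf (3629, 0, 0)) (.leaf (3631, 0, 0))) (.node 2231 (.leaf (3632, 0, 0)) (.leaf (2105, 245, 80))))) (.node 2236 (.node 2234 (.node 2233 (.leaf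 (3634, 0, 0)) (.leaf (3636, 0, 0))) (.node 2235 (.leaf (2907, 12, 40)) (.leaf (3639, 0, 0)))) (.node 2238 (.node 2237 (.leaf (670, 132, 34)) (.leaf (1105, 145, 80))) (.node 2239 (.leaf (3642, 0, 0)) (.leaf (2852, 224, 33)))))))

def tEY_70 : BT (ℕ × ℕ × ℕ) := (.node 2256 (.node 2248 (.node 2244 (.node 2242 (.node 2241 (.leaf (1887, 94, 81)) (.leaf (3645, 0, 0))) (.node 2243 (.leaf (3647, 0, 0)) (.leaf (3649, 0, 0)))) (.node 2246 (.node 2245 (.leaf (3650, 0, 0)) (.leaf (3652, 0, 0))) (.node 2247 (.leaf (3653, 0, 0)) (.leaf (2520, 161, 32))))) (.node 2252 (.node 2250 (.node 2249 (.leaf (3656, 0, 0)) (.leaf (3658, 0, 0))) (.node 2251 (.leaf (3659, 0, 0)) (.leaf (3371, 191, 19)))) (.node 2254 (.node 2253 (.leaf (3662, 0, 0)) (.leaf (3663, 0, 0))) (.node 2255 (.leaf (3665, 0, 0)) (.leaf (3666, 0, 0)))))) (.node 2264 (.node 2260 (.node 2258 (.node 2257 (.leaf (3667, 0, 0)) (.leaf (3669, 0, 0)))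 (.node 2259 (.leaf (3671, 0, 0)) (.leaf (3673, 0, 0)))) (.node 2262 (.node 2261 (.leaf (3013, 173, 28)) (.leaf (3675, 0, 0))) (.node 2263 (.leaf (3676, 0, 0)) (.leaf (3677, 0, 0))))) (.node 2268 (.node 2266 (.node 2265 (.leaf (3679, 0, 0)) (.leaf (1550, 202, 30))) (.node 2267 (.leaf (3682, 0, 0)) (.leaf (2223, 43, 74)))) (.node 2270 (.node 2269 (.leaf (3684, 0, 0)) (.leaf (3685, 0, 0))) (.node 2271 (.leaf (2723, 81, 7)) (.leaf (3688, 0, 0)))))))

def tEY_71 : BT (ℕ × ℕ × ℕ) := (.node 2288 (.node 2280 (.node 2276 (.node 2274 (.node 2273 (.leaf (2704, 104, 43)) (.leaf (995, 124, 54))) (.node 2275 (.leaf (372, 63, 32)) (.leaf (3693, 0, 0)))) (.node 2278 (.node 2277 (.leaf (3695, 0, 0)) (.leaf (3696, 0, 0))) (.node 2279 (.leaf (1351, 182, 30)) (.leaf (3698, 0, 0))))) (.node 2284 (.node 2282 (.node 2281 (.leaf (3700, 0, 0)) (.leaf (3702, 0, 0))) (.node 2283 (.leaf (3703, 0, 0)) (.leaf (1030, 66,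 63)))) (.node 2286 (.node 2285 (.leaf (3706, 0, 0)) (.leaf (2960, 242, 11))) (.node 2287 (.leaf (1478, 74, 8)) (.leaf (3708, 0, 0)))))) (.node 2296 (.node 2292 (.node 2290 (.node 2289 (.leaf (3709, 0, 0)) (.leaf (2657, 7, 85))) (.node 2291 (.leaf (477, 143, 58)) (.leaf (3304, 86, 11)))) (.node 2294 (.node 2293 (.leaf (3711, 0, 0)) (.leaf (3713, 0, 0))) (.node 2295 (.leaf (1546, 232, 18)) (.leaf (3715, 0, 0))))) (.node 2300 (.node 2298 (.node 2297 (.leaf (3717, 0, 0)) (.leaf (3718, 0, 0))) (.node 2299 (.leaf (3720, 0, 0)) (.leaf (3475, 94, 26)))) (.node 2302 (.node 2301 (.leaf (3722, 0, 0)) (.leaf (3724, 0, 0))) (.node 2303 (.leaf (1552, 64, 1)) (.leaf (3726, 0, 0)))))))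

def tEY_72 : BT (ℕ × ℕ × ℕ) := (.node 2320 (.node 2312 (.node 2308 (.node 2306 (.node 2305 (.leaf (2412, 186, 54)) (.leaf (3727, 0, 0))) (.node 2307 (.leaf (3275, 62, 26)) (.leaf (3729, 0, 0)))) (.node 2310 (.node 2309 (.leaf (3731, 0, 0)) (.leaf (3733, 0, 0))) (.node 2311 (.leaf (3734, 0, 0)) (.leaf (3736, 0, 0))))) (.node 2316 (.node 2314 (.node 2313 (.leaf (3738, 0, 0)) (.leaf (3740, 0, 0))) (.node 2315 (.leaf (3741, 0, 0)) (.leaf (3742, 0, 0)))) (.node 2318 (.node 2317 (.leaf (3744, 0, 0)) (.leaf (3745, 0, 0))) (.node 2319 (.leaf (3747, 0, 0)) (.leaf (3248, 63, 32)))))) (.node 2328 (.node 2324 (.node 2322 (.node 2321 (.leaf (2570, 240, 26)) (.leaf (3749, 0, 0))) (.node 2323 (.leaf (3750, 0, 0)) (.leaf (268, 55, 63)))) (.node 2326 (.node 2325 (.leaf (1509, 246, 24)) (.leaf (3753, 0, 0))) (.node 2327 (.leaf (778, 137, 28)) (.leaf (3755, 0, 0))))) (.node 2332 (.node 2330 (.node 2329 (.leaf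 (3603, 221, 58)) (.leaf (1906, 161, 26))) (.node 2331 (.leaf (3757, 0, 0)) (.leaf (3758, 0, 0)))) (.node 2334 (.node 2333 (.leaf (3759, 0, 0)) (.leaf (3760, 0, 0))) (.node 2335 (.leaf (3761, 0, 0)) (.leaf (3763, 0, 0)))))))

def tEY_73 : BT (ℕ × ℕ × ℕ) := (.node 2352 (.node 2344 (.node 2340 (.node 2338 (.node 2337 (.leaf (3765, 0, 0)) (.leaf (455, 234, 35))) (.node 2339 (.leaf (3768, 0, 0)) (.leaf (3769, 0, 0)))) (.node 2342 (.node 2341 (.leaf (3771, 0, 0)) (.leaf (3772, 0, 0))) (.node 2343 (.leaf (3774, 0, 0)) (.leaf (3775, 0, 0))))) (.node 2348 (.node 2346 (.node 2345 (.leaf (1067, 47, 72)) (.leaf (3777, 0, 0))) (.node 2347 (.leaf (3779, 0, 0)) (.leaf (3781, 0, 0)))) (.node 2350 (.node 2349 (.leaf (3782, 0, 0)) (.leaf (978, 190, 0))) (.node 2351 (.leaf (3783, 0, 0)) (.leaf (3785, 0, 0)))))) (.node 2360 (.node 2356 (.node 2354 (.node 2353 (.leaf (3787, 0, 0)) (.leaf (3788, 0, 0))) (.node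 2355 (.leaf (3790, 0, 0)) (.leaf (1863, 147, 4)))) (.node 2358 (.node 2357 (.leaf (3793, 0, 0)) (.leaf (3795, 0, 0))) (.node 2359 (.leaf (3796, 0, 0)) (.leaf (3798, 0, 0))))) (.node 2364 (.node 2362 (.node 2361 (.leaf (3800, 0, 0)) (.leaf (3802, 0, 0))) (.node 2363 (.leaf (3804, 0, 0)) (.leaf (2152, 58, 67)))) (.node 2366 (.node 2365 (.leaf (3806, 0, 0)) (.leaf (3808, 0, 0))) (.node 2367 (.leaf (364, 239, 0)) (.leaf (3810, 0, 0)))))))

def tEY_74 : BT (ℕ × ℕ × ℕ) := (.node 2384 (.node 2376 (.node 2372 (.node 2370 (.node 2369 (.leaf (3812, 0, 0)) (.leaf (3814, 0, 0))) (.node 2371 (.leaf (3816, 0, 0)) (.leaf (3818, 0, 0)))) (.node 2374 (.node 2373 (.leaf (3820, 0, 0)) (.leaf (3551, 256, 62))) (.node 2375 (.leaf (3823, 0, 0)) (.leaf (3824, 0, 0))))) (.node 2380 (.node 2378 (.node 2377 (.leaf (3825, 0, 0)) (.leaf (892, 202, 7))) (.node 2379 (.leaf (1233, 188, 48)) (.leaf (3826, 0, 0)))) (.node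 2382 (.node 2381 (.leaf (3828, 0, 0)) (.leaf (3435, 164, 60))) (.node 2383 (.leaf (3830, 0, 0)) (.leaf (3832, 0, 0)))))) (.node 2392 (.node 2388 (.node 2386 (.node 2385 (.leaf (466, 13, 66)) (.leaf (3833, 0, 0))) (.node 2387 (.leaf (3834, 0, 0)) (.leaf (3835, 0, 0)))) (.node 2390 (.node 2389 (.leaf (580, 56, 4)) (.leaf (3319, 251, 25))) (.node 2391 (.leaf (2147, 137, 2)) (.leaf (3838, 0, 0))))) (.node 2396 (.node 2394 (.node 2393 (.leaf (2813, 19, 47)) (.leaf (1762, 165, 80))) (.node 2395 (.leaf (3175, 124, 9)) (.leaf (3841, 0, 0)))) (.node 2398 (.node 2397 (.leaf (3843, 0, 0)) (.leaf (3844, 0, 0))) (.node 2399 (.leaf (3846, 0, 0)) (.leaf (3847, 0, 0)))))))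

def tEY_75 : BT (ℕ × ℕ × ℕ) := (.node 2416 (.node 2408 (.node 2404 (.node 2402 (.node 2401 (.leaf (3849, 0, 0)) (.leaf (3851, 0, 0))) (.node 2403 (.leaf (1636, 167, 25)) (.leaf (3852, 0, 0)))) (.node 2406 (.node 2405 (.leaf (3854, 0, 0)) (.leaf (3856, 0, 0))) (.node 2407 (.leaf (3858, 0, 0)) (.leaf (2176, 187, 79))))) (.node 2412 (.node 2410 (.node 2409 (.leaf (3860, 0, 0)) (.leaf (3861, 0, 0))) (.node 2411 (.leaf (3862, 0, 0)) (.leaf (3863, 0, 0)))) (.node 2414 (.node 2413 (.leaf (3719, 144, 14)) (.leaf (3866, 0, 0))) (.node 2415 (.leaf (3868, 0, 0)) (.leaf (3870, 0, 0)))))) (.node 2424 (.node 2420 (.node 2418 (.node 2417 (.leaf (3358, 268, 12)) (.leaf (413, 104, 53))) (.node 2419 (.leaf (2435, 30, 87)) (.leaf (3873, 0, 0)))) (.node 2422 (.node 2421 (.leaf (3875, 0, 0)) (.leaf (3876, 0, 0))) (.node 2423 (.leaf (3792, 194, 36)) (.leaf (611, 251, 4))))) (.node 2428 (.node 2426 (.node 2425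 (.leaf (3180, 218, 12)) (.leaf (3879, 0, 0))) (.node 2427 (.leaf (3880, 0, 0)) (.leaf (3882, 0, 0)))) (.node 2430 (.node 2429 (.leaf (2173, 53, 73)) (.leaf (3270, 157, 48))) (.node 2431 (.leaf (3640, 149, 41)) (.leaf (3886, 0, 0)))))))

def tEY_76 : BT (ℕ × ℕ × ℕ) := (.node 2448 (.node 2440 (.node 2436 (.node 2434 (.node 2433 (.leaf (3888, 0, 0)) (.leaf (3889, 0, 0))) (.node 2435 (.leaf (3498, 8, 59)) (.leaf (1536, 198, 6)))) (.node 2438 (.node 2437 (.leaf (1947, 8, 34)) (.leaf (3892, 0, 0))) (.node 2439 (.leaf (3894, 0, 0)) (.leaf (3895, 0, 0))))) (.node 2444 (.node 2442 (.node 2441 (.leaf (1489, 125, 18)) (.leaf (2676, 248, 39))) (.node 2443 (.leaf (3898, 0, 0)) (.leaf (2811, 235, 14)))) (.node 2446 (.node 2445 (.leaf (3900, 0, 0)) (.leaf (2470, 37, 71))) (.node 2447 (.leaf (3901, 0, 0)) (.leaf (3902, 0, 0)))))) (.node 2456 (.node 2452 (.node 2450 (.node 2449 (.leaf (3265, 257, 41)) (.leaf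 (3905, 0, 0))) (.node 2451 (.leaf (3906, 0, 0)) (.leaf (50, 70, 30)))) (.node 2454 (.node 2453 (.leaf (1620, 107, 60)) (.leaf (3910, 0, 0))) (.node 2455 (.leaf (3911, 0, 0)) (.leaf (3913, 0, 0))))) (.node 2460 (.node 2458 (.node 2457 (.leaf (3914, 0, 0)) (.leaf (2135, 11, 79))) (.node 2459 (.leaf (3915, 0, 0)) (.leaf (3916, 0, 0)))) (.node 2462 (.node 2461 (.leaf (3918, 0, 0)) (.leaf (2545, 257, 19))) (.node 2463 (.leaf (3921, 0, 0)) (.leaf (3923, 0, 0)))))))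

def tEY_77 : BT (ℕ × ℕ × ℕ) := (.node 2480 (.node 2472 (.node 2468 (.node 2466 (.node 2465 (.leaf (501, 244, 32)) (.leaf (3926, 0, 0))) (.node 2467 (.leaf (3928, 0, 0)) (.leaf (3929, 0, 0)))) (.node 2470 (.node 2469 (.leaf (3827, 125, 45)) (.leaf (3932, 0, 0))) (.node 2471 (.leaf (3934, 0, 0)) (.leaf (3391, 224, 12))))) (.node 2476 (.node 2474 (.node 2473 (.leaf (3135, 147, 73)) (.leaf (3936, 0, 0))) (.node 2475 (.leaf (3938, 0, 0)) (.leaf (3940, 0, 0)))) (.node 2478 (.node 2477 (.leaf (2892, 232, 42)) (.leaf (3619, 153, 34))) (.node 2479 (.leaf (2321, 164, 78)) (.leaf (1398, 199, 26)))))) (.node 2488 (.node 2484 (.node 2482 (.node 2481 (.leaf (3944, 0, 0)) (.leaf (3946, 0, 0))) (.node 2483 (.leaf (3947, 0, 0)) (.leaf (3949, 0, 0)))) (.node 2486 (.node 2485 (.leaf (3951, 0, 0)) (.leaf (3953, 0, 0))) (.node 2487 (.leaf (3954, 0, 0)) (.leaf (3956, 0, 0))))) (.node 2492 (.node 2490 (.node 2489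 (.leaf (3689, 198, 70)) (.leaf (3959, 0, 0))) (.node 2491 (.leaf (3960, 0, 0)) (.leaf (3961, 0, 0)))) (.node 2494 (.node 2493 (.leaf (3614, 238, 50)) (.leaf (3964, 0, 0))) (.node 2495 (.leaf (3965, 0, 0)) (.leaf (3967, 0, 0)))))))

def tEY_78 : BT (ℕ × ℕ × ℕ) := (.node 2512 (.node 2504 (.node 2500 (.node 2498 (.node 2497 (.leaf (945, 122, 1)) (.leaf (3969, 0, 0))) (.node 2499 (.leaf (2081, 30, 56)) (.leaf (3366, 234, 3)))) (.node 2502 (.node 2501 (.leaf (3971, 0, 0)) (.leaf (1706, 165, 15))) (.node 2503 (.leaf (2795, 159, 8)) (.leaf (3974, 0, 0))))) (.node 2508 (.node 2506 (.node 2505 (.leaf (3976, 0, 0)) (.leaf (3978, 0, 0))) (.node 2507 (.leaf (514, 165, 46)) (.leaf (3981, 0, 0)))) (.node 2510 (.node 2509 (.leaf (1460, 36, 77)) (.leaf (2667, 259, 57))) (.node 2511 (.leaf (2651, 268, 66)) (.leaf (3985, 0, 0)))))) (.node 2520 (.node 2516 (.node 2514 (.node 2513 (.leaf (1038, 161, 51)) (.leaf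 (1099, 35, 72))) (.node 2515 (.leaf (3987, 0, 0)) (.leaf (3778, 260, 54)))) (.node 2518 (.node 2517 (.leaf (3989, 0, 0)) (.leaf (3991, 0, 0))) (.node 2519 (.leaf (3993, 0, 0)) (.leaf (3995, 0, 0))))) (.node 2524 (.node 2522 (.node 2521 (.leaf (3272, 260, 18)) (.leaf (3997, 0, 0))) (.node 2523 (.leaf (3999, 0, 0)) (.leaf (2389, 264, 26)))) (.node 2526 (.node 2525 (.leaf (712, 104, 58)) (.leaf (4002, 0, 0))) (.node 2527 (.leaf (491, 131, 86)) (.leaf (4005, 0, 0)))))))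

def tEY_79 : BT (ℕ × ℕ × ℕ) := (.node 2544 (.node 2536 (.node 2532 (.node 2530 (.node 2529 (.leaf (4006, 0, 0)) (.leaf (4008, 0, 0))) (.node 2531 (.leaf (3615, 241, 80)) (.leaf (4010, 0, 0)))) (.node 2534 (.node 2533 (.leaf (1248, 128, 82)) (.leaf (619, 234, 72))) (.node 2535 (.leaf (4012, 0, 0)) (.leaf (4014, 0, 0))))) (.node 2540 (.node 2538 (.node 2537 (.leaf (4016, 0, 0)) (.leaf (4, 109, 80))) (.node 2539 (.leaf (2465, 8, 14)) (.leaf (4019, 0, 0)))) (.node 2542 (.node 2541 (.leaf (4021, 0, 0)) (.leaf (4023, 0, 0))) (.node 2543 (.leaf (4024, 0, 0)) (.leaf (1238, 152, 61)))))) (.node 2552 (.node 2548 (.node 2546 (.node 2545 (.leaf (4027, 0, 0)) (.leaf (4029, 0, 0))) (.node 2547 (.leaf (1678, 36, 84)) (.leaf (3678, 28, 21)))) (.node 2550 (.node 2549 (.leaf (4032, 0, 0)) (.leaf (2573, 61, 13))) (.node 2551 (.leaf (3221, 131, 72)) (.leaf (4036, 0, 0))))) (.node 2556 (.node 2554 (.node 2553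 (.leaf (3962, 216, 73)) (.leaf (761, 88, 8))) (.node 2555 (.leaf (917, 126, 39)) (.leaf (2871, 91, 74)))) (.node 2558 (.node 2557 (.leaf (4041, 0, 0)) (.leaf (4042, 0, 0))) (.node 2559 (.leaf (2746, 2, 31)) (.leaf (4044, 0, 0)))))))

def tEY_80 : BT (ℕ × ℕ × ℕ) := (.node 2576 (.node 2568 (.node 2564 (.node 2562 (.node 2561 (.leaf (4045, 0, 0)) (.leaf (4046, 0, 0))) (.node 2563 (.leaf (4048, 0, 0)) (.leaf (3859, 54, 18)))) (.node 2566 (.node 2565 (.leaf (4050, 0, 0)) (.leaf (4051, 0, 0))) (.node 2567 (.leaf (4052, 0, 0)) (.leaf (4054, 0, 0))))) (.node 2572 (.node 2570 (.node 2569 (.leaf (4055, 0, 0)) (.leaf (4057, 0, 0))) (.node 2571 (.leaf (4058, 0, 0)) (.leaf (487, 219, 42)))) (.node 2574 (.node 2573 (.leaf (3357, 11, 48)) (.leaf (4061, 0, 0))) (.node 2575 (.leaf (4063, 0, 0)) (.leaf (142, 216, 47)))))) (.node 2584 (.node 2580 (.node 2578 (.node 2577 (.leaf (3903, 87, 77)) (.leaf (4065,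 0, 0))) (.node 2579 (.leaf (3803, 57, 69)) (.leaf (4067, 0, 0)))) (.node 2582 (.node 2581 (.leaf (4069, 0, 0)) (.leaf (2762, 131, 81))) (.node 2583 (.leaf (4072, 0, 0)) (.leaf (4074, 0, 0))))) (.node 2588 (.node 2586 (.node 2585 (.leaf (4076, 0, 0)) (.leaf (982, 220, 70))) (.node 2587 (.leaf (4078, 0, 0)) (.leaf (4080, 0, 0)))) (.node 2590 (.node 2589 (.leaf (457, 2, 0)) (.leaf (2207, 203, 52))) (.node 2591 (.leaf (4083, 0, 0)) (.leaf (2432, 240, 9)))))))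

def tEY_81 : BT (ℕ × ℕ × ℕ) := (.node 2608 (.node 2600 (.node 2596 (.node 2594 (.node 2593 (.leaf (3079, 62, 32)) (.leaf (4086, 0, 0))) (.node 2595 (.leaf (853, 147, 36)) (.leaf (4087, 0, 0)))) (.node 2598 (.node 2597 (.leaf (4088, 0, 0)) (.leaf (1444, 173, 55))) (.node 2599 (.leaf (4090, 0, 0)) (.leaf (790, 53, 10))))) (.node 2604 (.node 2602 (.node 2601 (.leaf (4093, 0, 0)) (.leaf (4095, 0, 0))) (.node 2603 (.leaf (4097, 0, 0)) (.leaf (1465, 143, 46)))) (.node 2606 (.node 2605 (.leaf (4100, 0, 0)) (.leaf (4101, 0, 0))) (.node 2607 (.leaf (4103, 0, 0)) (.leaf (4105, 0, 0)))))) (.node 2616 (.node 2612 (.node 2610 (.node 2609 (.leaf (4107, 0, 0)) (.leaf (532, 103, 20))) (.node 2611 (.leaf (4108, 0, 0)) (.leaf (4110, 0, 0)))) (.node 2614 (.node 2613 (.leaf (4111, 0, 0)) (.leaf (4113, 0, 0))) (.node 2615 (.leaf (2830, 171, 1)) (.leaf (4115, 0, 0))))) (.node 2620 (.node 2618 (.node 2617 (.leaf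 (2949, 62, 45)) (.leaf (4117, 0, 0))) (.node 2619 (.leaf (4118, 0, 0)) (.leaf (3011, 218, 34)))) (.node 2622 (.node 2621 (.leaf (3507, 74, 27)) (.leaf (4121, 0, 0))) (.node 2623 (.leaf (4122, 0, 0)) (.leaf (4123, 0, 0)))))))

def tEY_82 : BT (ℕ × ℕ × ℕ) := (.node 2640 (.node 2632 (.node 2628 (.node 2626 (.node 2625 (.leaf (1615, 167, 82)) (.leaf (4126, 0, 0))) (.node 2627 (.leaf (4127, 0, 0)) (.leaf (4128, 0, 0)))) (.node 2630 (.node 2629 (.leaf (4130, 0, 0)) (.leaf (4132, 0, 0))) (.node 2631 (.leaf (3017, 205, 24)) (.leaf (3464, 30, 18))))) (.node 2636 (.node 2634 (.node 2633 (.leaf (4134, 0, 0)) (.leaf (4135, 0, 0))) (.node 2635 (.leaf (2324, 231, 30)) (.leaf (4137, 0, 0)))) (.node 2638 (.node 2637 (.leaf (3383, 208, 24)) (.leaf (4092, 112, 65))) (.node 2639 (.leaf (4139, 0, 0)) (.leaf (4141, 0, 0)))))) (.node 2648 (.node 2644 (.node 2642 (.node 2641 (.leaf (4143, 0, 0)) (.leaf (1746, 149,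 35))) (.node 2643 (.leaf (2212, 163, 67)) (.leaf (3244, 219, 9)))) (.node 2646 (.node 2645 (.leaf (1331, 142, 69)) (.leaf (2292, 109, 52))) (.node 2647 (.leaf (4148, 0, 0)) (.leaf (543, 242, 81))))) (.node 2652 (.node 2650 (.node 2649 (.leaf (4151, 0, 0)) (.leaf (4153, 0, 0))) (.node 2651 (.leaf (4155, 0, 0)) (.leaf (8, 8, 41)))) (.node 2654 (.node 2653 (.leaf (4156, 0, 0)) (.leaf (4158, 0, 0))) (.node 2655 (.leaf (3937, 90, 30)) (.leaf (3692, 143, 6)))))))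

def tEY_83 : BT (ℕ × ℕ × ℕ) := (.node 2672 (.node 2664 (.node 2660 (.node 2658 (.node 2657 (.leaf (4161, 0, 0)) (.leaf (4163, 0, 0))) (.node 2659 (.leaf (3063, 97, 24)) (.leaf (2524, 66, 46)))) (.node 2662 (.node 2661 (.leaf (4167, 0, 0)) (.leaf (3661, 0, 48))) (.node 2663 (.leaf (4169, 0, 0)) (.leaf (3885, 77, 86))))) (.node 2668 (.node 2666 (.node 2665 (.leaf (4171, 0, 0)) (.leaf (2909, 264, 19))) (.node 2667 (.leaf (1953, 141, 4)) (.leaf (4174, 0, 0)))) (.node 2670 (.node 2669 (.leaf (4176, 0, 0)) (.leaf (2106, 35, 5))) (.node 2671 (.leaf (4178, 0, 0)) (.leaf (4180, 0, 0)))))) (.node 2680 (.node 2676 (.node 2674 (.node 2673 (.leaf (2444, 209, 88)) (.leaf (2973, 77, 5))) (.node 2675 (.leaf (4184, 0, 0)) (.leaf (4186, 0, 0)))) (.node 2678 (.node 2677 (.leaf (2056, 216, 16)) (.leaf (4187, 0, 0))) (.node 2679 (.leaf (3924, 215, 21)) (.leaf (4188, 0, 0))))) (.node 2684 (.node 2682 (.node 2681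 (.leaf (4189, 0, 0)) (.leaf (4190, 0, 0))) (.node 2683 (.leaf (2685, 17, 15)) (.leaf (4192, 0, 0)))) (.node 2686 (.node 2685 (.leaf (4194, 0, 0)) (.leaf (4195, 0, 0))) (.node 2687 (.leaf (792, 148, 86)) (.leaf (4196, 0, 0)))))))

def tEY_84 : BT (ℕ × ℕ × ℕ) := (.node 2704 (.node 2696 (.node 2692 (.node 2690 (.node 2689 (.leaf (4198, 0, 0)) (.leaf (1696, 252, 85))) (.node 2691 (.leaf (4200, 0, 0)) (.leaf (586, 109, 25)))) (.node 2694 (.node 2693 (.leaf (243, 168, 4)) (.leaf (4203, 0, 0))) (.node 2695 (.leaf (4204, 0, 0)) (.leaf (555, 100, 71))))) (.node 2700 (.node 2698 (.node 2697 (.leaf (2645, 132, 71)) (.leaf (4208, 0, 0))) (.node 2699 (.leaf (4210, 0, 0)) (.leaf (4211, 0, 0)))) (.node 2702 (.node 2701 (.leaf (4213, 0, 0)) (.leaf (757, 269, 44))) (.node 2703 (.leaf (4215, 0, 0)) (.leaf (4216, 0, 0)))))) (.node 2712 (.node 2708 (.node 2706 (.node 2705 (.leaf (3975, 167, 29)) (.leaf (507,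 69, 70))) (.node 2707 (.leaf (104, 28, 51)) (.leaf (957, 209, 23)))) (.node 2710 (.node 2709 (.leaf (4221, 0, 0)) (.leaf (4223, 0, 0))) (.node 2711 (.leaf (4225, 0, 0)) (.leaf (70, 66, 18))))) (.node 2716 (.node 2714 (.node 2713 (.leaf (4227, 0, 0)) (.leaf (4218, 37, 9))) (.node 2715 (.leaf (4229, 0, 0)) (.leaf (1682, 149, 32)))) (.node 2718 (.node 2717 (.leaf (4230, 0, 0)) (.leaf (4232, 0, 0))) (.node 2719 (.leaf (4234, 0, 0)) (.leaf (2476, 140, 35)))))))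

def tEY_85 : BT (ℕ × ℕ × ℕ) := (.node 2736 (.node 2728 (.node 2724 (.node 2722 (.node 2721 (.leaf (2805, 118, 30)) (.leaf (2551, 208, 70))) (.node 2723 (.leaf (4237, 0, 0)) (.leaf (4238, 0, 0)))) (.node 2726 (.node 2725 (.leaf (2373, 182, 48)) (.leaf (4240, 0, 0))) (.node 2727 (.leaf (3110, 157, 84)) (.leaf (1972, 14, 62))))) (.node 2732 (.node 2730 (.node 2729 (.leaf (4242, 0, 0)) (.leaf (4244, 0, 0))) (.node 2731 (.leaf (4246, 0, 0)) (.leaf (4248, 0, 0)))) (.node 2734 (.node 2733 (.leaf (1987, 197, 86)) (.leaf (3480, 1, 65))) (.node 2735 (.leaf (4250, 0, 0)) (.leaf (4251, 0, 0)))))) (.node 2744 (.node 2740 (.node 2738 (.node 2737 (.leaf (4253, 0, 0)) (.leaf (3626, 84, 28))) (.node 2739 (.leaf (4255, 0, 0)) (.leaf (4256, 0, 0)))) (.node 2742 (.node 2741 (.leaf (4258, 0, 0)) (.leaf (4260, 0, 0))) (.node 2743 (.leaf (4262, 0, 0)) (.leaf (4263, 0, 0))))) (.node 2748 (.node 2746 (.node 2745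 (.leaf (3770, 193, 89)) (.leaf (627, 103, 48))) (.node 2747 (.leaf (1660, 67, 34)) (.leaf (4268, 0, 0)))) (.node 2750 (.node 2749 (.leaf (4270, 0, 0)) (.leaf (4272, 0, 0))) (.node 2751 (.leaf (3486, 171, 42)) (.leaf (4274, 0, 0)))))))

def tEY_86 : BT (ℕ × ℕ × ℕ) := (.node 2768 (.node 2760 (.node 2756 (.node 2754 (.node 2753 (.leaf (4275, 0, 0)) (.leaf (1089, 11, 14))) (.node 2755 (.leaf (3586, 186, 41)) (.leaf (4277, 0, 0)))) (.node 2758 (.node 2757 (.leaf (1526, 172, 33)) (.leaf (14, 5, 43))) (.node 2759 (.leaf (4280, 0, 0)) (.leaf (4282, 0, 0))))) (.node 2764 (.node 2762 (.node 2761 (.leaf (4283, 0, 0)) (.leaf (4284, 0, 0))) (.node 2763 (.leaf (4286, 0, 0)) (.leaf (4287, 0, 0)))) (.node 2766 (.node 2765 (.leaf (4288, 0, 0)) (.leaf (4038, 271, 87))) (.node 2767 (.leaf (2119, 25, 78)) (.leaf (2062, 40, 13)))))) (.node 2776 (.node 2772 (.node 2770 (.node 2769 (.leaf (4291, 0, 0)) (.leaf (4293,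 0, 0))) (.node 2771 (.leaf (2966, 114, 70)) (.leaf (1193, 208, 51)))) (.node 2774 (.node 2773 (.leaf (3351, 263, 40)) (.leaf (553, 0, 69))) (.node 2775 (.leaf (4297, 0, 0)) (.leaf (2040, 195, 3))))) (.node 2780 (.node 2778 (.node 2777 (.leaf (4299, 0, 0)) (.leaf (4301, 0, 0))) (.node 2779 (.leaf (4302, 0, 0)) (.leaf (4303, 0, 0)))) (.node 2782 (.node 2781 (.leaf (2605, 187, 40)) (.leaf (3786, 8, 5))) (.node 2783 (.leaf (3767, 255, 45)) (.leaf (4307, 0, 0)))))))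

def tEY_87 : BT (ℕ × ℕ × ℕ) := (.node 2800 (.node 2792 (.node 2788 (.node 2786 (.node 2785 (.leaf (2664, 111, 62)) (.leaf (2117, 6, 47))) (.node 2787 (.leaf (3257, 165, 69)) (.leaf (1161, 41, 33)))) (.node 2790 (.node 2789 (.leaf (4309, 0, 0)) (.leaf (4310, 0, 0))) (.node 2791 (.leaf (4312, 0, 0)) (.leaf (4314, 0, 0))))) (.node 2796 (.node 2794 (.node 2793 (.leaf (4316, 0, 0)) (.leaf (4317, 0, 0))) (.node 2795 (.leaf (1801, 234, 35)) (.leaf (4319, 0, 0)))) (.node 2798 (.node 2797 (.leaf (3408, 118, 78)) (.leaf (4320, 0, 0))) (.node 2799 (.leaf (4321, 0, 0)) (.leaf (4322, 0, 0)))))) (.node 2808 (.node 2804 (.node 2802 (.node 2801 (.leaf (3050, 265, 74)) (.leaf (3451, 128, 18))) (.node 2803 (.leaf (2241, 78, 0)) (.leaf (4164, 108, 71)))) (.node 2806 (.node 2805 (.leaf (2660, 58, 89)) (.leaf (128, 214, 31))) (.node 2807 (.leaf (4327, 0, 0)) (.leaf (3433, 9, 5))))) (.node 2812 (.node 2810 (.node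 2809 (.leaf (58, 214, 5)) (.leaf (4328, 0, 0))) (.node 2811 (.leaf (4329, 0, 0)) (.leaf (3536, 67, 13)))) (.node 2814 (.node 2813 (.leaf (4331, 0, 0)) (.leaf (4332, 0, 0))) (.node 2815 (.leaf (4334, 0, 0)) (.leaf (216, 76, 50)))))))

def tEY_88 : BT (ℕ × ℕ × ℕ) := (.node 2832 (.node 2824 (.node 2820 (.node 2818 (.node 2817 (.leaf (1065, 117, 6)) (.leaf (4336, 0, 0))) (.node 2819 (.leaf (4337, 0, 0)) (.leaf (166, 60, 68)))) (.node 2822 (.node 2821 (.leaf (276, 173, 36)) (.leaf (4341, 0, 0))) (.node 2823 (.leaf (3302, 139, 71)) (.leaf (4343, 0, 0))))) (.node 2828 (.node 2826 (.node 2825 (.leaf (2905, 64, 69)) (.leaf (1296, 144, 25))) (.node 2827 (.leaf (4345, 0, 0)) (.leaf (4347, 0, 0)))) (.node 2830 (.node 2829 (.leaf (851, 2, 25)) (.leaf (4350, 0, 0))) (.node 2831 (.leaf (4352, 0, 0)) (.leaf (4353, 0, 0)))))) (.node 2840 (.node 2836 (.node 2834 (.node 2833 (.leaf (110, 55, 32)) (.leaf (4356,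 0, 0))) (.node 2835 (.leaf (4357, 0, 0)) (.leaf (1938, 231, 28)))) (.node 2838 (.node 2837 (.leaf (4358, 0, 0)) (.leaf (4359, 0, 0))) (.node 2839 (.leaf (4360, 0, 0)) (.leaf (2854, 221, 78))))) (.node 2844 (.node 2842 (.node 2841 (.leaf (4009, 167, 11)) (.leaf (2662, 56, 53))) (.node 2843 (.leaf (4326, 196, 74)) (.leaf (4363, 0, 0)))) (.node 2846 (.node 2845 (.leaf (251, 249, 34)) (.leaf (4365, 0, 0))) (.node 2847 (.leaf (4366, 0, 0)) (.leaf (4368, 0, 0)))))))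

def tEY_89 : BT (ℕ × ℕ × ℕ) := (.node 2864 (.node 2856 (.node 2852 (.node 2850 (.node 2849 (.leaf (4370, 0, 0)) (.leaf (4372, 0, 0))) (.node 2851 (.leaf (4373, 0, 0)) (.leaf (4374, 0, 0)))) (.node 2854 (.node 2853 (.leaf (4112, 192, 49)) (.leaf (1786, 176, 61))) (.node 2855 (.leaf (3031, 256, 89)) (.leaf (4378, 0, 0))))) (.node 2860 (.node 2858 (.node 2857 (.leaf (4380, 0, 0)) (.leaf (4382, 0, 0))) (.node 2859 (.leaf (4383, 0, 0)) (.leaf (4022, 156, 50)))) (.node 2862 (.node 2861 (.leaf (4386, 0, 0)) (.leaf (4388, 0, 0))) (.node 2863 (.leaf (4390, 0, 0)) (.leaf (3015, 177, 22)))))) (.node 2872 (.node 2868 (.node 2866 (.node 2865 (.leaf (2263, 148, 77)) (.leaf (4393, 0, 0))) (.node 2867 (.leaf (3593, 93, 58)) (.leaf (3547, 91, 88)))) (.node 2870 (.node 2869 (.leaf (4394, 0, 0)) (.leaf (4396, 0, 0))) (.node 2871 (.leaf (4397, 0, 0)) (.leaf (4398, 0, 0))))) (.node 2876 (.node 2874 (.node 2873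 (.leaf (1390, 102, 40)) (.leaf (4400, 0, 0))) (.node 2875 (.leaf (407, 207, 21)) (.leaf (2536, 39, 43)))) (.node 2878 (.node 2877 (.leaf (4403, 0, 0)) (.leaf (1032, 128, 12))) (.node 2879 (.leaf (3983, 44, 15)) (.leaf (3752, 220, 3)))))))

def tEY_90 : BT (ℕ × ℕ × ℕ) := (.node 2896 (.node 2888 (.node 2884 (.node 2882 (.node 2881 (.leaf (4406, 0, 0)) (.leaf (4408, 0, 0))) (.node 2883 (.leaf (4410, 0, 0)) (.leaf (4412, 0, 0)))) (.node 2886 (.node 2885 (.leaf (3188, 108, 28)) (.leaf (4414, 0, 0))) (.node 2887 (.leaf (4205, 9, 6)) (.leaf (2124, 124, 25))))) (.node 2892 (.node 2890 (.node 2889 (.leaf (4175, 201, 9)) (.leaf (4419, 0, 0))) (.node 2891 (.leaf (4421, 0, 0)) (.leaf (4423, 0, 0)))) (.node 2894 (.node 2893 (.leaf (4424, 0, 0)) (.leaf (4197, 206, 21))) (.node 2895 (.leaf (1441, 207, 55)) (.leaf (4426, 0, 0)))))) (.node 2904 (.node 2900 (.node 2898 (.node 2897 (.leaf (2187, 47, 62)) (.leaf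 (4428, 0, 0))) (.node 2899 (.leaf (4430, 0, 0)) (.leaf (1810, 19, 39)))) (.node 2902 (.node 2901 (.leaf (4431, 0, 0)) (.leaf (3247, 86, 38))) (.node 2903 (.leaf (4433, 0, 0)) (.leaf (4435, 0, 0))))) (.node 2908 (.node 2906 (.node 2905 (.leaf (4437, 0, 0)) (.leaf (4439, 0, 0))) (.node 2907 (.leaf (1311, 178, 76)) (.leaf (4440, 0, 0)))) (.node 2910 (.node 2909 (.leaf (4442, 0, 0)) (.leaf (4443, 0, 0))) (.node 2911 (.leaf (4445, 0, 0)) (.leaf (4446, 0, 0)))))))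

def tEY_91 : BT (ℕ × ℕ × ℕ) := (.node 2928 (.node 2920 (.node 2916 (.node 2914 (.node 2913 (.leaf (2993, 68, 64)) (.leaf (4449, 0, 0))) (.node 2915 (.leaf (4450, 0, 0)) (.leaf (4451, 0, 0)))) (.node 2918 (.node 2917 (.leaf (2463, 134, 50)) (.leaf (4452, 0, 0))) (.node 2919 (.leaf (4453, 0, 0)) (.leaf (1554, 174, 35))))) (.node 2924 (.node 2922 (.node 2921 (.leaf (4456, 0, 0)) (.leaf (3919, 134, 52))) (.node 2923 (.leaf (4458, 0, 0)) (.leaf (4460, 0, 0)))) (.node 2926 (.node 2925 (.leaf (2126, 0, 36)) (.leaf (4463, 0, 0))) (.node 2927 (.leaf (4464, 0, 0)) (.leaf (4465, 0, 0)))))) (.node 2936 (.node 2932 (.node 2930 (.node 2929 (.leaf (4466, 0, 0)) (.leaf (3822, 39, 70))) (.node 2931 (.leaf (1241, 58, 12)) (.leaf (4468, 0, 0)))) (.node 2934 (.node 2933 (.leaf (222, 271, 85)) (.leaf (4469, 0, 0))) (.node 2935 (.leaf (1195, 57, 16)) (.leaf (1385, 197, 20))))) (.node 2940 (.node 2938 (.node 2937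 (.leaf (1131, 231, 8)) (.leaf (3324, 132, 54))) (.node 2939 (.leaf (4473, 0, 0)) (.leaf (4233, 59, 73)))) (.node 2942 (.node 2941 (.leaf (4475, 0, 0)) (.leaf (4477, 0, 0))) (.node 2943 (.leaf (4479, 0, 0)) (.leaf (4379, 11, 63)))))))

def tEY_92 : BT (ℕ × ℕ × ℕ) := (.node 2960 (.node 2952 (.node 2948 (.node 2946 (.node 2945 (.leaf (4480, 0, 0)) (.leaf (4481, 0, 0))) (.node 2947 (.leaf (225, 59, 60)) (.leaf (4483, 0, 0)))) (.node 2950 (.node 2949 (.leaf (3478, 185, 25)) (.leaf (4485, 0, 0))) (.node 2951 (.leaf (1503, 244, 83)) (.leaf (281, 2, 69))))) (.node 2956 (.node 2954 (.node 2953 (.leaf (4427, 131, 54)) (.leaf (4489, 0, 0))) (.node 2955 (.leaf (4491, 0, 0)) (.leaf (4493, 0, 0)))) (.node 2958 (.node 2957 (.leaf (3797, 225, 23)) (.leaf (869, 205, 78))) (.node 2959 (.leaf (3686, 193, 35)) (.leaf (4495, 0, 0)))))) (.node 2968 (.node 2964 (.node 2962 (.node 2961 (.leaf (634, 235, 13)) (.leaf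 (4497, 0, 0))) (.node 2963 (.leaf (1568, 130, 37)) (.leaf (4499, 0, 0)))) (.node 2966 (.node 2965 (.leaf (4501, 0, 0)) (.leaf (3127, 239, 9))) (.node 2967 (.leaf (4503, 0, 0)) (.leaf (2601, 267, 19))))) (.node 2972 (.node 2970 (.node 2969 (.leaf (4214, 223, 10)) (.leaf (1222, 220, 36))) (.node 2971 (.leaf (4505, 0, 0)) (.leaf (4506, 0, 0)))) (.node 2974 (.node 2973 (.leaf (4507, 0, 0)) (.leaf (4509, 0, 0))) (.node 2975 (.leaf (4511, 0, 0)) (.leaf (1236, 233, 57)))))))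

def tEY_93 : BT (ℕ × ℕ × ℕ) := (.node 2992 (.node 2984 (.node 2980 (.node 2978 (.node 2977 (.leaf (1097, 149, 12)) (.leaf (2230, 138, 69))) (.node 2979 (.leaf (4513, 0, 0)) (.leaf (4514, 0, 0)))) (.node 2982 (.node 2981 (.leaf (4515, 0, 0)) (.leaf (4517, 0, 0))) (.node 2983 (.leaf (4519, 0, 0)) (.leaf (4521, 0, 0))))) (.node 2988 (.node 2986 (.node 2985 (.leaf (4340, 72, 26)) (.leaf (4524, 0, 0))) (.node 2987 (.leaf (4526, 0, 0)) (.leaf (884, 64, 44)))) (.node 2990 (.node 2989 (.leaf (3083, 163, 3)) (.leaf (1069, 259, 26))) (.node 2991 (.leaf (882, 203, 54)) (.leaf (4004, 220, 29)))))) (.node 3000 (.node 2996 (.node 2994 (.node 2993 (.leaf (3994, 264, 87)) (.leaf (4534, 0, 0))) (.node 2995 (.leaf (1608, 123, 0)) (.leaf (116, 226, 34)))) (.node 2998 (.node 2997 (.leaf (4537, 0, 0)) (.leaf (4538, 0, 0))) (.node 2999 (.leaf (1650, 26, 36)) (.leaf (346, 253, 46))))) (.node 3004 (.node 3002 (.node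 3001 (.leaf (4542, 0, 0)) (.leaf (1709, 83, 47))) (.node 3003 (.leaf (4545, 0, 0)) (.leaf (4547, 0, 0)))) (.node 3006 (.node 3005 (.leaf (4549, 0, 0)) (.leaf (4551, 0, 0))) (.node 3007 (.leaf (2587, 32, 82)) (.leaf (4553, 0, 0)))))))

def tEY_94 : BT (ℕ × ℕ × ℕ) := (.node 3024 (.node 3016 (.node 3012 (.node 3010 (.node 3009 (.leaf (4124, 241, 7)) (.leaf (3643, 39, 81))) (.node 3011 (.leaf (4556, 0, 0)) (.leaf (4557, 0, 0)))) (.node 3014 (.node 3013 (.leaf (4540, 192, 19)) (.leaf (1047, 118, 24))) (.node 3015 (.leaf (4558, 0, 0)) (.leaf (1774, 157, 4))))) (.node 3020 (.node 3018 (.node 3017 (.leaf (2589, 34, 9)) (.leaf (2042, 129, 6))) (.node 3019 (.leaf (1946, 163, 39)) (.leaf (4559, 0, 0)))) (.node 3022 (.node 3021 (.leaf (4560, 0, 0)) (.leaf (4562, 0, 0))) (.node 3023 (.leaf (834, 209, 77)) (.leaf (4564, 0, 0)))))) (.node 3032 (.node 3028 (.node 3026 (.node 3025 (.leaf (4565, 0, 0)) (.leaf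 (4525, 4, 68))) (.node 3027 (.leaf (3683, 234, 13)) (.leaf (4568, 0, 0)))) (.node 3030 (.node 3029 (.leaf (4570, 0, 0)) (.leaf (3732, 175, 47))) (.node 3031 (.leaf (4571, 0, 0)) (.leaf (2782, 210, 67))))) (.node 3036 (.node 3034 (.node 3033 (.leaf (3510, 71, 36)) (.leaf (4064, 199, 19))) (.node 3035 (.leaf (4573, 0, 0)) (.leaf (3807, 266, 8)))) (.node 3038 (.node 3037 (.leaf (4575, 0, 0)) (.leaf (3681, 26, 7))) (.node 3039 (.leaf (4577, 0, 0)) (.leaf (4578, 0, 0)))))))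

def tEY_95 : BT (ℕ × ℕ × ℕ) := (.node 3056 (.node 3048 (.node 3044 (.node 3042 (.node 3041 (.leaf (1027, 245, 63)) (.leaf (4580, 0, 0))) (.node 3043 (.leaf (4582, 0, 0)) (.leaf (334, 100, 19)))) (.node 3046 (.node 3045 (.leaf (4584, 0, 0)) (.leaf (2882, 24, 47))) (.node 3047 (.leaf (4587, 0, 0)) (.leaf (4589, 0, 0))))) (.node 3052 (.node 3050 (.node 3049 (.leaf (4273, 222, 68)) (.leaf (4591, 0, 0))) (.node 3051 (.leaf (3229, 86, 64)) (.leaf (4592, 0, 0)))) (.node 3054 (.node 3053 (.leaf (3988, 254, 55)) (.leaf (4593, 0, 0))) (.node 3055 (.leaf (4595, 0, 0)) (.leaf (4597, 0, 0)))))) (.node 3064 (.node 3060 (.node 3058 (.node 3057 (.leaf (2697, 232, 76)) (.leaf (380, 104, 23))) (.node 3059 (.leaf (4081, 231, 19)) (.leaf (3071, 150, 73)))) (.node 3062 (.node 3061 (.leaf (4170, 169, 9)) (.leaf (1162, 156, 52))) (.node 3063 (.leaf (1674, 174, 72)) (.leaf (678, 80, 5))))) (.node 3068 (.node 3066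 (.node 3065 (.leaf (1359, 263, 63)) (.leaf (3578, 58, 49))) (.node 3067 (.leaf (4604, 0, 0)) (.leaf (4606, 0, 0)))) (.node 3070 (.node 3069 (.leaf (1487, 126, 85)) (.leaf (4608, 0, 0))) (.node 3071 (.leaf (2456, 47, 59)) (.leaf (2511, 8, 73)))))))

def tEY_96 : BT (ℕ × ℕ × ℕ) := (.node 3088 (.node 3080 (.node 3076 (.node 3074 (.node 3073 (.leaf (2205, 209, 56)) (.leaf (1323, 79, 60))) (.node 3075 (.leaf (3691, 195, 70)) (.leaf (176, 94, 17)))) (.node 3078 (.node 3077 (.leaf (4612, 0, 0)) (.leaf (4614, 0, 0))) (.node 3079 (.leaf (184, 192, 54)) (.leaf (4616, 0, 0))))) (.node 3084 (.node 3082 (.node 3081 (.leaf (1418, 120, 23)) (.leaf (4618, 0, 0))) (.node 3083 (.leaf (4620, 0, 0)) (.leaf (4166, 63, 42)))) (.node 3086 (.node 3085 (.leaf (4622, 0, 0)) (.leaf (4623, 0, 0))) (.node 3087 (.leaf (4624, 0, 0)) (.leaf (4173, 263, 64)))))) (.node 3096 (.node 3092 (.node 3090 (.node 3089 (.leaf (4472,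 95, 80)) (.leaf (4627, 0, 0))) (.node 3091 (.leaf (421, 57, 70)) (.leaf (4630, 0, 0)))) (.node 3094 (.node 3093 (.leaf (4632, 0, 0)) (.leaf (1671, 271, 52))) (.node 3095 (.leaf (2497, 44, 1)) (.leaf (1087, 158, 77))))) (.node 3100 (.node 3098 (.node 3097 (.leaf (3329, 238, 63)) (.leaf (4636, 0, 0))) (.node 3099 (.leaf (4264, 156, 21)) (.leaf (4637, 0, 0)))) (.node 3102 (.node 3101 (.leaf (4639, 0, 0)) (.leaf (736, 157, 84))) (.node 3103 (.leaf (4249, 104, 16)) (.leaf (4643, 0, 0)))))))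

def tEY_97 : BT (ℕ × ℕ × ℕ) := (.node 3120 (.node 3112 (.node 3108 (.node 3106 (.node 3105 (.leaf (4644, 0, 0)) (.leaf (4144, 124, 81))) (.node 3107 (.leaf (4646, 0, 0)) (.leaf (569, 254, 63)))) (.node 3110 (.node 3109 (.leaf (1247, 207, 67)) (.leaf (4648, 0, 0))) (.node 3111 (.leaf (4649, 0, 0)) (.leaf (4650, 0, 0))))) (.node 3116 (.node 3114 (.node 3113 (.leaf (4651, 0, 0)) (.leaf (4653, 0, 0))) (.node 3115 (.leaf (2691, 80, 59)) (.leaf (4654, 0, 0)))) (.node 3118 (.node 3117 (.leaf (54, 41, 53)) (.leaf (4657, 0, 0))) (.node 3119 (.leaf (3148, 123, 51)) (.leaf (1752, 92, 28)))))) (.node 3128 (.node 3124 (.node 3122 (.node 3121 (.leaf (4661, 0, 0)) (.leaf (4662, 0, 0))) (.node 3123 (.leaf (4663, 0, 0)) (.leaf (4257, 205, 35)))) (.node 3126 (.node 3125 (.leaf (4665, 0, 0)) (.leaf (4099, 37, 55))) (.node 3127 (.leaf (4666, 0, 0)) (.leaf (2279, 190, 81))))) (.node 3132 (.node 3130 (.node 3129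 (.leaf (3737, 139, 39)) (.leaf (3970, 160, 9))) (.node 3131 (.leaf (4669, 0, 0)) (.leaf (4671, 0, 0)))) (.node 3134 (.node 3133 (.leaf (2582, 6, 47)) (.leaf (4673, 0, 0))) (.node 3135 (.leaf (4674, 0, 0)) (.leaf (1313, 205, 57)))))))

def tEY_98 : BT (ℕ × ℕ × ℕ) := (.node 3152 (.node 3144 (.node 3140 (.node 3138 (.node 3137 (.leaf (4676, 0, 0)) (.leaf (1304, 123, 23))) (.node 3139 (.leaf (4645, 265, 4)) (.leaf (1684, 85, 64)))) (.node 3142 (.node 3141 (.leaf (4679, 0, 0)) (.leaf (4680, 0, 0))) (.node 3143 (.leaf (3893, 113, 21)) (.leaf (1962, 24, 7))))) (.node 3148 (.node 3146 (.node 3145 (.leaf (4683, 0, 0)) (.leaf (4684, 0, 0))) (.node 3147 (.leaf (1382, 129, 46)) (.leaf (4687, 0, 0)))) (.node 3150 (.node 3149 (.leaf (4688, 0, 0)) (.leaf (4690, 0, 0))) (.node 3151 (.leaf (4692, 0, 0)) (.leaf (3809, 135, 52)))))) (.node 3160 (.node 3156 (.node 3154 (.node 3153 (.leaf (2555, 234, 45)) (.leaf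 (4695, 0, 0))) (.node 3155 (.leaf (4696, 0, 0)) (.leaf (2584, 223, 11)))) (.node 3158 (.node 3157 (.leaf (1422, 147, 56)) (.leaf (2216, 62, 23))) (.node 3159 (.leaf (3842, 36, 89)) (.leaf (4381, 222, 71))))) (.node 3164 (.node 3162 (.node 3161 (.leaf (3553, 75, 55)) (.leaf (4701, 0, 0))) (.node 3163 (.leaf (4702, 0, 0)) (.leaf (4703, 14, 15)))) (.node 3166 (.node 3165 (.leaf (3196, 236, 21)) (.leaf (1877, 53, 49))) (.node 3167 (.leaf (4550, 72, 43)) (.leaf (4704, 0, 0)))))))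

def tEY_99 : BT (ℕ × ℕ × ℕ) := (.node 3184 (.node 3176 (.node 3172 (.node 3170 (.node 3169 (.leaf (4436, 53, 13)) (.leaf (4706, 0, 0))) (.node 3171 (.leaf (3161, 18, 25)) (.leaf (4709, 0, 0)))) (.node 3174 (.node 3173 (.leaf (4710, 0, 0)) (.leaf (2256, 267, 56))) (.node 3175 (.leaf (4713, 0, 0)) (.leaf (4715, 0, 0))))) (.node 3180 (.node 3178 (.node 3177 (.leaf (4716, 0, 0)) (.leaf (1011, 129, 68))) (.node 3179 (.leaf (4717, 0, 0)) (.leaf (652, 11, 46)))) (.node 3182 (.node 3181 (.leaf (4605, 29, 48)) (.leaf (3641, 172, 17))) (.node 3183 (.leaf (3413, 25, 37)) (.leaf (4721, 0, 0)))))) (.node 3192 (.node 3188 (.node 3186 (.node 3185 (.leaf (3081, 162, 9)) (.leaf (3423, 132, 84))) (.node 3187 (.leaf (4552, 4, 38)) (.leaf (3908, 4, 76)))) (.node 3190 (.node 3189 (.leaf (4488, 195, 88)) (.leaf (2760, 86, 56))) (.node 3191 (.leaf (4079, 18, 89)) (.leaf (2490, 122, 44))))) (.node 3196 (.node 3194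 (.node 3193 (.leaf (4729, 0, 0)) (.leaf (210, 77, 84))) (.node 3195 (.leaf (4718, 245, 80)) (.leaf (3169, 75, 38)))) (.node 3198 (.node 3197 (.leaf (4600, 64, 30)) (.leaf (4734, 0, 0))) (.node 3199 (.leaf (1686, 111, 85)) (.leaf (4114, 242, 44)))))))

def tEY_100 : BT (ℕ × ℕ × ℕ) := (.node 3216 (.node 3208 (.node 3204 (.node 3202 (.node 3201 (.leaf (1263, 113, 26)) (.leaf (2439, 239, 65))) (.node 3203 (.leaf (4384, 99, 60)) (.leaf (296, 232, 25)))) (.node 3206 (.node 3205 (.leaf (763, 111, 51)) (.leaf (3022, 158, 65))) (.node 3207 (.leaf (4740, 0, 0)) (.leaf (1159, 234, 84))))) (.node 3212 (.node 3210 (.node 3209 (.leaf (4742, 0, 0)) (.leaf (4364, 156, 83))) (.node 3211 (.leaf (4744, 0, 0)) (.leaf (4745, 0, 0)))) (.node 3214 (.node 3213 (.leaf (3059, 38, 29)) (.leaf (4267, 52, 81))) (.node 3215 (.leaf (4748, 0, 0)) (.leaf (4750, 0, 0)))))) (.node 3224 (.node 3220 (.node 3218 (.node 3217 (.leaf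 (4751, 0, 0)) (.leaf (4392, 69, 87))) (.node 3219 (.leaf (2873, 70, 75)) (.leaf (4754, 0, 0)))) (.node 3222 (.node 3221 (.leaf (3674, 265, 74)) (.leaf (3364, 114, 43))) (.node 3223 (.leaf (4756, 0, 0)) (.leaf (4757, 0, 0))))) (.node 3228 (.node 3226 (.node 3225 (.leaf (4758, 0, 0)) (.leaf (1411, 28, 36))) (.node 3227 (.leaf (4759, 0, 0)) (.leaf (3945, 264, 62)))) (.node 3230 (.node 3229 (.leaf (4762, 0, 0)) (.leaf (4763, 0, 0))) (.node 3231 (.leaf (4764, 0, 0)) (.leaf (3116, 201, 8)))))))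

def tEY_101 : BT (ℕ × ℕ × ℕ) := (.node 3248 (.node 3240 (.node 3236 (.node 3234 (.node 3233 (.leaf (4766, 0, 0)) (.leaf (4767, 0, 0))) (.node 3235 (.leaf (3789, 74, 61)) (.leaf (4769, 0, 0)))) (.node 3238 (.node 3237 (.leaf (2879, 246, 0)) (.leaf (2011, 105, 78))) (.node 3239 (.leaf (2681, 216, 28)) (.leaf (3912, 205, 21))))) (.node 3244 (.node 3242 (.node 3241 (.leaf (4773, 0, 0)) (.leaf (4774, 0, 0))) (.node 3243 (.leaf (3315, 100, 38)) (.leaf (4146, 171, 31)))) (.node 3246 (.node 3245 (.leaf (3234, 133, 31)) (.leaf (4778, 0, 0))) (.node 3247 (.leaf (4779, 0, 0)) (.leaf (1281, 23, 70)))))) (.node 3256 (.node 3252 (.node 3250 (.node 3249 (.leaf (4782, 0, 0)) (.leaf (4783, 0, 0))) (.node 3251 (.leaf (4785, 0, 0)) (.leaf (3748, 141, 88)))) (.node 3254 (.node 3253 (.leaf (4786, 0, 0)) (.leaf (3883, 91, 42))) (.node 3255 (.leaf (4788, 0, 0)) (.leaf (4790, 0, 0))))) (.node 3260 (.node 3258 (.node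 3257 (.leaf (2189, 77, 82)) (.leaf (4793, 0, 0))) (.node 3259 (.leaf (4794, 0, 0)) (.leaf (4795, 0, 0)))) (.node 3262 (.node 3261 (.leaf (2986, 114, 53)) (.leaf (3463, 173, 52))) (.node 3263 (.leaf (3415, 217, 49)) (.leaf (4797, 0, 0)))))))

def tEY_102 : BT (ℕ × ℕ × ℕ) := (.node 3280 (.node 3272 (.node 3268 (.node 3266 (.node 3265 (.leaf (4798, 0, 0)) (.leaf (4799, 0, 0))) (.node 3267 (.leaf (4801, 0, 0)) (.leaf (4803, 0, 0)))) (.node 3270 (.node 3269 (.leaf (2377, 45, 43)) (.leaf (4804, 0, 0))) (.node 3271 (.leaf (4805, 0, 0)) (.leaf (4807, 0, 0))))) (.node 3276 (.node 3274 (.node 3273 (.leaf (3520, 151, 58)) (.leaf (4808, 0, 0))) (.node 3275 (.leaf (4810, 0, 0)) (.leaf (2266, 75, 36)))) (.node 3278 (.node 3277 (.leaf (4811, 0, 0)) (.leaf (4812, 0, 0))) (.node 3279 (.leaf (4813, 0, 0)) (.leaf (2133, 88, 72)))))) (.node 3288 (.node 3284 (.node 3282 (.node 3281 (.leaf (4536, 46, 40)) (.leaf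 (2952, 16, 52))) (.node 3283 (.leaf (308, 150, 77)) (.leaf (4522, 118, 5)))) (.node 3286 (.node 3285 (.leaf (4816, 0, 0)) (.leaf (4292, 36, 31))) (.node 3287 (.leaf (4220, 174, 33)) (.leaf (4818, 0, 0))))) (.node 3292 (.node 3290 (.node 3289 (.leaf (3739, 12, 27)) (.leaf (668, 134, 15))) (.node 3291 (.leaf (2999, 106, 63)) (.leaf (3141, 135, 40)))) (.node 3294 (.node 3293 (.leaf (3005, 189, 63)) (.leaf (304, 113, 10))) (.node 3295 (.leaf (4822, 0, 0)) (.leaf (1646, 84, 38)))))))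

def tEY_103 : BT (ℕ × ℕ × ℕ) := (.node 3312 (.node 3304 (.node 3300 (.node 3298 (.node 3297 (.leaf (378, 49, 82)) (.leaf (4761, 159, 0))) (.node 3299 (.leaf (4825, 0, 0)) (.leaf (4827, 0, 0)))) (.node 3302 (.node 3301 (.leaf (4829, 0, 0)) (.leaf (4831, 0, 0))) (.node 3303 (.leaf (82, 69, 42)) (.leaf (680, 65, 73))))) (.node 3308 (.node 3306 (.node 3305 (.leaf (4834, 0, 0)) (.leaf (2631, 113, 39))) (.node 3307 (.leaf (2597, 108, 83)) (.leaf (3303, 168, 11)))) (.node 3310 (.node 3309 (.leaf (4837, 0, 0)) (.leaf (4025, 233, 67))) (.node 3311 (.leaf (4839, 0, 0)) (.leaf (4841, 0, 0)))))) (.node 3320 (.node 3316 (.node 3314 (.node 3313 (.leaf (4842, 0, 0)) (.leaf (3419, 52, 35))) (.node 3315 (.leaf (4845, 0, 0)) (.leaf (3601, 18, 28)))) (.node 3318 (.node 3317 (.leaf (1881, 161, 56)) (.leaf (4847, 0, 0))) (.node 3319 (.leaf (4849, 0, 0)) (.leaf (3156, 185, 29))))) (.node 3324 (.node 3322 (.node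 3321 (.leaf (401, 215, 6)) (.leaf (4678, 67, 83))) (.node 3323 (.leaf (4853, 0, 0)) (.leaf (4854, 0, 0)))) (.node 3326 (.node 3325 (.leaf (4856, 0, 0)) (.leaf (4792, 181, 52))) (.node 3327 (.leaf (4858, 0, 0)) (.leaf (4859, 0, 0)))))))

def tEY_104 : BT (ℕ × ℕ × ℕ) := (.node 3344 (.node 3336 (.node 3332 (.node 3330 (.node 3329 (.leaf (1692, 3, 30)) (.leaf (4860, 0, 0))) (.node 3331 (.leaf (3045, 91, 68)) (.leaf (2364, 254, 2)))) (.node 3334 (.node 3333 (.leaf (4863, 0, 0)) (.leaf (3762, 97, 74))) (.node 3335 (.leaf (4864, 0, 0)) (.leaf (3952, 75, 19))))) (.node 3340 (.node 3338 (.node 3337 (.leaf (3857, 207, 7)) (.leaf (4609, 22, 10))) (.node 3339 (.leaf (4866, 0, 0)) (.leaf (4633, 176, 88)))) (.node 3342 (.node 3341 (.leaf (4411, 170, 33)) (.leaf (4548, 78, 19))) (.node 3343 (.leaf (4413, 78, 33)) (.leaf (4868, 0, 0)))))) (.node 3352 (.node 3348 (.node 3346 (.node 3345 (.leaf (1702, 68,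 13)) (.leaf (4871, 0, 0))) (.node 3347 (.leaf (4872, 0, 0)) (.leaf (4873, 0, 0)))) (.node 3350 (.node 3349 (.leaf (3776, 87, 34)) (.leaf (4874, 0, 0))) (.node 3351 (.leaf (4875, 0, 0)) (.leaf (4876, 0, 0))))) (.node 3356 (.node 3354 (.node 3353 (.leaf (4391, 250, 21)) (.leaf (3476, 169, 20))) (.node 3355 (.leaf (4878, 0, 0)) (.leaf (4879, 0, 0)))) (.node 3358 (.node 3357 (.leaf (4881, 0, 0)) (.leaf (3528, 76, 28))) (.node 3359 (.leaf (1522, 102, 76)) (.leaf (4883, 0, 0)))))))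

def tEY_105 : BT (ℕ × ℕ × ℕ) := (.node 3376 (.node 3368 (.node 3364 (.node 3362 (.node 3361 (.leaf (4193, 189, 24)) (.leaf (4588, 143, 25))) (.node 3363 (.leaf (361, 168, 13)) (.leaf (4886, 0, 0)))) (.node 3366 (.node 3365 (.leaf (4888, 0, 0)) (.leaf (541, 129, 31))) (.node 3367 (.leaf (4889, 0, 0)) (.leaf (1808, 255, 74))))) (.node 3372 (.node 3370 (.node 3369 (.leaf (2764, 233, 10)) (.leaf (2036, 7, 43))) (.node 3371 (.leaf (4892, 0, 0)) (.leaf (4894, 0, 0)))) (.node 3374 (.node 3373 (.leaf (4895, 0, 0)) (.leaf (4897, 0, 0))) (.node 3375 (.leaf (2860, 163, 38)) (.leaf (1909, 201, 87)))))) (.node 3384 (.node 3380 (.node 3378 (.node 3377 (.leaf (4900, 0, 0)) (.leaf (60, 139, 47))) (.node 3379 (.leaf (4902, 0, 0)) (.leaf (4904, 0, 0)))) (.node 3382 (.node 3381 (.leaf (4906, 0, 0)) (.leaf (4907, 0, 0))) (.node 3383 (.leaf (4908, 0, 0)) (.leaf (1520, 51, 45))))) (.node 3388 (.node 3386 (.node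 3385 (.leaf (4909, 0, 0)) (.leaf (4911, 0, 0))) (.node 3387 (.leaf (2889, 215, 88)) (.leaf (4912, 0, 0)))) (.node 3390 (.node 3389 (.leaf (4914, 0, 0)) (.leaf (4915, 0, 0))) (.node 3391 (.leaf (4290, 255, 67)) (.leaf (1152, 92, 51)))))))

def tEY_106 : BT (ℕ × ℕ × ℕ) := (.node 3408 (.node 3400 (.node 3396 (.node 3394 (.node 3393 (.leaf (4918, 0, 0)) (.leaf (2066, 72, 48))) (.node 3395 (.leaf (4919, 0, 0)) (.leaf (2115, 218, 68)))) (.node 3398 (.node 3397 (.leaf (1715, 77, 82)) (.leaf (3130, 82, 38))) (.node 3399 (.leaf (4385, 237, 55)) (.leaf (4921, 0, 0))))) (.node 3404 (.node 3402 (.node 3401 (.leaf (3287, 228, 65)) (.leaf (4923, 0, 0))) (.node 3403 (.leaf (4925, 0, 0)) (.leaf (4765, 105, 4)))) (.node 3406 (.node 3405 (.leaf (4926, 0, 0)) (.leaf (340, 29, 12))) (.node 3407 (.leaf (2050, 271, 46)) (.leaf (2013, 214, 76)))))) (.node 3416 (.node 3412 (.node 3410 (.node 3409 (.leaf (1145, 155,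 20)) (.leaf (4928, 0, 0))) (.node 3411 (.leaf (3568, 144, 64)) (.leaf (2296, 200, 32)))) (.node 3414 (.node 3413 (.leaf (4028, 178, 57)) (.leaf (146, 167, 14))) (.node 3415 (.leaf (4932, 0, 0)) (.leaf (4933, 0, 0))))) (.node 3420 (.node 3418 (.node 3417 (.leaf (1396, 270, 53)) (.leaf (4934, 0, 0))) (.node 3419 (.leaf (4936, 0, 0)) (.leaf (4937, 0, 0)))) (.node 3422 (.node 3421 (.leaf (1001, 143, 82)) (.leaf (3263, 11, 10))) (.node 3423 (.leaf (3099, 38, 17)) (.leaf (4939, 0, 0)))))))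

def tEY_107 : BT (ℕ × ℕ × ℕ) := (.node 3440 (.node 3432 (.node 3428 (.node 3426 (.node 3425 (.leaf (3137, 41, 85)) (.leaf (4658, 265, 54))) (.node 3427 (.leaf (4941, 0, 0)) (.leaf (1727, 12, 77)))) (.node 3430 (.node 3429 (.leaf (3438, 259, 31)) (.leaf (598, 231, 36))) (.node 3431 (.leaf (2298, 239, 21)) (.leaf (4945, 0, 0))))) (.node 3436 (.node 3434 (.node 3433 (.leaf (4946, 0, 0)) (.leaf (4304, 203, 71))) (.node 3435 (.leaf (4948, 0, 0)) (.leaf (4387, 193, 35)))) (.node 3438 (.node 3437 (.leaf (4732, 240, 75)) (.leaf (3219, 7, 43))) (.node 3439 (.leaf (4951, 0, 0)) (.leaf (3393, 271, 71)))))) (.node 3448 (.node 3444 (.node 3442 (.node 3441 (.leaf (1917, 94, 37)) (.leaf (4953, 0, 0))) (.node 3443 (.leaf (4954, 0, 0)) (.leaf (4956, 0, 0)))) (.node 3446 (.node 3445 (.leaf (4958, 0, 0)) (.leaf (4960, 0, 0))) (.node 3447 (.leaf (4962, 0, 0)) (.leaf (4963, 0, 0))))) (.node 3452 (.node 3450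 (.node 3449 (.leaf (984, 209, 66)) (.leaf (190, 201, 82))) (.node 3451 (.leaf (3356, 16, 68)) (.leaf (623, 196, 50)))) (.node 3454 (.node 3453 (.leaf (3549, 166, 59)) (.leaf (4313, 157, 33))) (.node 3455 (.leaf (4967, 0, 0)) (.leaf (350, 29, 83)))))))

def tEY_108 : BT (ℕ × ℕ × ℕ) := (.node 3472 (.node 3464 (.node 3460 (.node 3458 (.node 3457 (.leaf (2101, 198, 79)) (.leaf (4970, 0, 0))) (.node 3459 (.leaf (4972, 0, 0)) (.leaf (4535, 119, 29)))) (.node 3462 (.node 3461 (.leaf (4974, 0, 0)) (.leaf (1363, 157, 71))) (.node 3463 (.leaf (1005, 60, 68)) (.leaf (3746, 256, 61))))) (.node 3468 (.node 3466 (.node 3465 (.leaf (4977, 0, 0)) (.leaf (4979, 0, 0))) (.node 3467 (.leaf (2687, 237, 1)) (.leaf (4980, 0, 0)))) (.node 3470 (.node 3469 (.leaf (1186, 189, 87)) (.leaf (290, 170, 32))) (.node 3471 (.leaf (4981, 0, 0)) (.leaf (4885, 180, 59)))))) (.node 3480 (.node 3476 (.node 3474 (.node 3473 (.leaf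 (4983, 0, 0)) (.leaf (4984, 0, 0))) (.node 3475 (.leaf (4986, 0, 0)) (.leaf (3855, 119, 13)))) (.node 3478 (.node 3477 (.leaf (2418, 86, 72)) (.leaf (4989, 0, 0))) (.node 3479 (.leaf (3595, 204, 25)) (.leaf (2468, 270, 89))))) (.node 3484 (.node 3482 (.node 3481 (.leaf (4992, 0, 0)) (.leaf (4994, 0, 0))) (.node 3483 (.leaf (4996, 0, 0)) (.leaf (4944, 163, 42)))) (.node 3486 (.node 3485 (.leaf (4998, 0, 0)) (.leaf (5000, 0, 0))) (.node 3487 (.leaf (4486, 57, 12)) (.leaf (576, 235, 23)))))))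

def tEY_109 : BT (ℕ × ℕ × ℕ) := (.node 3504 (.node 3496 (.node 3492 (.node 3490 (.node 3489 (.leaf (844, 201, 23)) (.leaf (3312, 127, 61))) (.node 3491 (.leaf (5003, 0, 0)) (.leaf (5004, 0, 0)))) (.node 3494 (.node 3493 (.leaf (2955, 168, 71)) (.leaf (168, 27, 74))) (.node 3495 (.leaf (4444, 136, 46)) (.leaf (1818, 156, 35))))) (.node 3500 (.node 3498 (.node 3497 (.leaf (5007, 0, 0)) (.leaf (5009, 0, 0))) (.node 3499 (.leaf (2121, 40, 60)) (.leaf (2310, 9, 69)))) (.node 3502 (.node 3501 (.leaf (5010, 0, 0)) (.leaf (5012, 0, 0))) (.node 3503 (.leaf (5014, 0, 0)) (.leaf (5015, 0, 0)))))) (.node 3512 (.node 3508 (.node 3506 (.node 3505 (.leaf (3813, 14, 5)) (.leaf (5017, 0, 0))) (.node 3507 (.leaf (4572, 139, 37)) (.leaf (2076, 243, 9)))) (.node 3510 (.node 3509 (.leaf (5020, 0, 0)) (.leaf (3712, 203, 76))) (.node 3511 (.leaf (4129, 101, 18)) (.leaf (3556, 44, 15))))) (.node 3516 (.node 3514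 (.node 3513 (.leaf (5024, 0, 0)) (.leaf (1797, 220, 56))) (.node 3515 (.leaf (810, 153, 58)) (.leaf (5026, 0, 0)))) (.node 3518 (.node 3517 (.leaf (4177, 269, 55)) (.leaf (1943, 91, 53))) (.node 3519 (.leaf (44, 228, 6)) (.leaf (1814, 146, 45)))))))

def tEY_110 : BT (ℕ × ℕ × ℕ) := (.node 3536 (.node 3528 (.node 3524 (.node 3522 (.node 3521 (.leaf (2001, 51, 3)) (.leaf (5029, 0, 0))) (.node 3523 (.leaf (5030, 0, 0)) (.leaf (2452, 269, 46)))) (.node 3526 (.node 3525 (.leaf (4725, 174, 49)) (.leaf (3332, 88, 72))) (.node 3527 (.leaf (3570, 222, 7)) (.leaf (2484, 88, 68))))) (.node 3532 (.node 3530 (.node 3529 (.leaf (3939, 239, 65)) (.leaf (5034, 0, 0))) (.node 3531 (.leaf (2953, 70, 25)) (.leaf (5035, 0, 0)))) (.node 3534 (.node 3533 (.leaf (1101, 224, 19)) (.leaf (1315, 38, 46))) (.node 3535 (.leaf (1900, 233, 50)) (.leaf (5037, 0, 0)))))) (.node 3544 (.node 3540 (.node 3538 (.node 3537 (.leaf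 (545, 13, 31)) (.leaf (551, 129, 11))) (.node 3539 (.leaf (4611, 177, 54)) (.leaf (4814, 245, 20)))) (.node 3542 (.node 3541 (.leaf (2529, 140, 14)) (.leaf (2622, 254, 87))) (.node 3543 (.leaf (1626, 138, 63)) (.leaf (5042, 0, 0))))) (.node 3548 (.node 3546 (.node 3545 (.leaf (5044, 0, 0)) (.leaf (2478, 68, 4))) (.node 3547 (.leaf (2840, 204, 7)) (.leaf (4843, 77, 30)))) (.node 3550 (.node 3549 (.leaf (1319, 258, 12)) (.leaf (5050, 0, 0))) (.node 3551 (.leaf (5041, 27, 52)) (.leaf (5052, 0, 0)))))))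

def tEY_111 : BT (ℕ × ℕ × ℕ) := (.node 3568 (.node 3560 (.node 3556 (.node 3554 (.node 3553 (.leaf (615, 63, 62)) (.leaf (4862, 234, 22))) (.node 3555 (.leaf (5053, 0, 0)) (.leaf (4043, 48, 2)))) (.node 3558 (.node 3557 (.leaf (3126, 77, 81)) (.leaf (3966, 1, 44))) (.node 3559 (.leaf (5054, 0, 0)) (.leaf (3255, 125, 47))))) (.node 3564 (.node 3562 (.node 3561 (.leaf (4736, 6, 67)) (.leaf (497, 125, 13))) (.node 3563 (.leaf (4462, 173, 72)) (.leaf (4013, 169, 2)))) (.node 3566 (.node 3565 (.leaf (3751, 191, 43)) (.leaf (4583, 147, 41))) (.node 3567 (.leaf (2856, 208, 20)) (.leaf (5058, 0, 0)))))) (.node 3576 (.node 3572 (.node 3570 (.node 3569 (.leaf (5060, 0, 0)) (.leaf (971, 230, 46))) (.node 3571 (.leaf (1719, 137, 52)) (.leaf (5061, 0, 0)))) (.node 3574 (.node 3573 (.leaf (5063, 0, 0)) (.leaf (5065, 0, 0))) (.node 3575 (.leaf (5066, 0, 0)) (.leaf (5067, 0, 0))))) (.node 3580 (.node 3578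 (.node 3577 (.leaf (5068, 0, 0)) (.leaf (967, 203, 89))) (.node 3579 (.leaf (5070, 0, 0)) (.leaf (1843, 228, 5)))) (.node 3582 (.node 3581 (.leaf (5072, 0, 0)) (.leaf (3003, 32, 6))) (.node 3583 (.leaf (5073, 0, 0)) (.leaf (1812, 96, 79)))))))

def tEY_112 : BT (ℕ × ℕ × ℕ) := (.node 3600 (.node 3592 (.node 3588 (.node 3586 (.node 3585 (.leaf (100, 121, 26)) (.leaf (5077, 0, 0))) (.node 3587 (.leaf (5078, 0, 0)) (.leaf (4820, 223, 22)))) (.node 3590 (.node 3589 (.leaf (3123, 106, 38)) (.leaf (5082, 0, 0))) (.node 3591 (.leaf (5084, 0, 0)) (.leaf (5085, 0, 0))))) (.node 3596 (.node 3594 (.node 3593 (.leaf (3714, 44, 12)) (.leaf (5086, 0, 0))) (.node 3595 (.leaf (920, 57, 8)) (.leaf (5089, 0, 0)))) (.node 3598 (.node 3597 (.leaf (4598, 217, 10)) (.leaf (716, 99, 77))) (.node 3599 (.leaf (5091, 0, 0)) (.leaf (924, 77, 43)))))) (.node 3608 (.node 3604 (.node 3602 (.node 3601 (.leaf (1226, 111,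 12)) (.leaf (4015, 167, 88))) (.node 3603 (.leaf (5093, 0, 0)) (.leaf (2309, 32, 30)))) (.node 3606 (.node 3605 (.leaf (1694, 227, 18)) (.leaf (1279, 132, 55))) (.node 3607 (.leaf (3867, 118, 22)) (.leaf (1077, 179, 1))))) (.node 3612 (.node 3610 (.node 3609 (.leaf (5097, 0, 0)) (.leaf (4903, 92, 15))) (.node 3611 (.leaf (5099, 0, 0)) (.leaf (1595, 104, 13)))) (.node 3614 (.node 3613 (.leaf (411, 56, 42)) (.leaf (4011, 79, 28))) (.node 3615 (.leaf (5102, 0, 0)) (.leaf (489, 0, 81)))))))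

def tEY_113 : BT (ℕ × ℕ × ℕ) := (.node 3632 (.node 3624 (.node 3620 (.node 3618 (.node 3617 (.leaf (1329, 51, 23)) (.leaf (5106, 0, 0))) (.node 3619 (.leaf (1820, 38, 29)) (.leaf (5107, 0, 0)))) (.node 3622 (.node 3621 (.leaf (4720, 2, 60)) (.leaf (5108, 0, 0))) (.node 3623 (.leaf (4628, 233, 41)) (.leaf (1858, 165, 68))))) (.node 3628 (.node 3626 (.node 3625 (.leaf (3286, 25, 43)) (.leaf (3600, 179, 31))) (.node 3627 (.leaf (1610, 98, 73)) (.leaf (4893, 162, 80)))) (.node 3630 (.node 3629 (.leaf (3699, 90, 7)) (.leaf (3624, 74, 66))) (.node 3631 (.leaf (5114, 0, 0)) (.leaf (5116, 0, 0)))))) (.node 3640 (.node 3636 (.node 3634 (.node 3633 (.leaf (4675, 37, 68)) (.leaf (5117, 0, 0))) (.node 3635 (.leaf (4346, 33, 34)) (.leaf (5119, 0, 0)))) (.node 3638 (.node 3637 (.leaf (4034, 83, 18)) (.leaf (4487, 250, 61))) (.node 3639 (.leaf (4109, 27, 68)) (.leaf (348, 189, 36))))) (.node 3644 (.node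 3642 (.node 3641 (.leaf (5122, 0, 0)) (.leaf (5123, 0, 0))) (.node 3643 (.leaf (5125, 0, 0)) (.leaf (5126, 0, 0)))) (.node 3646 (.node 3645 (.leaf (344, 93, 66)) (.leaf (4544, 11, 79))) (.node 3647 (.leaf (3334, 147, 18)) (.leaf (2058, 230, 55)))))))

def tEY_114 : BT (ℕ × ℕ × ℕ) := (.node 3664 (.node 3656 (.node 3652 (.node 3650 (.node 3649 (.leaf (5130, 0, 0)) (.leaf (5132, 0, 0))) (.node 3651 (.leaf (5134, 0, 0)) (.leaf (5135, 0, 0)))) (.node 3654 (.node 3653 (.leaf (3105, 155, 7)) (.leaf (5137, 0, 0))) (.node 3655 (.leaf (524, 9, 13)) (.leaf (3794, 96, 14))))) (.node 3660 (.node 3658 (.node 3657 (.leaf (5140, 0, 0)) (.leaf (5141, 0, 0))) (.node 3659 (.leaf (3837, 24, 3)) (.leaf (1467, 8, 78)))) (.node 3662 (.node 3661 (.leaf (3977, 160, 25)) (.leaf (26, 37, 78))) (.node 3663 (.leaf (5145, 0, 0)) (.leaf (915, 28, 15)))))) (.node 3672 (.node 3668 (.node 3666 (.node 3665 (.leaf (2414, 90,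 45)) (.leaf (5146, 0, 0))) (.node 3667 (.leaf (4429, 30, 69)) (.leaf (2869, 147, 59)))) (.node 3670 (.node 3669 (.leaf (5148, 0, 0)) (.leaf (5150, 0, 0))) (.node 3671 (.leaf (5151, 0, 0)) (.leaf (5152, 0, 0))))) (.node 3676 (.node 3674 (.node 3673 (.leaf (66, 114, 0)) (.leaf (5154, 0, 0))) (.node 3675 (.leaf (3660, 70, 63)) (.leaf (4068, 15, 38)))) (.node 3678 (.node 3677 (.leaf (5156, 0, 0)) (.leaf (5158, 0, 0))) (.node 3679 (.leaf (3980, 189, 87)) (.leaf (5159, 0, 0)))))))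

def tEY_115 : BT (ℕ × ℕ × ℕ) := (.node 3696 (.node 3688 (.node 3684 (.node 3682 (.node 3681 (.leaf (5161, 0, 0)) (.leaf (5011, 189, 74))) (.node 3683 (.leaf (5163, 0, 0)) (.leaf (2927, 20, 40)))) (.node 3686 (.node 3685 (.leaf (292, 15, 43)) (.leaf (5166, 0, 0))) (.node 3687 (.leaf (4629, 59, 72)) (.leaf (1456, 258, 77))))) (.node 3692 (.node 3690 (.node 3689 (.leaf (5168, 0, 0)) (.leaf (5169, 0, 0))) (.node 3691 (.leaf (5171, 0, 0)) (.leaf (4305, 124, 4)))) (.node 3694 (.node 3693 (.leaf (324, 187, 27)) (.leaf (1937, 205, 89))) (.node 3695 (.leaf (5172, 0, 0)) (.leaf (5033, 3, 34)))))) (.node 3704 (.node 3700 (.node 3698 (.node 3697 (.leaf (5173, 0, 0)) (.leaf (3119, 60, 64))) (.node 3699 (.leaf (5175, 0, 0)) (.leaf (2590, 107, 41)))) (.node 3702 (.node 3701 (.leaf (3589, 184, 9)) (.leaf (5178, 0, 0))) (.node 3703 (.leaf (5179, 0, 0)) (.leaf (5181, 0, 0))))) (.node 3708 (.node 3706 (.node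 3705 (.leaf (495, 122, 84)) (.leaf (3963, 191, 88))) (.node 3707 (.leaf (4835, 260, 34)) (.leaf (4641, 71, 12)))) (.node 3710 (.node 3709 (.leaf (1764, 164, 59)) (.leaf (434, 35, 67))) (.node 3711 (.leaf (1780, 211, 72)) (.leaf (2670, 183, 77)))))))

def tEY_116 : BT (ℕ × ℕ × ℕ) := (.node 3728 (.node 3720 (.node 3716 (.node 3714 (.node 3713 (.leaf (5184, 0, 0)) (.leaf (5185, 0, 0))) (.node 3715 (.leaf (699, 117, 42)) (.leaf (5111, 193, 48)))) (.node 3718 (.node 3717 (.leaf (2406, 172, 42)) (.leaf (5051, 16, 59))) (.node 3719 (.leaf (3871, 151, 14)) (.leaf (5187, 0, 0))))) (.node 3724 (.node 3722 (.node 3721 (.leaf (5188, 0, 0)) (.leaf (5189, 0, 0))) (.node 3723 (.leaf (4498, 108, 40)) (.leaf (2350, 101, 11)))) (.node 3726 (.node 3725 (.leaf (5191, 0, 0)) (.leaf (5192, 0, 0))) (.node 3727 (.leaf (898, 5, 13)) (.leaf (5193, 0, 0)))))) (.node 3736 (.node 3732 (.node 3730 (.node 3729 (.leaf (5194,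 0, 0)) (.leaf (5195, 0, 0))) (.node 3731 (.leaf (4615, 215, 56)) (.leaf (3773, 206, 69)))) (.node 3734 (.node 3733 (.leaf (4590, 183, 30)) (.leaf (114, 257, 58))) (.node 3735 (.leaf (4402, 156, 75)) (.leaf (1054, 241, 10))))) (.node 3740 (.node 3738 (.node 3737 (.leaf (5136, 31, 76)) (.leaf (4149, 63, 67))) (.node 3739 (.leaf (5198, 0, 0)) (.leaf (1723, 3, 81)))) (.node 3742 (.node 3741 (.leaf (4311, 222, 74)) (.leaf (3612, 198, 68))) (.node 3743 (.leaf (5200, 0, 0)) (.leaf (4711, 201, 14)))))))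

def tEY_117 : BT (ℕ × ℕ × ℕ) := (.node 3760 (.node 3752 (.node 3748 (.node 3746 (.node 3745 (.leaf (5202, 0, 0)) (.leaf (1656, 153, 45))) (.node 3747 (.leaf (697, 177, 29)) (.leaf (1214, 214, 24)))) (.node 3750 (.node 3749 (.leaf (2092, 12, 34)) (.leaf (3543, 199, 53))) (.node 3751 (.leaf (5205, 0, 0)) (.leaf (1420, 134, 58))))) (.node 3756 (.node 3754 (.node 3753 (.leaf (5206, 0, 0)) (.leaf (96, 57, 49))) (.node 3755 (.leaf (3998, 69, 53)) (.leaf (5208, 0, 0)))) (.node 3758 (.node 3757 (.leaf (4342, 165, 83)) (.leaf (5209, 0, 0))) (.node 3759 (.leaf (2405, 247, 33)) (.leaf (5210, 0, 0)))))) (.node 3768 (.node 3764 (.node 3762 (.node 3761 (.leaf (3904, 146, 36)) (.leaf (384, 77, 18))) (.node 3763 (.leaf (5212, 0, 0)) (.leaf (5028, 96, 60)))) (.node 3766 (.node 3765 (.leaf (1121, 61, 11)) (.leaf (5022, 134, 66))) (.node 3767 (.leaf (2789, 47, 59)) (.leaf (877, 111, 73))))) (.node 3772 (.node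 3770 (.node 3769 (.leaf (3446, 154, 71)) (.leaf (5216, 0, 0))) (.node 3771 (.leaf (3865, 11, 35)) (.leaf (5083, 195, 46)))) (.node 3774 (.node 3773 (.leaf (162, 57, 2)) (.leaf (3352, 213, 69))) (.node 3775 (.leaf (5219, 0, 0)) (.leaf (4694, 50, 52)))))))

def tEY_118 : BT (ℕ × ℕ × ℕ) := (.node 3792 (.node 3784 (.node 3780 (.node 3778 (.node 3777 (.leaf (5220, 0, 0)) (.leaf (5222, 0, 0))) (.node 3779 (.leaf (2803, 242, 47)) (.leaf (5223, 0, 0)))) (.node 3782 (.node 3781 (.leaf (3267, 216, 60)) (.leaf (5225, 0, 0))) (.node 3783 (.leaf (2384, 226, 24)) (.leaf (5228, 0, 0))))) (.node 3788 (.node 3786 (.node 3785 (.leaf (5229, 0, 0)) (.leaf (2501, 225, 69))) (.node 3787 (.leaf (1250, 180, 66)) (.leaf (3132, 53, 6)))) (.node 3790 (.node 3789 (.leaf (4635, 242, 81)) (.leaf (1269, 72, 88))) (.node 3791 (.leaf (5109, 50, 32)) (.leaf (5233, 0, 0)))))) (.node 3800 (.node 3796 (.node 3794 (.node 3793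 (.leaf (5234, 0, 0)) (.leaf (5235, 0, 0))) (.node 3795 (.leaf (1999, 20, 28)) (.leaf (5236, 0, 0)))) (.node 3798 (.node 3797 (.leaf (5237, 0, 0)) (.leaf (5238, 0, 0))) (.node 3799 (.leaf (403, 49, 76)) (.leaf (5240, 0, 0))))) (.node 3804 (.node 3802 (.node 3801 (.leaf (3743, 66, 23)) (.leaf (4071, 95, 43))) (.node 3803 (.leaf (3780, 138, 18)) (.leaf (5242, 0, 0)))) (.node 3806 (.node 3805 (.leaf (2712, 62, 28)) (.leaf (5244, 0, 0))) (.node 3807 (.leaf (4102, 234, 77)) (.leaf (5246, 0, 0)))))))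

def tEY_119 : BT (ℕ × ℕ × ℕ) := (.node 3824 (.node 3816 (.node 3812 (.node 3810 (.node 3809 (.leaf (2273, 77, 14)) (.leaf (5248, 0, 0))) (.node 3811 (.leaf (2302, 40, 19)) (.leaf (5250, 0, 0)))) (.node 3814 (.node 3813 (.leaf (3226, 259, 69)) (.leaf (1452, 90, 64))) (.node 3815 (.leaf (3707, 116, 40)) (.leaf (4838, 148, 89))))) (.node 3820 (.node 3818 (.node 3817 (.leaf (4131, 67, 11)) (.leaf (5081, 248, 14))) (.node 3819 (.leaf (4504, 10, 6)) (.leaf (5253, 0, 0)))) (.node 3822 (.node 3821 (.leaf (3925, 205, 21)) (.leaf (120, 54, 28))) (.node 3823 (.leaf (1838, 23, 3)) (.leaf (1306, 208, 22)))))) (.node 3832 (.node 3828 (.node 3826 (.node 3825 (.leaf (2338, 13, 85)) (.leaf (5257, 0, 0))) (.node 3827 (.leaf (5258, 0, 0)) (.leaf (3922, 6, 51)))) (.node 3830 (.node 3829 (.leaf (5259, 0, 0)) (.leaf (2778, 8, 52))) (.node 3831 (.leaf (1902, 122, 56)) (.leaf (2027, 205, 43))))) (.node 3836 (.node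 3834 (.node 3833 (.leaf (3488, 16, 31)) (.leaf (4226, 113, 79))) (.node 3835 (.leaf (5261, 0, 0)) (.leaf (1705, 173, 77)))) (.node 3838 (.node 3837 (.leaf (5262, 0, 0)) (.leaf (3930, 61, 59))) (.node 3839 (.leaf (5263, 0, 0)) (.leaf (1309, 94, 4)))))))

def tEY_120 : BT (ℕ × ℕ × ℕ) := (.node 3856 (.node 3848 (.node 3844 (.node 3842 (.node 3841 (.leaf (2198, 47, 61)) (.leaf (5266, 0, 0))) (.node 3843 (.leaf (1107, 147, 8)) (.leaf (5268, 0, 0)))) (.node 3846 (.node 3845 (.leaf (3710, 253, 5)) (.leaf (5270, 0, 0))) (.node 3847 (.leaf (1799, 24, 51)) (.leaf (5271, 0, 0))))) (.node 3852 (.node 3850 (.node 3849 (.leaf (3261, 224, 47)) (.leaf (3574, 74, 77))) (.node 3851 (.leaf (5272, 0, 0)) (.leaf (5273, 0, 0)))) (.node 3854 (.node 3853 (.leaf (5274, 0, 0)) (.leaf (5275, 0, 0))) (.node 3855 (.leaf (5043, 165, 81)) (.leaf (5276, 0, 0)))))) (.node 3864 (.node 3860 (.node 3858 (.node 3857 (.leaf (1779,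 51, 51)) (.leaf (5204, 208, 31))) (.node 3859 (.leaf (351, 36, 4)) (.leaf (5280, 0, 0)))) (.node 3862 (.node 3861 (.leaf (126, 208, 74)) (.leaf (5283, 0, 0))) (.node 3863 (.leaf (5284, 0, 0)) (.leaf (1127, 139, 19))))) (.node 3868 (.node 3866 (.node 3865 (.leaf (4987, 10, 70)) (.leaf (4417, 146, 87))) (.node 3867 (.leaf (1743, 153, 79)) (.leaf (650, 66, 29)))) (.node 3870 (.node 3869 (.leaf (5285, 0, 0)) (.leaf (5287, 0, 0))) (.node 3871 (.leaf (5255, 98, 43)) (.leaf (1156, 32, 78)))))))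

def tEY_121 : BT (ℕ × ℕ × ℕ) := (.node 3888 (.node 3880 (.node 3876 (.node 3874 (.node 3873 (.leaf (3801, 95, 38)) (.leaf (4975, 59, 15))) (.node 3875 (.leaf (4576, 213, 53)) (.leaf (5289, 0, 0)))) (.node 3878 (.node 3877 (.leaf (5290, 0, 0)) (.leaf (528, 204, 70))) (.node 3879 (.leaf (5292, 0, 0)) (.leaf (5294, 0, 0))))) (.node 3884 (.node 3882 (.node 3881 (.leaf (5295, 0, 0)) (.leaf (5296, 0, 0))) (.node 3883 (.leaf (4136, 14, 29)) (.leaf (1690, 30, 89)))) (.node 3886 (.node 3885 (.leaf (312, 69, 87)) (.leaf (5297, 0, 0))) (.node 3887 (.leaf (4530, 35, 57)) (.leaf (5298, 0, 0)))))) (.node 3896 (.node 3892 (.node 3890 (.node 3889 (.leaf (4298, 270, 88)) (.leaf (5300, 0, 0))) (.node 3891 (.leaf (5301, 0, 0)) (.leaf (3301, 195, 70)))) (.node 3894 (.node 3893 (.leaf (5304, 0, 0)) (.leaf (5305, 0, 0))) (.node 3895 (.leaf (1860, 64, 83)) (.leaf (5308, 0, 0))))) (.node 3900 (.node 3898 (.node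 3897 (.leaf (5309, 0, 0)) (.leaf (2156, 186, 54))) (.node 3899 (.leaf (3628, 36, 2)) (.leaf (1868, 166, 38)))) (.node 3902 (.node 3901 (.leaf (2503, 191, 69)) (.leaf (4781, 174, 47))) (.node 3903 (.leaf (5312, 0, 0)) (.leaf (5314, 0, 0)))))))

def tEY_122 : BT (ℕ × ℕ × ℕ) := (.node 3920 (.node 3912 (.node 3908 (.node 3906 (.node 3905 (.leaf (5315, 0, 0)) (.leaf (5316, 0, 0))) (.node 3907 (.leaf (5317, 0, 0)) (.leaf (5318, 0, 0)))) (.node 3910 (.node 3909 (.leaf (5320, 0, 0)) (.leaf (1016, 188, 22))) (.node 3911 (.leaf (3134, 21, 43)) (.leaf (2624, 90, 80))))) (.node 3916 (.node 3914 (.node 3913 (.leaf (5322, 0, 0)) (.leaf (5324, 0, 0))) (.node 3915 (.leaf (1103, 39, 27)) (.leaf (5326, 0, 0)))) (.node 3918 (.node 3917 (.leaf (5327, 0, 0)) (.leaf (1704, 69, 24))) (.node 3919 (.leaf (4682, 27, 46)) (.leaf (332, 126, 87)))))) (.node 3928 (.node 3924 (.node 3922 (.node 3921 (.leaf (5331, 0, 0))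 (.leaf (4689, 44, 1))) (.node 3923 (.leaf (2755, 220, 1)) (.leaf (1257, 191, 29)))) (.node 3926 (.node 3925 (.leaf (601, 262, 11)) (.leaf (3525, 60, 63))) (.node 3927 (.leaf (1491, 151, 66)) (.leaf (5336, 0, 0))))) (.node 3932 (.node 3930 (.node 3929 (.leaf (326, 41, 80)) (.leaf (3115, 132, 34))) (.node 3931 (.leaf (3001, 31, 18)) (.leaf (3283, 212, 89)))) (.node 3934 (.node 3933 (.leaf (3544, 156, 21)) (.leaf (5338, 0, 0))) (.node 3935 (.leaf (5340, 0, 0)) (.leaf (3052, 182, 3)))))))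

def tEY_123 : BT (ℕ × ℕ × ℕ) := (.node 3952 (.node 3944 (.node 3940 (.node 3938 (.node 3937 (.leaf (5341, 0, 0)) (.leaf (5342, 0, 0))) (.node 3939 (.leaf (3576, 213, 48)) (.leaf (3941, 239, 66)))) (.node 3942 (.node 3941 (.leaf (1940, 171, 8)) (.leaf (1149, 164, 4))) (.node 3943 (.leaf (5344, 0, 0)) (.leaf (1230, 230, 67))))) (.node 3948 (.node 3946 (.node 3945 (.leaf (392, 35, 88)) (.leaf (5346, 0, 0))) (.node 3947 (.leaf (5348, 0, 0)) (.leaf (5252, 15, 8)))) (.node 3950 (.node 3949 (.leaf (5049, 138, 85)) (.leaf (3447, 50, 63))) (.node 3951 (.leaf (1644, 99, 22)) (.leaf (1981, 61, 39)))))) (.node 3960 (.node 3956 (.node 3954 (.node 3953 (.leaf (5351, 0, 0)) (.leaf (164, 56, 2))) (.node 3955 (.leaf (4096, 213, 77)) (.leaf (2580, 138, 8)))) (.node 3958 (.node 3957 (.leaf (4697, 86, 13)) (.leaf (2258, 97, 14))) (.node 3959 (.leaf (5355, 0, 0)) (.leaf (734, 216, 55))))) (.node 3964 (.node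 3962 (.node 3961 (.leaf (4422, 133, 63)) (.leaf (5357, 0, 0))) (.node 3963 (.leaf (5359, 0, 0)) (.leaf (4809, 97, 53)))) (.node 3966 (.node 3965 (.leaf (5361, 0, 0)) (.leaf (5363, 0, 0))) (.node 3967 (.leaf (3426, 100, 57)) (.leaf (5365, 0, 0)))))))

def tEY_124 : BT (ℕ × ℕ × ℕ) := (.node 3984 (.node 3976 (.node 3972 (.node 3970 (.node 3969 (.leaf (5174, 28, 6)) (.leaf (2991, 230, 29))) (.node 3971 (.leaf (5368, 0, 0)) (.leaf (4500, 184, 36)))) (.node 3974 (.node 3973 (.leaf (5369, 0, 0)) (.leaf (5254, 17, 86))) (.node 3975 (.leaf (3877, 21, 11)) (.leaf (1782, 257, 66))))) (.node 3980 (.node 3978 (.node 3977 (.leaf (4104, 20, 67)) (.leaf (4448, 171, 39))) (.node 3979 (.leaf (838, 241, 34)) (.leaf (5371, 0, 0)))) (.node 3982 (.node 3981 (.leaf (4147, 90, 72)) (.leaf (5373, 0, 0))) (.node 3983 (.leaf (5374, 0, 0)) (.leaf (1493, 84, 11)))))) (.node 3992 (.node 3988 (.node 3986 (.node 3985 (.leaf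 (5075, 79, 65)) (.leaf (5376, 0, 0))) (.node 3987 (.leaf (3171, 260, 51)) (.leaf (5378, 0, 0)))) (.node 3990 (.node 3989 (.leaf (5379, 0, 0)) (.leaf (4826, 1, 30))) (.node 3991 (.leaf (4447, 63, 8)) (.leaf (4532, 42, 70))))) (.node 3996 (.node 3994 (.node 3993 (.leaf (2113, 66, 59)) (.leaf (5382, 0, 0))) (.node 3995 (.leaf (4789, 62, 61)) (.leaf (1794, 168, 78)))) (.node 3998 (.node 3997 (.leaf (5385, 0, 0)) (.leaf (5387, 0, 0))) (.node 3999 (.leaf (539, 224, 69)) (.leaf (2637, 268, 54)))))))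

def tEY_125 : BT (ℕ × ℕ × ℕ) := (.node 4016 (.node 4008 (.node 4004 (.node 4002 (.node 4001 (.leaf (2615, 6, 36)) (.leaf (2437, 238, 18))) (.node 4003 (.leaf (5157, 249, 2)) (.leaf (3484, 99, 39)))) (.node 4006 (.node 4005 (.leaf (2088, 110, 46)) (.leaf (4599, 20, 9))) (.node 4007 (.leaf (3766, 114, 12)) (.leaf (5390, 0, 0))))) (.node 4012 (.node 4010 (.node 4009 (.leaf (5392, 0, 0)) (.leaf (526, 92, 18))) (.node 4011 (.leaf (5393, 0, 0)) (.leaf (5394, 0, 0)))) (.node 4014 (.node 4013 (.leaf (5395, 0, 0)) (.leaf (5396, 0, 0))) (.node 4015 (.leaf (5398, 0, 0)) (.leaf (4529, 96, 87)))))) (.node 4024 (.node 4020 (.node 4018 (.node 4017 (.leaf (4543, 101, 60)) (.leaf (1604, 41, 0))) (.node 4019 (.leaf (132, 232, 47)) (.leaf (5027, 110, 35)))) (.node 4022 (.node 4021 (.leaf (2128, 223, 83)) (.leaf (672, 87, 89))) (.node 4023 (.leaf (5404, 0, 0)) (.leaf (4642, 271, 77))))) (.node 4028 (.node 4026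 (.node 4025 (.leaf (2801, 36, 75)) (.leaf (5406, 0, 0))) (.node 4027 (.leaf (4523, 222, 41)) (.leaf (1255, 46, 79)))) (.node 4030 (.node 4029 (.leaf (750, 26, 64)) (.leaf (5409, 0, 0))) (.node 4031 (.leaf (5411, 0, 0)) (.leaf (5412, 0, 0)))))))

def tEY_126 : BT (ℕ × ℕ × ℕ) := (.node 4048 (.node 4040 (.node 4036 (.node 4034 (.node 4033 (.leaf (5232, 146, 5)) (.leaf (5142, 271, 2))) (.node 4035 (.leaf (2786, 2, 0)) (.leaf (4772, 150, 66)))) (.node 4038 (.node 4037 (.leaf (1113, 93, 38)) (.leaf (4457, 244, 16))) (.node 4039 (.leaf (4510, 245, 17)) (.leaf (5047, 212, 19))))) (.node 4044 (.node 4042 (.node 4041 (.leaf (1669, 90, 38)) (.leaf (1073, 11, 5))) (.node 4043 (.leaf (5153, 161, 48)) (.leaf (5420, 0, 0)))) (.node 4046 (.node 4045 (.leaf (859, 136, 59)) (.leaf (4236, 271, 32))) (.node 4047 (.leaf (5422, 0, 0)) (.leaf (5424, 0, 0)))))) (.node 4056 (.node 4052 (.node 4050 (.node 4049 (.leaf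 (4125, 192, 21)) (.leaf (4265, 122, 76))) (.node 4051 (.leaf (3376, 191, 31)) (.leaf (5427, 0, 0)))) (.node 4054 (.node 4053 (.leaf (4531, 97, 81)) (.leaf (294, 124, 3))) (.node 4055 (.leaf (4787, 193, 37)) (.leaf (4179, 236, 52))))) (.node 4060 (.node 4058 (.node 4057 (.leaf (4418, 13, 46)) (.leaf (5241, 75, 5))) (.node 4059 (.leaf (4823, 252, 22)) (.leaf (2454, 44, 38)))) (.node 4062 (.node 4061 (.leaf (513, 60, 78)) (.leaf (4672, 142, 87))) (.node 4063 (.leaf (5434, 0, 0)) (.leaf (2535, 216, 62)))))))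

def tEY_127 : BT (ℕ × ℕ × ℕ) := (.node 4080 (.node 4072 (.node 4068 (.node 4066 (.node 4065 (.leaf (4091, 149, 38)) (.leaf (2196, 259, 83))) (.node 4067 (.leaf (409, 202, 50)) (.leaf (5438, 0, 0)))) (.node 4070 (.node 4069 (.leaf (5432, 182, 22)) (.leaf (2799, 45, 83))) (.node 4071 (.leaf (1042, 189, 14)) (.leaf (1804, 220, 55))))) (.node 4076 (.node 4074 (.node 4073 (.leaf (5366, 83, 71)) (.leaf (2442, 30, 81))) (.node 4075 (.leaf (2472, 205, 8)) (.leaf (4455, 257, 32)))) (.node 4078 (.node 4077 (.leaf (5440, 0, 0)) (.leaf (4395, 266, 79))) (.node 4079 (.leaf (451, 0, 19)) (.leaf (1495, 237, 18)))))) (.node 4088 (.node 4084 (.node 4082 (.node 4081 (.leaf (5445, 0, 0)) (.leaf (4145, 47, 48))) (.node 4083 (.leaf (5446, 0, 0)) (.leaf (4434, 269, 62)))) (.node 4086 (.node 4085 (.leaf (1565, 192, 72)) (.leaf (1959, 227, 79))) (.node 4087 (.leaf (5449, 0, 0)) (.leaf (2572, 137, 33))))) (.node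 4092 (.node 4090 (.node 4089 (.leaf (5451, 0, 0)) (.leaf (722, 192, 7))) (.node 4091 (.leaf (5452, 0, 0)) (.leaf (1996, 186, 72)))) (.node 4094 (.node 4093 (.leaf (5453, 0, 0)) (.leaf (855, 216, 45))) (.node 4095 (.leaf (3073, 167, 71)) (.leaf (5454, 0, 0)))))))

def tEY_128 : BT (ℕ × ℕ × ℕ) := (.node 4112 (.node 4104 (.node 4100 (.node 4098 (.node 4097 (.leaf (4724, 244, 30)) (.leaf (4625, 16, 42))) (.node 4099 (.leaf (4976, 76, 31)) (.leaf (5329, 152, 59)))) (.node 4102 (.node 4101 (.leaf (3457, 118, 42)) (.leaf (5457, 0, 0))) (.node 4103 (.leaf (5459, 0, 0)) (.leaf (5461, 0, 0))))) (.node 4108 (.node 4106 (.node 4105 (.leaf (5462, 0, 0)) (.leaf (5197, 220, 24))) (.node 4107 (.leaf (4389, 50, 68)) (.leaf (4030, 6, 11)))) (.node 4110 (.node 4109 (.leaf (5464, 0, 0)) (.leaf (5465, 0, 0))) (.node 4111 (.leaf (3007, 43, 66)) (.leaf (1055, 108, 67)))))) (.node 4120 (.node 4116 (.node 4114 (.node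 4113 (.leaf (2202, 158, 51)) (.leaf (1198, 173, 70))) (.node 4115 (.leaf (2715, 89, 9)) (.leaf (5467, 0, 0)))) (.node 4118 (.node 4117 (.leaf (4070, 14, 56)) (.leaf (1388, 256, 20))) (.node 4119 (.leaf (5470, 0, 0)) (.leaf (4206, 207, 45))))) (.node 4124 (.node 4122 (.node 4121 (.leaf (5472, 0, 0)) (.leaf (3076, 81, 81))) (.node 4123 (.leaf (5471, 1, 63)) (.leaf (3648, 54, 64)))) (.node 4126 (.node 4125 (.leaf (5475, 0, 0)) (.leaf (2457, 179, 45))) (.node 4127 (.leaf (3986, 171, 7)) (.leaf (4985, 62, 27)))))))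

def tEY_129 : BT (ℕ × ℕ × ℕ) := (.node 4144 (.node 4136 (.node 4132 (.node 4130 (.node 4129 (.leaf (5476, 0, 0)) (.leaf (5478, 0, 0))) (.node 4131 (.leaf (604, 231, 63)) (.leaf (5479, 0, 0)))) (.node 4134 (.node 4133 (.leaf (3241, 215, 74)) (.leaf (4252, 65, 41))) (.node 4135 (.leaf (516, 225, 17)) (.leaf (5144, 252, 18))))) (.node 4140 (.node 4138 (.node 4137 (.leaf (2459, 58, 63)) (.leaf (3541, 248, 2))) (.node 4139 (.leaf (2426, 39, 11)) (.leaf (582, 29, 45)))) (.node 4142 (.node 4141 (.leaf (2714, 125, 10)) (.leaf (5482, 0, 0))) (.node 4143 (.leaf (676, 258, 79)) (.leaf (5484, 0, 0)))))) (.node 4152 (.node 4148 (.node 4146 (.node 4145 (.leaf (751, 250, 74)) (.leaf (5485, 0, 0))) (.node 4147 (.leaf (3990, 225, 79)) (.leaf (5121, 114, 46)))) (.node 4150 (.node 4149 (.leaf (3819, 105, 52)) (.leaf (4306, 135, 43))) (.node 4151 (.leaf (3239, 223, 79)) (.leaf (5005, 131, 58))))) (.node 4156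 (.node 4154 (.node 4153 (.leaf (1129, 170, 24)) (.leaf (2311, 221, 60))) (.node 4155 (.leaf (559, 142, 18)) (.leaf (5492, 0, 0)))) (.node 4158 (.node 4157 (.leaf (5493, 0, 0)) (.leaf (1970, 44, 86))) (.node 4159 (.leaf (5494, 0, 0)) (.leaf (5495, 0, 0)))))))

def tEY_130 : BT (ℕ × ℕ × ℕ) := (.node 4176 (.node 4168 (.node 4164 (.node 4162 (.node 4161 (.leaf (3694, 183, 23)) (.leaf (1361, 89, 70))) (.node 4163 (.leaf (5226, 25, 20)) (.leaf (5497, 0, 0)))) (.node 4166 (.node 4165 (.leaf (4047, 28, 52)) (.leaf (227, 190, 2))) (.node 4167 (.leaf (5353, 88, 39)) (.leaf (5500, 0, 0))))) (.node 4172 (.node 4170 (.node 4169 (.leaf (1400, 78, 50)) (.leaf (4753, 212, 56))) (.node 4171 (.leaf (3242, 189, 30)) (.leaf (5502, 0, 0)))) (.node 4174 (.node 4173 (.leaf (5503, 0, 0)) (.leaf (5504, 0, 0))) (.node 4175 (.leaf (2423, 5, 3)) (.leaf (2899, 168, 29)))))) (.node 4184 (.node 4180 (.node 4178 (.node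 4177 (.leaf (5505, 0, 0)) (.leaf (152, 211, 21))) (.node 4179 (.leaf (4969, 117, 2)) (.leaf (1524, 102, 33)))) (.node 4182 (.node 4181 (.leaf (3495, 171, 23)) (.leaf (5414, 6, 36))) (.node 4183 (.leaf (4677, 68, 65)) (.leaf (5313, 166, 58))))) (.node 4188 (.node 4186 (.node 4185 (.leaf (714, 1, 88)) (.leaf (1150, 137, 11))) (.node 4187 (.leaf (950, 144, 82)) (.leaf (5510, 0, 0)))) (.node 4190 (.node 4189 (.leaf (4348, 20, 42)) (.leaf (1170, 193, 61))) (.node 4191 (.leaf (2561, 2, 45)) (.leaf (4861, 35, 54)))))))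

def tEY_131 : BT (ℕ × ℕ × ℕ) := (.node 4208 (.node 4200 (.node 4196 (.node 4194 (.node 4193 (.leaf (5514, 0, 0)) (.leaf (5515, 0, 0))) (.node 4195 (.leaf (1084, 209, 61)) (.leaf (5516, 0, 0)))) (.node 4198 (.node 4197 (.leaf (5509, 237, 77)) (.leaf (461, 20, 89))) (.node 4199 (.leaf (5518, 0, 0)) (.leaf (2017, 28, 79))))) (.node 4204 (.node 4202 (.node 4201 (.leaf (511, 174, 11)) (.leaf (4796, 67, 1))) (.node 4203 (.leaf (5302, 67, 24)) (.leaf (5520, 0, 0)))) (.node 4206 (.node 4205 (.leaf (2939, 124, 25)) (.leaf (5388, 38, 64))) (.node 4207 (.leaf (1014, 81, 0)) (.leaf (5330, 53, 86)))))) (.node 4216 (.node 4212 (.node 4210 (.node 4209 (.leaf (5079, 180, 54)) (.leaf (3982, 102, 42))) (.node 4211 (.leaf (64, 67, 83)) (.leaf (1407, 35, 40)))) (.node 4214 (.node 4213 (.leaf (3297, 39, 45)) (.leaf (3931, 214, 39))) (.node 4215 (.leaf (2052, 199, 30)) (.leaf (4323, 133, 7))))) (.node 4220 (.node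 4218 (.node 4217 (.leaf (224, 185, 50)) (.leaf (5506, 107, 87))) (.node 4219 (.leaf (5525, 0, 0)) (.leaf (2883, 88, 13)))) (.node 4222 (.node 4221 (.leaf (3992, 66, 80)) (.leaf (3184, 209, 20))) (.node 4223 (.leaf (2358, 28, 86)) (.leaf (5527, 0, 0)))))))

def tEY_132 : BT (ℕ × ℕ × ℕ) := (.node 4240 (.node 4232 (.node 4228 (.node 4226 (.node 4225 (.leaf (5528, 0, 0)) (.leaf (4949, 87, 34))) (.node 4227 (.leaf (1371, 227, 9)) (.leaf (3598, 177, 51)))) (.node 4230 (.node 4229 (.leaf (5095, 76, 58)) (.leaf (3432, 112, 24))) (.node 4231 (.leaf (172, 21, 40)) (.leaf (759, 167, 26))))) (.node 4236 (.node 4234 (.node 4233 (.leaf (4999, 232, 21)) (.leaf (5531, 0, 0))) (.node 4235 (.leaf (5532, 0, 0)) (.leaf (4777, 15, 24)))) (.node 4238 (.node 4237 (.leaf (4828, 178, 65)) (.leaf (2620, 36, 72))) (.node 4239 (.leaf (5534, 0, 0)) (.leaf (3531, 240, 44)))))) (.node 4248 (.node 4244 (.node 4242 (.node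 4241 (.leaf (2819, 270, 58)) (.leaf (397, 34, 59))) (.node 4243 (.leaf (896, 176, 44)) (.leaf (1825, 160, 17)))) (.node 4246 (.node 4245 (.leaf (2824, 54, 67)) (.leaf (1439, 60, 68))) (.node 4247 (.leaf (3836, 98, 59)) (.leaf (5537, 0, 0))))) (.node 4252 (.node 4250 (.node 4249 (.leaf (2540, 266, 68)) (.leaf (973, 228, 78))) (.node 4251 (.leaf (5539, 0, 0)) (.leaf (94, 150, 87)))) (.node 4254 (.node 4253 (.leaf (5540, 0, 0)) (.leaf (3449, 178, 22))) (.node 4255 (.leaf (5542, 0, 0)) (.leaf (4325, 38, 81)))))))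

def tEY_133 : BT (ℕ × ℕ × ℕ) := (.node 4272 (.node 4264 (.node 4260 (.node 4258 (.node 4257 (.leaf (5543, 0, 0)) (.leaf (5224, 10, 61))) (.node 4259 (.leaf (5544, 0, 0)) (.leaf (3143, 67, 41)))) (.node 4262 (.node 4261 (.leaf (196, 7, 37)) (.leaf (4084, 96, 36))) (.node 4263 (.leaf (3979, 106, 42)) (.leaf (1983, 24, 86))))) (.node 4268 (.node 4266 (.node 4265 (.leaf (947, 131, 31)) (.leaf (3164, 34, 70))) (.node 4267 (.leaf (6, 226, 73)) (.leaf (5339, 76, 47)))) (.node 4270 (.node 4269 (.leaf (5549, 0, 0)) (.leaf (2941, 255, 21))) (.node 4271 (.leaf (5550, 0, 0)) (.leaf (5551, 0, 0)))))) (.node 4280 (.node 4276 (.node 4274 (.node 4273 (.leaf (394, 207, 8)) (.leaf (5552, 0, 0))) (.node 4275 (.leaf (4705, 53, 30)) (.leaf (3896, 62, 53)))) (.node 4278 (.node 4277 (.leaf (503, 251, 35)) (.leaf (5555, 0, 0))) (.node 4279 (.leaf (5556, 0, 0)) (.leaf (4494, 144, 4))))) (.node 4284 (.node 4282 (.node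 4281 (.leaf (5040, 250, 37)) (.leaf (4459, 141, 75))) (.node 4283 (.leaf (3534, 159, 2)) (.leaf (4602, 137, 39)))) (.node 4286 (.node 4285 (.leaf (1206, 236, 0)) (.leaf (903, 95, 22))) (.node 4287 (.leaf (4586, 51, 15)) (.leaf (4181, 60, 76)))))))

def tEY_134 : BT (ℕ × ℕ × ℕ) := (.node 4304 (.node 4296 (.node 4292 (.node 4290 (.node 4289 (.leaf (4119, 266, 72)) (.leaf (1143, 17, 82))) (.node 4291 (.leaf (1893, 209, 40)) (.leaf (284, 212, 80)))) (.node 4294 (.node 4293 (.leaf (890, 2, 18)) (.leaf (3950, 198, 45))) (.node 4295 (.leaf (5563, 0, 0)) (.leaf (5564, 0, 0))))) (.node 4300 (.node 4298 (.node 4297 (.leaf (3558, 151, 66)) (.leaf (829, 18, 22))) (.node 4299 (.leaf (4770, 266, 63)) (.leaf (56, 244, 38)))) (.node 4302 (.node 4301 (.leaf (846, 65, 85)) (.leaf (5566, 0, 0))) (.node 4303 (.leaf (1803, 111, 46)) (.leaf (5567, 0, 0)))))) (.node 4312 (.node 4308 (.node 4306 (.node 4305 (.leaf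 (4747, 245, 70)) (.leaf (5568, 0, 0))) (.node 4307 (.leaf (2180, 85, 51)) (.leaf (5311, 123, 71)))) (.node 4310 (.node 4309 (.leaf (5571, 0, 0)) (.leaf (5572, 0, 0))) (.node 4311 (.leaf (5574, 0, 0)) (.leaf (1210, 14, 7))))) (.node 4316 (.node 4314 (.node 4313 (.leaf (3387, 254, 50)) (.leaf (5575, 0, 0))) (.node 4315 (.leaf (3441, 19, 0)) (.leaf (1405, 21, 9)))) (.node 4318 (.node 4317 (.leaf (3024, 107, 88)) (.leaf (5578, 0, 0))) (.node 4319 (.leaf (2200, 30, 83)) (.leaf (2226, 55, 74)))))))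

def tEY_135 : BT (ℕ × ℕ × ℕ) := (.node 4336 (.node 4328 (.node 4324 (.node 4322 (.node 4321 (.leaf (4833, 243, 35)) (.leaf (986, 191, 29))) (.node 4323 (.leaf (2355, 77, 27)) (.leaf (5581, 0, 0)))) (.node 4326 (.node 4325 (.leaf (1576, 177, 54)) (.leaf (5582, 0, 0))) (.node 4327 (.leaf (5177, 31, 84)) (.leaf (2024, 72, 2))))) (.node 4332 (.node 4330 (.node 4329 (.leaf (5133, 159, 36)) (.leaf (5584, 0, 0))) (.node 4331 (.leaf (5586, 0, 0)) (.leaf (5513, 211, 86)))) (.node 4334 (.node 4333 (.leaf (5377, 15, 78)) (.leaf (831, 59, 47))) (.node 4335 (.leaf (3350, 14, 37)) (.leaf (5587, 0, 0)))))) (.node 4344 (.node 4340 (.node 4338 (.node 4337 (.leaf (571, 202, 45)) (.leaf (1245, 225, 67))) (.node 4339 (.leaf (2157, 63, 51)) (.leaf (3292, 80, 12)))) (.node 4342 (.node 4341 (.leaf (775, 169, 78)) (.leaf (4685, 15, 68))) (.node 4343 (.leaf (4202, 46, 47)) (.leaf (5591, 0, 0))))) (.node 4348 (.node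 4346 (.node 4345 (.leaf (3034, 147, 49)) (.leaf (5589, 209, 89))) (.node 4347 (.leaf (5593, 0, 0)) (.leaf (5595, 0, 0)))) (.node 4350 (.node 4349 (.leaf (5325, 115, 59)) (.leaf (1373, 163, 28))) (.node 4351 (.leaf (1739, 124, 42)) (.leaf (2736, 52, 19)))))))

def tEY_136 : BT (ℕ × ℕ × ℕ) := (.node 4368 (.node 4360 (.node 4356 (.node 4354 (.node 4353 (.leaf (5596, 0, 0)) (.leaf (1273, 3, 11))) (.node 4355 (.leaf (5598, 0, 0)) (.leaf (2542, 3, 20)))) (.node 4358 (.node 4357 (.leaf (4467, 150, 58)) (.leaf (5601, 0, 0))) (.node 4359 (.leaf (2428, 16, 4)) (.leaf (5594, 51, 52))))) (.node 4364 (.node 4362 (.node 4361 (.leaf (3874, 235, 19)) (.leaf (5332, 14, 29))) (.node 4363 (.leaf (5604, 0, 0)) (.leaf (2178, 104, 8)))) (.node 4366 (.node 4365 (.leaf (3456, 64, 8)) (.leaf (2771, 187, 61))) (.node 4367 (.leaf (2193, 161, 38)) (.leaf (5183, 128, 0)))))) (.node 4376 (.node 4372 (.node 4370 (.node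 4369 (.leaf (5608, 0, 0)) (.leaf (5609, 0, 0))) (.node 4371 (.leaf (3887, 249, 42)) (.leaf (463, 259, 27)))) (.node 4374 (.node 4373 (.leaf (1731, 119, 46)) (.leaf (5612, 0, 0))) (.node 4375 (.leaf (3501, 61, 33)) (.leaf (3968, 217, 52))))) (.node 4380 (.node 4378 (.node 4377 (.leaf (5614, 0, 0)) (.leaf (3756, 102, 29))) (.node 4379 (.leaf (5354, 111, 76)) (.leaf (4585, 22, 39)))) (.node 4382 (.node 4381 (.leaf (3657, 101, 78)) (.leaf (2451, 244, 15))) (.node 4383 (.leaf (150, 191, 15)) (.leaf (4339, 237, 43)))))))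

def tEY_137 : BT (ℕ × ℕ × ℕ) := (.node 4400 (.node 4392 (.node 4388 (.node 4386 (.node 4385 (.leaf (2399, 252, 15)) (.leaf (3057, 180, 34))) (.node 4387 (.leaf (4399, 40, 69)) (.leaf (2447, 0, 56)))) (.node 4390 (.node 4389 (.leaf (5076, 13, 71)) (.leaf (5620, 0, 0))) (.node 4391 (.leaf (5547, 144, 70)) (.leaf (5623, 0, 0))))) (.node 4396 (.node 4394 (.node 4393 (.leaf (3321, 21, 40)) (.leaf (5625, 0, 0))) (.node 4395 (.leaf (3455, 131, 48)) (.leaf (4338, 163, 12)))) (.node 4398 (.node 4397 (.leaf (5627, 0, 0)) (.leaf (2129, 99, 32))) (.node 4399 (.leaf (5628, 0, 0)) (.leaf (4836, 232, 69)))))) (.node 4408 (.node 4404 (.node 4402 (.node 4401 (.leaf (5630, 0, 0)) (.leaf (4613, 112, 30))) (.node 4403 (.leaf (2300, 175, 23)) (.leaf (5526, 4, 50)))) (.node 4406 (.node 4405 (.leaf (5631, 0, 0)) (.leaf (5632, 0, 0))) (.node 4407 (.leaf (5633, 0, 0)) (.leaf (5634, 0, 0))))) (.node 4412 (.node 4410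 (.node 4409 (.leaf (3197, 254, 51)) (.leaf (5016, 216, 7))) (.node 4411 (.leaf (5638, 0, 0)) (.leaf (5640, 0, 0)))) (.node 4414 (.node 4413 (.leaf (5599, 110, 65)) (.leaf (4776, 51, 42))) (.node 4415 (.leaf (5643, 0, 0)) (.leaf (5644, 0, 0)))))))

def tEY_138 : BT (ℕ × ℕ × ℕ) := (.node 4432 (.node 4424 (.node 4420 (.node 4418 (.node 4417 (.leaf (5646, 0, 0)) (.leaf (5648, 0, 0))) (.node 4419 (.leaf (5417, 247, 69)) (.leaf (5651, 0, 0)))) (.node 4422 (.node 4421 (.leaf (3735, 232, 54)) (.leaf (5653, 0, 0))) (.node 4423 (.leaf (5655, 0, 0)) (.leaf (5656, 0, 0))))) (.node 4428 (.node 4426 (.node 4425 (.leaf (1849, 10, 29)) (.leaf (5657, 0, 0))) (.node 4427 (.leaf (4098, 116, 88)) (.leaf (5659, 0, 0)))) (.node 4430 (.node 4429 (.leaf (5660, 0, 0)) (.leaf (2078, 143, 13))) (.node 4431 (.leaf (1277, 61, 59)) (.leaf (2137, 208, 23)))))) (.node 4440 (.node 4436 (.node 4434 (.node 4433 (.leaf (2885,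 41, 81)) (.leaf (2759, 253, 54))) (.node 4435 (.leaf (4865, 248, 83)) (.leaf (4555, 85, 71)))) (.node 4438 (.node 4437 (.leaf (3723, 123, 69)) (.leaf (2675, 260, 33))) (.node 4439 (.leaf (1424, 31, 21)) (.leaf (4910, 89, 46))))) (.node 4444 (.node 4442 (.node 4441 (.leaf (5665, 0, 0)) (.leaf (5666, 0, 0))) (.node 4443 (.leaf (5548, 154, 11)) (.leaf (4815, 236, 20)))) (.node 4446 (.node 4445 (.leaf (80, 242, 1)) (.leaf (3670, 193, 46))) (.node 4447 (.leaf (3125, 271, 82)) (.leaf (5668, 0, 0)))))))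

def tEY_139 : BT (ℕ × ℕ × ℕ) := (.node 4464 (.node 4456 (.node 4452 (.node 4450 (.node 4449 (.leaf (1135, 213, 67)) (.leaf (1570, 83, 26))) (.node 4451 (.leaf (2618, 135, 5)) (.leaf (5671, 0, 0)))) (.node 4454 (.node 4453 (.leaf (3482, 205, 53)) (.leaf (4062, 100, 76))) (.node 4455 (.leaf (4830, 158, 66)) (.leaf (5533, 196, 20))))) (.node 4460 (.node 4458 (.node 4457 (.leaf (3231, 10, 34)) (.leaf (4905, 157, 63))) (.node 4459 (.leaf (4917, 131, 22)) (.leaf (5334, 99, 23)))) (.node 4462 (.node 4461 (.leaf (5118, 171, 15)) (.leaf (3121, 72, 85))) (.node 4463 (.leaf (5677, 0, 0)) (.leaf (3282, 188, 11)))))) (.node 4472 (.node 4468 (.node 4466 (.node 4465 (.leaf (1648, 224, 55)) (.leaf (5522, 247, 66))) (.node 4467 (.leaf (4922, 104, 27)) (.leaf (2793, 23, 38)))) (.node 4470 (.node 4469 (.leaf (1265, 222, 0)) (.leaf (4824, 86, 84))) (.node 4471 (.leaf (3651, 48, 8)) (.leaf (4870, 113, 31)))))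 (.node 4476 (.node 4474 (.node 4473 (.leaf (2694, 245, 58)) (.leaf (5680, 0, 0))) (.node 4475 (.leaf (2375, 238, 28)) (.leaf (4049, 183, 27)))) (.node 4478 (.node 4477 (.leaf (4596, 6, 0)) (.leaf (991, 27, 18))) (.node 4479 (.leaf (4898, 226, 20)) (.leaf (4626, 253, 3)))))))

def tEY_140 : BT (ℕ × ℕ × ℕ) := (.node 4496 (.node 4488 (.node 4484 (.node 4482 (.node 4481 (.leaf (5684, 0, 0)) (.leaf (4746, 235, 76))) (.node 4483 (.leaf (4018, 230, 69)) (.leaf (4209, 9, 68)))) (.node 4486 (.node 4485 (.leaf (5687, 0, 0)) (.leaf (5673, 212, 11))) (.node 4487 (.leaf (5688, 0, 0)) (.leaf (4150, 129, 85))))) (.node 4492 (.node 4490 (.node 4489 (.leaf (2964, 259, 25)) (.leaf (4133, 229, 62))) (.node 4491 (.leaf (5692, 0, 0)) (.leaf (5693, 0, 0)))) (.node 4494 (.node 4493 (.leaf (453, 155, 31)) (.leaf (188, 111, 44))) (.node 4495 (.leaf (3701, 42, 57)) (.leaf (5536, 176, 0)))))) (.node 4504 (.node 4500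 (.node 4498 (.node 4497 (.leaf (3704, 88, 41)) (.leaf (1181, 31, 41))) (.node 4499 (.leaf (5695, 0, 0)) (.leaf (2086, 188, 35)))) (.node 4502 (.node 4501 (.leaf (3958, 255, 38)) (.leaf (5696, 0, 0))) (.node 4503 (.leaf (3503, 8, 60)) (.leaf (5697, 0, 0))))) (.node 4508 (.node 4506 (.node 4505 (.leaf (4806, 229, 48)) (.leaf (848, 88, 65))) (.node 4507 (.leaf (5698, 0, 0)) (.leaf (1788, 217, 37)))) (.node 4510 (.node 4509 (.leaf (5039, 205, 72)) (.leaf (5700, 0, 0))) (.node 4511 (.leaf (3343, 157, 25)) (.leaf (5649, 1, 50)))))))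

def tEY_141 : BT (ℕ × ℕ × ℕ) := (.node 4528 (.node 4520 (.node 4516 (.node 4514 (.node 4513 (.leaf (5704, 0, 0)) (.leaf (5705, 0, 0))) (.node 4515 (.leaf (5706, 0, 0)) (.leaf (5708, 0, 0)))) (.node 4518 (.node 4517 (.leaf (4997, 127, 68)) (.leaf (2956, 99, 65))) (.node 4519 (.leaf (3839, 36, 81)) (.leaf (5507, 84, 87))))) (.node 4524 (.node 4522 (.node 4521 (.leaf (5711, 0, 0)) (.leaf (4185, 233, 63))) (.node 4523 (.leaf (5712, 0, 0)) (.leaf (879, 227, 23)))) (.node 4526 (.node 4525 (.leaf (2195, 265, 29)) (.leaf (534, 75, 0))) (.node 4527 (.leaf (823, 33, 55)) (.leaf (5714, 0, 0)))))) (.node 4536 (.node 4532 (.node 4530 (.node 4529 (.leaf (4405, 108, 71)) (.leaf (5715, 0, 0))) (.node 4531 (.leaf (5637, 47, 4)) (.leaf (1115, 135, 20)))) (.node 4534 (.node 4533 (.leaf (1109, 244, 45)) (.leaf (3646, 3, 32))) (.node 4535 (.leaf (399, 235, 35)) (.leaf (1932, 230, 3))))) (.node 4540 (.node 4538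 (.node 4537 (.leaf (5717, 0, 0)) (.leaf (5703, 244, 28))) (.node 4539 (.leaf (5699, 247, 72)) (.leaf (5602, 219, 84)))) (.node 4542 (.node 4541 (.leaf (2064, 33, 1)) (.leaf (2898, 49, 16))) (.node 4543 (.leaf (5719, 0, 0)) (.leaf (5410, 147, 55)))))))

def tEY_142 : BT (ℕ × ℕ × ℕ) := (.node 4560 (.node 4552 (.node 4548 (.node 4546 (.node 4545 (.leaf (5720, 0, 0)) (.leaf (5721, 0, 0))) (.node 4547 (.leaf (4775, 137, 83)) (.leaf (5436, 223, 57)))) (.node 4550 (.node 4549 (.leaf (4035, 71, 45)) (.leaf (5723, 0, 0))) (.node 4551 (.leaf (5090, 97, 53)) (.leaf (2934, 133, 10))))) (.node 4556 (.node 4554 (.node 4553 (.leaf (5726, 0, 0)) (.leaf (5727, 0, 0))) (.node 4555 (.leaf (5729, 0, 0)) (.leaf (1866, 142, 24)))) (.node 4558 (.node 4557 (.leaf (5730, 0, 0)) (.leaf (4755, 61, 71))) (.node 4559 (.leaf (5124, 228, 56)) (.leaf (5732, 0, 0)))))) (.node 4568 (.node 4564 (.node 4562 (.node 4561 (.leaf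 (5433, 83, 39)) (.leaf (4438, 45, 81))) (.node 4563 (.leaf (3580, 168, 0)) (.leaf (5734, 0, 0)))) (.node 4566 (.node 4565 (.leaf (1831, 267, 33)) (.leaf (5105, 148, 20))) (.node 4567 (.leaf (4247, 253, 88)) (.leaf (4120, 91, 7))))) (.node 4572 (.node 4570 (.node 4569 (.leaf (5737, 0, 0)) (.leaf (5738, 0, 0))) (.node 4571 (.leaf (2020, 12, 76)) (.leaf (3459, 13, 20)))) (.node 4574 (.node 4573 (.leaf (5501, 31, 3)) (.leaf (1853, 223, 50))) (.node 4575 (.leaf (4089, 31, 88)) (.leaf (3410, 263, 83)))))))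

def tEY_143 : BT (ℕ × ℕ × ℕ) := (.node 4592 (.node 4584 (.node 4580 (.node 4578 (.node 4577 (.leaf (5742, 0, 0)) (.leaf (1923, 221, 84))) (.node 4579 (.leaf (3206, 20, 84)) (.leaf (5744, 0, 0)))) (.node 4582 (.node 4581 (.leaf (5745, 0, 0)) (.leaf (5746, 0, 0))) (.node 4583 (.leaf (5747, 0, 0)) (.leaf (5562, 77, 35))))) (.node 4588 (.node 4586 (.node 4585 (.leaf (1761, 110, 65)) (.leaf (738, 264, 4))) (.node 4587 (.leaf (5751, 0, 0)) (.leaf (2816, 64, 56)))) (.node 4590 (.node 4589 (.leaf (5752, 0, 0)) (.leaf (5753, 0, 0))) (.node 4591 (.leaf (2711, 75, 26)) (.leaf (4913, 26, 27)))))) (.node 4600 (.node 4596 (.node 4594 (.node 4593 (.leaf (4470, 58, 42)) (.leaf (4708, 1, 24))) (.node 4595 (.leaf (5307, 29, 12)) (.leaf (5757, 0, 0)))) (.node 4598 (.node 4597 (.leaf (3405, 88, 84)) (.leaf (3668, 268, 30))) (.node 4599 (.leaf (5707, 115, 26)) (.leaf (3884, 210, 32))))) (.node 4604 (.node 4602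 (.node 4601 (.leaf (5760, 0, 0)) (.leaf (5321, 40, 79))) (.node 4603 (.leaf (980, 6, 2)) (.leaf (5762, 0, 0)))) (.node 4606 (.node 4605 (.leaf (4959, 167, 23)) (.leaf (5763, 0, 0))) (.node 4607 (.leaf (5071, 126, 73)) (.leaf (4496, 193, 55)))))))

def tEY_144 : BT (ℕ × ℕ × ℕ) := (.node 4624 (.node 4616 (.node 4612 (.node 4610 (.node 4609 (.leaf (5765, 0, 0)) (.leaf (5767, 0, 0))) (.node 4611 (.leaf (3330, 158, 59)) (.leaf (4848, 89, 6)))) (.node 4614 (.node 4613 (.leaf (4007, 61, 62)) (.leaf (5554, 224, 80))) (.node 4615 (.leaf (1349, 86, 8)) (.leaf (5678, 47, 12))))) (.node 4620 (.node 4618 (.node 4617 (.leaf (780, 10, 52)) (.leaf (4723, 179, 8))) (.node 4619 (.leaf (3048, 267, 82)) (.leaf (2252, 129, 66)))) (.node 4622 (.node 4621 (.leaf (4955, 45, 80)) (.leaf (4887, 152, 14))) (.node 4623 (.leaf (2788, 22, 31)) (.leaf (3471, 242, 47)))))) (.node 4632 (.node 4628 (.node 4626 (.node 4625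 (.leaf (744, 229, 70)) (.leaf (5774, 0, 0))) (.node 4627 (.leaf (3223, 59, 51)) (.leaf (2518, 214, 22)))) (.node 4630 (.node 4629 (.leaf (3697, 246, 56)) (.leaf (2238, 21, 9))) (.node 4631 (.leaf (5221, 163, 74)) (.leaf (4943, 163, 42))))) (.node 4636 (.node 4634 (.node 4633 (.leaf (3644, 24, 31)) (.leaf (5164, 14, 54))) (.node 4635 (.leaf (5777, 0, 0)) (.leaf (5778, 0, 0)))) (.node 4638 (.node 4637 (.leaf (5780, 0, 0)) (.leaf (316, 43, 32))) (.node 4639 (.leaf (1053, 151, 5)) (.leaf (4738, 58, 81)))))))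

def tEY_145 : BT (ℕ × ℕ × ℕ) := (.node 4656 (.node 4648 (.node 4644 (.node 4642 (.node 4641 (.leaf (4330, 113, 56)) (.leaf (5782, 0, 0))) (.node 4643 (.leaf (5783, 0, 0)) (.leaf (3151, 262, 23)))) (.node 4646 (.node 4645 (.leaf (2393, 48, 43)) (.leaf (1559, 76, 73))) (.node 4647 (.leaf (5785, 0, 0)) (.leaf (3370, 29, 75))))) (.node 4652 (.node 4650 (.node 4649 (.leaf (4574, 101, 42)) (.leaf (4686, 16, 50))) (.node 4651 (.leaf (2742, 52, 18)) (.leaf (5425, 135, 42)))) (.node 4654 (.node 4653 (.leaf (1212, 175, 8)) (.leaf (3043, 102, 16))) (.node 4655 (.leaf (4039, 163, 55)) (.leaf (3326, 59, 13)))))) (.node 4664 (.node 4660 (.node 4658 (.node 4657 (.leaf (5787, 0, 0)) (.leaf (5789, 0, 0))) (.node 4659 (.leaf (5088, 46, 44)) (.leaf (3362, 124, 46)))) (.node 4662 (.node 4661 (.leaf (658, 164, 75)) (.leaf (3730, 189, 49))) (.node 4663 (.leaf (3277, 47, 79)) (.leaf (4739, 111, 32))))) (.node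 4668 (.node 4666 (.node 4665 (.leaf (5790, 0, 0)) (.leaf (4730, 220, 58))) (.node 4667 (.leaf (4990, 221, 3)) (.leaf (1721, 151, 46)))) (.node 4670 (.node 4669 (.leaf (5791, 0, 0)) (.leaf (5792, 0, 0))) (.node 4671 (.leaf (4420, 74, 78)) (.leaf (5759, 229, 50)))))))

def tEY_146 : BT (ℕ × ℕ × ℕ) := (.node 4688 (.node 4680 (.node 4676 (.node 4674 (.node 4673 (.leaf (2362, 3, 54)) (.leaf (4261, 38, 55))) (.node 4675 (.leaf (5652, 52, 87)) (.leaf (4880, 152, 82)))) (.node 4678 (.node 4677 (.leaf (3672, 46, 84)) (.leaf (3306, 146, 54))) (.node 4679 (.leaf (475, 7, 54)) (.leaf (4935, 146, 47))))) (.node 4684 (.node 4682 (.node 4681 (.leaf (2797, 103, 64)) (.leaf (5690, 77, 66))) (.node 4683 (.leaf (2692, 171, 65)) (.leaf (1454, 145, 41)))) (.node 4686 (.node 4685 (.leaf (5113, 198, 26)) (.leaf (4784, 147, 61))) (.node 4687 (.leaf (4037, 253, 5)) (.leaf (5798, 0, 0)))))) (.node 4696 (.node 4692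 (.node 4690 (.node 4689 (.leaf (5770, 70, 6)) (.leaf (4733, 132, 49))) (.node 4691 (.leaf (2379, 204, 5)) (.leaf (3090, 149, 1)))) (.node 4694 (.node 4693 (.leaf (5801, 0, 0)) (.leaf (5803, 0, 0))) (.node 4695 (.leaf (5580, 105, 82)) (.leaf (1019, 244, 72))))) (.node 4700 (.node 4698 (.node 4697 (.leaf (2740, 215, 0)) (.leaf (3496, 22, 5))) (.node 4699 (.leaf (1201, 141, 58)) (.leaf (2765, 43, 7)))) (.node 4702 (.node 4701 (.leaf (2044, 125, 37)) (.leaf (5805, 0, 0))) (.node 4703 (.leaf (5806, 0, 0)) (.leaf (1652, 140, 42)))))))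

def tEY_147 : BT (ℕ × ℕ × ℕ) := (.node 4720 (.node 4712 (.node 4708 (.node 4706 (.node 4705 (.leaf (5807, 0, 0)) (.leaf (3346, 23, 30))) (.node 4707 (.leaf (4441, 95, 81)) (.leaf (742, 11, 45)))) (.node 4710 (.node 4709 (.leaf (5809, 0, 0)) (.leaf (3397, 16, 30))) (.node 4711 (.leaf (4821, 222, 59)) (.leaf (1580, 205, 15))))) (.node 4716 (.node 4714 (.node 4713 (.leaf (5811, 0, 0)) (.leaf (1344, 222, 7))) (.node 4715 (.leaf (5213, 256, 61)) (.leaf (433, 256, 16)))) (.node 4718 (.node 4717 (.leaf (5728, 211, 54)) (.leaf (648, 245, 1))) (.node 4719 (.leaf (3210, 43, 6)) (.leaf (1476, 123, 83)))))) (.node 4728 (.node 4724 (.node 4722 (.node 4721 (.leaf (5814, 0, 0)) (.leaf (5069, 74, 5))) (.node 4723 (.leaf (5815, 0, 0)) (.leaf (5816, 0, 0)))) (.node 4726 (.node 4725 (.leaf (464, 249, 89)) (.leaf (3840, 238, 57))) (.node 4727 (.leaf (5335, 2, 71)) (.leaf (5818, 0, 0))))) (.node 4732 (.node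 4730 (.node 4729 (.leaf (5819, 0, 0)) (.leaf (3389, 6, 41))) (.node 4731 (.leaf (4968, 77, 28)) (.leaf (3411, 116, 72)))) (.node 4734 (.node 4733 (.leaf (5768, 129, 21)) (.leaf (959, 168, 17))) (.node 4735 (.leaf (3061, 180, 27)) (.leaf (5824, 0, 0)))))))

def tEY_148 : BT (ℕ × ℕ × ℕ) := (.node 4752 (.node 4744 (.node 4740 (.node 4738 (.node 4737 (.leaf (5825, 0, 0)) (.leaf (5826, 0, 0))) (.node 4739 (.leaf (3470, 43, 30)) (.leaf (5740, 130, 12)))) (.node 4742 (.node 4741 (.leaf (644, 157, 1)) (.leaf (5828, 0, 0))) (.node 4743 (.leaf (2236, 172, 73)) (.leaf (3182, 200, 10))))) (.node 4748 (.node 4746 (.node 4745 (.leaf (3091, 108, 13)) (.leaf (3933, 190, 27))) (.node 4747 (.leaf (5830, 0, 0)) (.leaf (5180, 132, 76)))) (.node 4750 (.node 4749 (.leaf (5832, 0, 0)) (.leaf (4295, 41, 8))) (.node 4751 (.leaf (5835, 0, 0)) (.leaf (5837, 0, 0)))))) (.node 4760 (.node 4756 (.node 4754 (.node 4753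 (.leaf (3582, 234, 41)) (.leaf (5437, 83, 38))) (.node 4755 (.leaf (2261, 163, 55)) (.leaf (1179, 158, 48)))) (.node 4758 (.node 4757 (.leaf (4082, 237, 52)) (.leaf (2281, 16, 29))) (.node 4759 (.leaf (5839, 0, 0)) (.leaf (536, 25, 82))))) (.node 4764 (.node 4762 (.node 4761 (.leaf (5182, 210, 5)) (.leaf (5842, 0, 0))) (.node 4763 (.leaf (3848, 191, 7)) (.leaf (5843, 0, 0)))) (.node 4766 (.node 4765 (.leaf (5844, 0, 0)) (.leaf (4245, 84, 14))) (.node 4767 (.leaf (2791, 81, 84)) (.leaf (368, 101, 30)))))))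

def tEY_149 : BT (ℕ × ℕ × ℕ) := (.node 4784 (.node 4776 (.node 4772 (.node 4770 (.node 4769 (.leaf (5362, 118, 75)) (.leaf (2817, 251, 55))) (.node 4771 (.leaf (5045, 144, 58)) (.leaf (3513, 211, 8)))) (.node 4774 (.node 4773 (.leaf (5846, 0, 0)) (.leaf (2322, 85, 61))) (.node 4775 (.leaf (1518, 121, 38)) (.leaf (3518, 165, 78))))) (.node 4780 (.node 4778 (.node 4777 (.leaf (5847, 0, 0)) (.leaf (5849, 0, 0))) (.node 4779 (.leaf (4916, 249, 40)) (.leaf (3118, 122, 4)))) (.node 4782 (.node 4781 (.leaf (4516, 212, 14)) (.leaf (5853, 0, 0))) (.node 4783 (.leaf (4655, 222, 10)) (.leaf (2639, 161, 32)))))) (.node 4792 (.node 4788 (.node 4786 (.node 4785 (.leaf (518, 58, 57)) (.leaf (1740, 201, 32))) (.node 4787 (.leaf (5855, 0, 0)) (.leaf (5450, 61, 22)))) (.node 4790 (.node 4789 (.leaf (4737, 172, 29)) (.leaf (2995, 184, 61))) (.node 4791 (.leaf (4425, 36, 75)) (.leaf (932, 22, 24))))) (.node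 4796 (.node 4794 (.node 4793 (.leaf (4199, 238, 29)) (.leaf (5370, 93, 19))) (.node 4795 (.leaf (4852, 173, 72)) (.leaf (5415, 78, 8)))) (.node 4798 (.node 4797 (.leaf (2510, 181, 60)) (.leaf (5481, 73, 85))) (.node 4799 (.leaf (3583, 111, 1)) (.leaf (3533, 216, 40)))))))

def tEY_150 : BT (ℕ × ℕ × ℕ) := (.node 4816 (.node 4808 (.node 4804 (.node 4802 (.node 4801 (.leaf (5857, 0, 0)) (.leaf (1966, 159, 21))) (.node 4803 (.leaf (5553, 157, 86)) (.leaf (5858, 0, 0)))) (.node 4806 (.node 4805 (.leaf (4700, 83, 2)) (.leaf (4982, 122, 74))) (.node 4807 (.leaf (34, 177, 42)) (.leaf (5859, 0, 0))))) (.node 4812 (.node 4810 (.node 4809 (.leaf (799, 33, 30)) (.leaf (1744, 89, 65))) (.node 4811 (.leaf (4877, 159, 9)) (.leaf (28, 184, 26)))) (.node 4814 (.node 4813 (.leaf (2183, 145, 25)) (.leaf (5860, 0, 0))) (.node 4815 (.leaf (3590, 110, 36)) (.leaf (3237, 244, 6)))))) (.node 4824 (.node 4820 (.node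 4818 (.node 4817 (.leaf (5861, 0, 0)) (.leaf (158, 254, 77))) (.node 4819 (.leaf (5862, 0, 0)) (.leaf (2679, 9, 33)))) (.node 4822 (.node 4821 (.leaf (5686, 161, 46)) (.leaf (272, 25, 62))) (.node 4823 (.leaf (1403, 80, 19)) (.leaf (5256, 117, 76))))) (.node 4828 (.node 4826 (.node 4825 (.leaf (5592, 211, 65)) (.leaf (1823, 236, 40))) (.node 4827 (.leaf (5865, 0, 0)) (.leaf (5866, 0, 0)))) (.node 4830 (.node 4829 (.leaf (5743, 236, 61)) (.leaf (720, 115, 60))) (.node 4831 (.leaf (3030, 190, 58)) (.leaf (5868, 0, 0)))))))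

def tEY_151 : BT (ℕ × ℕ × ℕ) := (.node 4848 (.node 4840 (.node 4836 (.node 4834 (.node 4833 (.leaf (4707, 129, 48)) (.leaf (2828, 122, 9))) (.node 4835 (.leaf (5869, 0, 0)) (.leaf (3108, 164, 85)))) (.node 4838 (.node 4837 (.leaf (5870, 0, 0)) (.leaf (1147, 226, 3))) (.node 4839 (.leaf (5120, 20, 89)) (.leaf (1538, 157, 69))))) (.node 4844 (.node 4842 (.node 4841 (.leaf (5345, 85, 56)) (.leaf (5872, 0, 0))) (.node 4843 (.leaf (5873, 0, 0)) (.leaf (954, 185, 44)))) (.node 4846 (.node 4845 (.leaf (2348, 7, 69)) (.leaf (5781, 44, 73))) (.node 4847 (.leaf (2982, 76, 71)) (.leaf (5875, 0, 0)))))) (.node 4856 (.node 4852 (.node 4850 (.node 4849 (.leaf (4474, 91, 4)) (.leaf (4995, 237, 76))) (.node 4851 (.leaf (5851, 155, 42)) (.leaf (5218, 108, 38)))) (.node 4854 (.node 4853 (.leaf (5876, 0, 0)) (.leaf (4719, 112, 0))) (.node 4855 (.leaf (2486, 11, 77)) (.leaf (4947, 165, 22))))) (.node 4860 (.node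 4858 (.node 4857 (.leaf (4269, 86, 24)) (.leaf (5766, 187, 45))) (.node 4859 (.leaf (584, 254, 80)) (.leaf (2096, 193, 51)))) (.node 4862 (.node 4861 (.leaf (1836, 205, 67)) (.leaf (5561, 14, 87))) (.node 4863 (.leaf (5613, 243, 12)) (.leaf (2718, 135, 73)))))))

def tEY_152 : BT (ℕ × ℕ × ℕ) := (.node 4880 (.node 4872 (.node 4868 (.node 4866 (.node 4865 (.leaf (2861, 143, 42)) (.leaf (2318, 86, 4))) (.node 4867 (.leaf (3218, 21, 72)) (.leaf (3687, 66, 33)))) (.node 4870 (.node 4869 (.leaf (4138, 106, 55)) (.leaf (5883, 0, 0))) (.node 4871 (.leaf (5854, 221, 41)) (.leaf (5884, 0, 0))))) (.node 4876 (.node 4874 (.node 4873 (.leaf (1634, 235, 77)) (.leaf (5096, 242, 50))) (.node 4875 (.leaf (3146, 92, 73)) (.leaf (298, 134, 5)))) (.node 4878 (.node 4877 (.leaf (5115, 64, 7)) (.leaf (4851, 175, 68))) (.node 4879 (.leaf (5886, 0, 0)) (.leaf (1290, 42, 14)))))) (.node 4888 (.node 4884 (.node 4882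 (.node 4881 (.leaf (5887, 0, 0)) (.leaf (5889, 0, 0))) (.node 4883 (.leaf (3754, 234, 11)) (.leaf (5890, 0, 0)))) (.node 4886 (.node 4885 (.leaf (5521, 116, 3)) (.leaf (4899, 107, 83))) (.node 4887 (.leaf (5667, 151, 34)) (.leaf (4454, 67, 89))))) (.node 4892 (.node 4890 (.node 4889 (.leaf (3101, 267, 23)) (.leaf (5892, 0, 0))) (.node 4891 (.leaf (660, 117, 66)) (.leaf (3385, 262, 74)))) (.node 4894 (.node 4893 (.leaf (3909, 207, 22)) (.leaf (5442, 51, 43))) (.node 4895 (.leaf (3890, 215, 59)) (.leaf (5896, 0, 0)))))))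

def tEY_153 : BT (ℕ × ℕ × ℕ) := (.node 4912 (.node 4904 (.node 4900 (.node 4898 (.node 4897 (.leaf (5786, 40, 25)) (.leaf (5776, 94, 66))) (.node 4899 (.leaf (5897, 0, 0)) (.leaf (3899, 103, 40)))) (.node 4902 (.node 4901 (.leaf (5138, 231, 87)) (.leaf (1557, 266, 27))) (.node 4903 (.leaf (5748, 234, 76)) (.leaf (5617, 221, 36))))) (.node 4908 (.node 4906 (.node 4905 (.leaf (4300, 179, 54)) (.leaf (5900, 0, 0))) (.node 4907 (.leaf (888, 151, 43)) (.leaf (5573, 117, 66)))) (.node 4910 (.node 4909 (.leaf (5488, 178, 42)) (.leaf (3430, 49, 20))) (.node 4911 (.leaf (5691, 76, 31)) (.leaf (5799, 136, 14)))))) (.node 4920 (.node 4916 (.node 4914 (.node 4913 (.leaf (5616, 81, 89)) (.leaf (5056, 130, 7))) (.node 4915 (.leaf (4942, 85, 79)) (.leaf (3664, 135, 79)))) (.node 4918 (.node 4917 (.leaf (5903, 0, 0)) (.leaf (5904, 0, 0))) (.node 4919 (.leaf (2643, 222, 19)) (.leaf (2480, 61, 59))))) (.node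 4924 (.node 4922 (.node 4921 (.leaf (5905, 0, 0)) (.leaf (4901, 173, 15))) (.node 4923 (.leaf (130, 130, 30)) (.leaf (5662, 232, 22)))) (.node 4926 (.node 4925 (.leaf (1707, 232, 57)) (.leaf (5907, 0, 0))) (.node 4927 (.leaf (5908, 0, 0)) (.leaf (805, 201, 87)))))))

def tEY_154 : BT (ℕ × ℕ × ℕ) := (.node 4944 (.node 4936 (.node 4932 (.node 4930 (.node 4929 (.leaf (4855, 184, 10)) (.leaf (5579, 0, 22))) (.node 4931 (.leaf (3443, 68, 27)) (.leaf (5910, 0, 0)))) (.node 4934 (.node 4933 (.leaf (2832, 144, 66)) (.leaf (5911, 0, 0))) (.node 4935 (.leaf (4001, 66, 52)) (.leaf (5455, 168, 53))))) (.node 4940 (.node 4938 (.node 4937 (.leaf (5913, 0, 0)) (.leaf (5914, 0, 0))) (.node 4939 (.leaf (4891, 80, 42)) (.leaf (4207, 210, 1)))) (.node 4942 (.node 4941 (.leaf (5333, 269, 48)) (.leaf (1574, 92, 84))) (.node 4943 (.leaf (3293, 178, 9)) (.leaf (5310, 208, 82)))))) (.node 4952 (.node 4948 (.node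 4946 (.node 4945 (.leaf (710, 5, 30)) (.leaf (5286, 82, 73))) (.node 4947 (.leaf (3560, 2, 72)) (.leaf (5918, 0, 0)))) (.node 4950 (.node 4949 (.leaf (3817, 144, 77)) (.leaf (5057, 258, 19))) (.node 4951 (.leaf (2488, 52, 5)) (.leaf (4964, 106, 77))))) (.node 4956 (.node 4954 (.node 4953 (.leaf (797, 21, 78)) (.leaf (4354, 237, 34))) (.node 4955 (.leaf (5919, 0, 0)) (.leaf (5600, 122, 41)))) (.node 4958 (.node 4957 (.leaf (5468, 110, 6)) (.leaf (122, 124, 7))) (.node 4959 (.leaf (1036, 195, 82)) (.leaf (708, 160, 31)))))))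

def tEY_155 : BT (ℕ × ℕ × ℕ) := (.node 4976 (.node 4968 (.node 4964 (.node 4962 (.node 4961 (.leaf (2391, 94, 30)) (.leaf (5618, 94, 16))) (.node 4963 (.leaf (2277, 137, 21)) (.leaf (3327, 110, 35)))) (.node 4966 (.node 4965 (.leaf (4884, 91, 79)) (.leaf (5624, 220, 21))) (.node 4967 (.leaf (5343, 201, 31)) (.leaf (5416, 263, 20))))) (.node 4972 (.node 4970 (.node 4969 (.leaf (2984, 185, 6)) (.leaf (1497, 83, 44))) (.node 4971 (.leaf (629, 148, 50)) (.leaf (5874, 5, 38)))) (.node 4974 (.node 4973 (.leaf (5922, 0, 0)) (.leaf (2749, 200, 31))) (.node 4975 (.leaf (5924, 0, 0)) (.leaf (4075, 171, 78)))))) (.node 4984 (.node 4980 (.node 4978 (.node 4977 (.leaf (5925, 0, 0)) (.leaf (5926, 0, 0))) (.node 4979 (.leaf (2608, 49, 85)) (.leaf (5741, 62, 74)))) (.node 4982 (.node 4981 (.leaf (5731, 8, 2)) (.leaf (3829, 152, 68))) (.node 4983 (.leaf (5928, 0, 0)) (.leaf (5929, 0, 0))))) (.node 4988 (.node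 4986 (.node 4985 (.leaf (664, 53, 41)) (.leaf (3721, 18, 85))) (.node 4987 (.leaf (5441, 158, 17)) (.leaf (3019, 237, 16)))) (.node 4990 (.node 4989 (.leaf (5199, 196, 54)) (.leaf (3927, 225, 42))) (.node 4991 (.leaf (5458, 65, 69)) (.leaf (5456, 172, 18)))))))

def tEY_156 : BT (ℕ × ℕ × ℕ) := (.node 5008 (.node 5000 (.node 4996 (.node 4994 (.node 4993 (.leaf (5840, 87, 10)) (.leaf (4617, 43, 15))) (.node 4995 (.leaf (2775, 63, 39)) (.leaf (4235, 236, 69)))) (.node 4998 (.node 4997 (.leaf (4377, 128, 67)) (.leaf (4415, 49, 67))) (.node 4999 (.leaf (5934, 0, 0)) (.leaf (4727, 130, 46))))) (.node 5004 (.node 5002 (.node 5001 (.leaf (5557, 191, 9)) (.leaf (2315, 165, 4))) (.node 5003 (.leaf (5936, 0, 0)) (.leaf (2483, 117, 23)))) (.node 5006 (.node 5005 (.leaf (5038, 63, 73)) (.leaf (561, 12, 89))) (.node 5007 (.leaf (4094, 36, 88)) (.leaf (3338, 27, 82)))))) (.node 5016 (.node 5012 (.node 5010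 (.node 5009 (.leaf (4541, 18, 74)) (.leaf (4802, 3, 66))) (.node 5011 (.leaf (5545, 226, 53)) (.leaf (5940, 0, 0)))) (.node 5014 (.node 5013 (.leaf (4285, 143, 24)) (.leaf (2777, 189, 66))) (.node 5015 (.leaf (5672, 91, 69)) (.leaf (5943, 0, 0))))) (.node 5020 (.node 5018 (.node 5017 (.leaf (2009, 261, 83)) (.leaf (840, 217, 30))) (.node 5019 (.leaf (5945, 0, 0)) (.leaf (5946, 0, 0)))) (.node 5022 (.node 5021 (.leaf (5260, 233, 59)) (.leaf (5512, 113, 22))) (.node 5023 (.leaf (4749, 227, 37)) (.leaf (3252, 110, 17)))))))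

def tEY_157 : BT (ℕ × ℕ × ℕ) := (.node 5040 (.node 5032 (.node 5028 (.node 5026 (.node 5025 (.leaf (2629, 236, 56)) (.leaf (3845, 125, 11))) (.node 5027 (.leaf (1040, 44, 71)) (.leaf (4691, 51, 10)))) (.node 5030 (.node 5029 (.leaf (3166, 108, 89)) (.leaf (1464, 182, 4))) (.node 5031 (.leaf (1045, 170, 17)) (.leaf (5951, 0, 0))))) (.node 5036 (.node 5034 (.node 5033 (.leaf (1003, 83, 53)) (.leaf (5856, 140, 75))) (.node 5035 (.leaf (5021, 131, 37)) (.leaf (5689, 247, 60)))) (.node 5038 (.node 5037 (.leaf (5952, 0, 0)) (.leaf (3342, 108, 2))) (.node 5039 (.leaf (5749, 151, 0)) (.leaf (2912, 214, 27)))))) (.node 5048 (.node 5044 (.node 5042 (.node 5041 (.leaf (5186, 3, 33)) (.leaf (1165, 243, 72))) (.node 5043 (.leaf (1623, 54, 70)) (.leaf (2730, 11, 55)))) (.node 5046 (.node 5045 (.leaf (5804, 96, 17)) (.leaf (3791, 197, 53))) (.node 5047 (.leaf (4362, 120, 59)) (.leaf (3074, 162, 79)))))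 (.node 5052 (.node 5050 (.node 5049 (.leaf (3850, 63, 0)) (.leaf (2103, 237, 62))) (.node 5051 (.leaf (1964, 20, 87)) (.leaf (5167, 7, 17)))) (.node 5054 (.node 5053 (.leaf (3545, 94, 17)) (.leaf (5955, 0, 0))) (.node 5055 (.leaf (2595, 31, 47)) (.leaf (2038, 263, 4)))))))

def tEY_158 : BT (ℕ × ℕ × ℕ) := (.node 5072 (.node 5064 (.node 5060 (.node 5058 (.node 5057 (.leaf (5956, 0, 0)) (.leaf (310, 224, 63))) (.node 5059 (.leaf (5607, 27, 6)) (.leaf (5958, 0, 0)))) (.node 5062 (.node 5061 (.leaf (3066, 221, 87)) (.leaf (4817, 77, 15))) (.node 5063 (.leaf (5895, 159, 33)) (.leaf (5407, 2, 77))))) (.node 5068 (.node 5066 (.node 5065 (.leaf (1548, 14, 85)) (.leaf (4771, 153, 39))) (.node 5067 (.leaf (5724, 108, 36)) (.leaf (5245, 129, 8)))) (.node 5070 (.node 5069 (.leaf (3584, 178, 77)) (.leaf (5733, 102, 15))) (.node 5071 (.leaf (4404, 261, 20)) (.leaf (4743, 21, 78)))))) (.node 5080 (.node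 5076 (.node 5074 (.node 5073 (.leaf (5920, 99, 20)) (.leaf (5962, 0, 0))) (.node 5075 (.leaf (62, 217, 64)) (.leaf (5964, 0, 0)))) (.node 5078 (.node 5077 (.leaf (5031, 144, 10)) (.leaf (5965, 0, 0))) (.node 5079 (.leaf (5880, 227, 26)) (.leaf (5511, 78, 3))))) (.node 5084 (.node 5082 (.node 5081 (.leaf (5909, 224, 22)) (.leaf (4217, 67, 65))) (.node 5083 (.leaf (427, 28, 49)) (.leaf (1338, 175, 13)))) (.node 5086 (.node 5085 (.leaf (5966, 8, 70)) (.leaf (4869, 58, 41))) (.node 5087 (.leaf (5948, 72, 37)) (.leaf (2144, 71, 18)))))))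

def tEY_159 : BT (ℕ × ℕ × ℕ) := (.node 5104 (.node 5096 (.node 5092 (.node 5090 (.node 5089 (.leaf (5761, 139, 42)) (.leaf (1044, 19, 67))) (.node 5091 (.leaf (5970, 0, 0)) (.leaf (2544, 268, 85)))) (.node 5094 (.node 5093 (.leaf (5356, 153, 10)) (.leaf (5282, 59, 49))) (.node 5095 (.leaf (3881, 116, 74)) (.leaf (4726, 46, 13))))) (.node 5100 (.node 5098 (.node 5097 (.leaf (4930, 207, 44)) (.leaf (5972, 0, 0))) (.node 5099 (.leaf (5773, 223, 81)) (.leaf (4066, 167, 72)))) (.node 5102 (.node 5101 (.leaf (1437, 184, 32)) (.leaf (5817, 204, 63))) (.node 5103 (.leaf (4966, 144, 14)) (.leaf (5961, 154, 44)))))) (.node 5112 (.node 5108 (.node 5106 (.node 5105 (.leaf (4965, 118, 56)) (.leaf (2975, 213, 82))) (.node 5107 (.leaf (5949, 142, 1)) (.leaf (1725, 228, 53)))) (.node 5110 (.node 5109 (.leaf (4281, 114, 57)) (.leaf (782, 24, 83))) (.node 5111 (.leaf (5360, 34, 56)) (.leaf (4607, 43, 78)))))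 (.node 5116 (.node 5114 (.node 5113 (.leaf (5196, 174, 17)) (.leaf (2574, 42, 57))) (.node 5115 (.leaf (706, 66, 47)) (.leaf (5217, 101, 14)))) (.node 5118 (.node 5117 (.leaf (1259, 245, 48)) (.leaf (1667, 205, 4))) (.node 5119 (.leaf (5976, 0, 0)) (.leaf (5131, 7, 41)))))))

def tEY_160 : BT (ℕ × ℕ × ℕ) := (.node 5136 (.node 5128 (.node 5124 (.node 5122 (.node 5121 (.leaf (4157, 48, 53)) (.leaf (5978, 0, 0))) (.node 5123 (.leaf (5635, 142, 82)) (.leaf (4857, 111, 49)))) (.node 5126 (.node 5125 (.leaf (5685, 164, 25)) (.leaf (2513, 75, 0))) (.node 5127 (.leaf (3103, 150, 15)) (.leaf (134, 167, 4))))) (.node 5132 (.node 5130 (.node 5129 (.leaf (5127, 246, 83)) (.leaf (5982, 0, 0))) (.node 5131 (.leaf (2880, 241, 68)) (.leaf (5983, 0, 0)))) (.node 5134 (.node 5133 (.leaf (5894, 248, 16)) (.leaf (2307, 23, 31))) (.node 5135 (.leaf (5985, 0, 0)) (.leaf (5487, 115, 22)))))) (.node 5144 (.node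 5140 (.node 5138 (.node 5137 (.leaf (1792, 245, 75)) (.leaf (5267, 229, 37))) (.node 5139 (.leaf (3340, 211, 10)) (.leaf (2334, 11, 15)))) (.node 5142 (.node 5141 (.leaf (5988, 0, 0)) (.leaf (4308, 163, 12))) (.node 5143 (.leaf (5750, 251, 87)) (.leaf (5064, 154, 80))))) (.node 5148 (.node 5146 (.node 5145 (.leaf (5902, 7, 68)) (.leaf (4053, 23, 36))) (.node 5147 (.leaf (5989, 0, 0)) (.leaf (941, 84, 27)))) (.node 5150 (.node 5149 (.leaf (3620, 242, 58)) (.leaf (255, 228, 45))) (.node 5151 (.leaf (1911, 138, 25)) (.leaf (5990, 0, 0)))))))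

def tEY_161 : BT (ℕ × ℕ × ℕ) := (.node 5168 (.node 5160 (.node 5156 (.node 5154 (.node 5153 (.leaf (374, 50, 72)) (.leaf (3217, 199, 16))) (.node 5155 (.leaf (1885, 165, 29)) (.leaf (5650, 270, 14)))) (.node 5158 (.node 5157 (.leaf (5372, 249, 50)) (.leaf (5991, 0, 0))) (.node 5159 (.leaf (4927, 23, 30)) (.leaf (5466, 268, 76))))) (.node 5164 (.node 5162 (.node 5161 (.leaf (5993, 0, 0)) (.leaf (154, 140, 13))) (.node 5163 (.leaf (2094, 167, 10)) (.leaf (2225, 221, 50)))) (.node 5166 (.node 5165 (.leaf (3610, 122, 75)) (.leaf (2360, 210, 80))) (.node 5167 (.leaf (5994, 0, 0)) (.leaf (485, 152, 62)))))) (.node 5176 (.node 5172 (.node 5170 (.node 5169 (.leaf (4603, 31, 80)) (.leaf (5995, 0, 0))) (.node 5171 (.leaf (2682, 104, 24)) (.leaf (5967, 200, 33)))) (.node 5174 (.node 5173 (.leaf (4432, 82, 57)) (.leaf (4077, 80, 40))) (.node 5175 (.leaf (5431, 261, 1)) (.leaf (1921, 59, 84))))) (.node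 5180 (.node 5178 (.node 5177 (.leaf (5808, 48, 56)) (.leaf (5999, 0, 0))) (.node 5179 (.leaf (3680, 5, 29)) (.leaf (5583, 10, 43)))) (.node 5182 (.node 5181 (.leaf (1302, 32, 68)) (.leaf (4401, 228, 42))) (.node 5183 (.leaf (237, 70, 67)) (.leaf (5074, 218, 84)))))))

def tEY_162 : BT (ℕ × ℕ × ℕ) := (.node 5200 (.node 5192 (.node 5188 (.node 5186 (.node 5185 (.leaf (6000, 0, 0)) (.leaf (3065, 261, 58))) (.node 5187 (.leaf (3605, 12, 46)) (.leaf (4271, 166, 42)))) (.node 5190 (.node 5189 (.leaf (5615, 100, 24)) (.leaf (4844, 238, 6))) (.node 5191 (.leaf (5984, 69, 40)) (.leaf (3204, 78, 32))))) (.node 5196 (.node 5194 (.node 5193 (.leaf (3461, 84, 77)) (.leaf (1540, 42, 54))) (.node 5195 (.leaf (5977, 95, 76)) (.leaf (5756, 145, 20)))) (.node 5198 (.node 5197 (.leaf (6005, 0, 0)) (.leaf (5023, 139, 20))) (.node 5199 (.leaf (6006, 0, 0)) (.leaf (4940, 7, 56)))))) (.node 5208 (.node 5204 (.node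 5202 (.node 5201 (.leaf (5996, 260, 8)) (.leaf (1283, 41, 81))) (.node 5203 (.leaf (6008, 0, 0)) (.leaf (1584, 16, 28)))) (.node 5206 (.node 5205 (.leaf (605, 138, 28)) (.leaf (2699, 26, 83))) (.node 5207 (.leaf (5439, 69, 38)) (.leaf (5797, 14, 85))))) (.node 5212 (.node 5210 (.node 5209 (.leaf (2073, 31, 74)) (.leaf (1994, 190, 66))) (.node 5211 (.leaf (6010, 0, 0)) (.leaf (2203, 110, 10)))) (.node 5214 (.node 5213 (.leaf (4619, 235, 20)) (.leaf (3891, 212, 47))) (.node 5215 (.leaf (3140, 262, 83)) (.leaf (2003, 75, 13)))))))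

def tEY_163 : BT (ℕ × ℕ × ℕ) := (.node 5232 (.node 5224 (.node 5220 (.node 5218 (.node 5217 (.leaf (5383, 82, 49)) (.leaf (4259, 8, 56))) (.node 5219 (.leaf (3607, 34, 40)) (.leaf (5170, 204, 23)))) (.node 5222 (.node 5221 (.leaf (6009, 214, 18)) (.leaf (5986, 220, 55))) (.node 5223 (.leaf (4351, 68, 55)) (.leaf (6012, 0, 0))))) (.node 5228 (.node 5226 (.node 5225 (.leaf (4714, 188, 7)) (.leaf (6013, 0, 0))) (.node 5227 (.leaf (5477, 141, 55)) (.leaf (3655, 259, 63)))) (.node 5230 (.node 5229 (.leaf (5101, 11, 85)) (.leaf (5795, 100, 20))) (.node 5231 (.leaf (4040, 130, 14)) (.leaf (1448, 27, 4)))))) (.node 5240 (.node 5236 (.node 5234 (.node 5233 (.leaf (5871, 137, 11)) (.leaf (2769, 93, 50))) (.node 5235 (.leaf (3428, 262, 40)) (.leaf (3178, 52, 20)))) (.node 5238 (.node 5237 (.leaf (646, 124, 83)) (.leaf (4938, 134, 23))) (.node 5239 (.leaf (1955, 175, 49)) (.leaf (3131, 233, 28)))))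 (.node 5244 (.node 5242 (.node 5241 (.leaf (4722, 249, 3)) (.leaf (3869, 115, 56))) (.node 5243 (.leaf (728, 179, 82)) (.leaf (5190, 139, 57)))) (.node 5246 (.node 5245 (.leaf (6016, 0, 0)) (.leaf (5001, 162, 54))) (.node 5247 (.leaf (5852, 67, 75)) (.leaf (5490, 185, 11)))))))

def tEY_164 : BT (ℕ × ℕ × ℕ) := (.node 5264 (.node 5256 (.node 5252 (.node 5250 (.node 5249 (.leaf (2018, 162, 12)) (.leaf (6018, 0, 0))) (.node 5251 (.leaf (2232, 120, 31)) (.leaf (5901, 121, 76)))) (.node 5254 (.node 5253 (.leaf (3039, 256, 55)) (.leaf (6022, 0, 0))) (.node 5255 (.leaf (5788, 81, 16)) (.leaf (4610, 203, 85))))) (.node 5260 (.node 5258 (.node 5257 (.leaf (2048, 65, 22)) (.leaf (6025, 0, 0))) (.node 5259 (.leaf (6026, 0, 0)) (.leaf (4594, 183, 59)))) (.node 5262 (.node 5261 (.leaf (6027, 0, 0)) (.leaf (5917, 114, 56))) (.node 5263 (.leaf (4033, 114, 76)) (.leaf (2837, 178, 1)))))) (.node 5272 (.node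 5268 (.node 5266 (.node 5265 (.leaf (1235, 220, 62)) (.leaf (6030, 0, 0))) (.node 5267 (.leaf (5538, 10, 44)) (.leaf (771, 99, 2)))) (.node 5270 (.node 5269 (.leaf (3348, 123, 16)) (.leaf (6031, 0, 0))) (.node 5271 (.leaf (2720, 237, 36)) (.leaf (4752, 267, 57))))) (.node 5276 (.node 5274 (.node 5273 (.leaf (3920, 190, 27)) (.leaf (4289, 265, 3))) (.node 5275 (.leaf (3948, 198, 83)) (.leaf (5036, 193, 73)))) (.node 5278 (.node 5277 (.leaf (5062, 25, 75)) (.leaf (4212, 155, 16))) (.node 5279 (.leaf (5973, 130, 57)) (.leaf (3250, 181, 8)))))))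

def tEY_165 : BT (ℕ × ℕ × ℕ) := (.node 5296 (.node 5288 (.node 5284 (.node 5282 (.node 5281 (.leaf (5827, 169, 76)) (.leaf (5402, 256, 65))) (.node 5283 (.leaf (52, 47, 21)) (.leaf (2084, 79, 53)))) (.node 5286 (.node 5285 (.leaf (1346, 145, 50)) (.leaf (3705, 61, 42))) (.node 5287 (.leaf (814, 151, 27)) (.leaf (6035, 0, 0))))) (.node 5292 (.node 5290 (.node 5289 (.leaf (5879, 127, 46)) (.leaf (1435, 12, 57))) (.node 5291 (.leaf (5647, 5, 60)) (.leaf (4567, 33, 0)))) (.node 5294 (.node 5293 (.leaf (5025, 24, 7)) (.leaf (718, 80, 89))) (.node 5295 (.leaf (253, 77, 81)) (.leaf (865, 42, 23)))))) (.node 5304 (.node 5300 (.node 5298 (.node 5297 (.leaf (2290, 67, 33)) (.leaf (1188, 31, 20))) (.node 5299 (.leaf (4484, 51, 13)) (.leaf (2271, 44, 60)))) (.node 5302 (.node 5301 (.leaf (4461, 50, 85)) (.leaf (5645, 229, 38))) (.node 5303 (.leaf (2234, 249, 23)) (.leaf (4191, 55, 36))))) (.node 5308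 (.node 5306 (.node 5305 (.leaf (6003, 150, 49)) (.leaf (5323, 190, 4))) (.node 5307 (.leaf (5570, 43, 20)) (.leaf (1676, 54, 74)))) (.node 5310 (.node 5309 (.leaf (5664, 249, 31)) (.leaf (5207, 29, 51))) (.node 5311 (.leaf (1949, 53, 87)) (.leaf (6040, 0, 0)))))))

def tEY_166 : BT (ℕ × ℕ × ℕ) := (.node 5328 (.node 5320 (.node 5316 (.node 5314 (.node 5313 (.leaf (2353, 265, 37)) (.leaf (1748, 213, 13))) (.node 5315 (.leaf (1051, 17, 27)) (.leaf (4681, 6, 71)))) (.node 5318 (.node 5317 (.leaf (6042, 0, 0)) (.leaf (1182, 103, 29))) (.node 5319 (.leaf (1985, 195, 37)) (.leaf (6014, 57, 29))))) (.node 5324 (.node 5322 (.node 5321 (.leaf (5006, 255, 80)) (.leaf (4527, 118, 26))) (.node 5323 (.leaf (930, 257, 58)) (.leaf (2929, 108, 83)))) (.node 5326 (.node 5325 (.leaf (1630, 66, 48)) (.leaf (2287, 103, 6))) (.node 5327 (.leaf (5968, 206, 19)) (.leaf (5974, 30, 63)))))) (.node 5336 (.node 5332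 (.node 5330 (.node 5329 (.leaf (1572, 69, 0)) (.leaf (5463, 35, 35))) (.node 5331 (.leaf (5473, 254, 38)) (.leaf (4978, 32, 34)))) (.node 5334 (.node 5333 (.leaf (5279, 116, 33)) (.leaf (6047, 0, 0))) (.node 5335 (.leaf (5754, 64, 77)) (.leaf (5104, 240, 35))))) (.node 5340 (.node 5338 (.node 5337 (.leaf (3211, 94, 13)) (.leaf (6020, 250, 13))) (.node 5339 (.leaf (2659, 56, 14)) (.leaf (6048, 0, 0)))) (.node 5342 (.node 5341 (.leaf (5239, 155, 69)) (.leaf (961, 42, 64))) (.node 5343 (.leaf (5683, 11, 72)) (.leaf (6050, 0, 0)))))))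

def tEY_167 : BT (ℕ × ℕ × ℕ) := (.node 5360 (.node 5352 (.node 5348 (.node 5346 (.node 5345 (.leaf (6051, 0, 0)) (.leaf (4731, 42, 49))) (.node 5347 (.leaf (6044, 216, 7)) (.leaf (6052, 0, 0)))) (.node 5350 (.node 5349 (.leaf (5469, 37, 9)) (.leaf (5597, 80, 2))) (.node 5351 (.leaf (98, 33, 22)) (.leaf (1317, 24, 53))))) (.node 5356 (.node 5354 (.node 5353 (.leaf (4239, 169, 44)) (.leaf (4073, 202, 29))) (.node 5355 (.leaf (5230, 177, 87)) (.leaf (5821, 11, 5)))) (.node 5358 (.node 5357 (.leaf (2366, 260, 13)) (.leaf (4409, 199, 58))) (.node 5359 (.leaf (5367, 128, 37)) (.leaf (3725, 262, 39)))))) (.node 5368 (.node 5364 (.node 5362 (.node 5361 (.leaf (3331, 86, 60)) (.leaf (5530, 242, 78))) (.node 5363 (.leaf (2553, 72, 8)) (.leaf (6055, 0, 0)))) (.node 5366 (.node 5365 (.leaf (1816, 62, 83)) (.leaf (5681, 133, 84))) (.node 5367 (.leaf (1505, 74, 66)) (.leaf (4712, 256, 75))))) (.node 5372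 (.node 5370 (.node 5369 (.leaf (4882, 271, 87)) (.leaf (6057, 0, 0))) (.node 5371 (.leaf (5291, 95, 1)) (.leaf (5576, 234, 80)))) (.node 5374 (.node 5373 (.leaf (5247, 202, 41)) (.leaf (4162, 32, 66))) (.node 5375 (.leaf (4152, 163, 58)) (.leaf (3973, 66, 65)))))))

def tEY_168 : BT (ℕ × ℕ × ℕ) := (.node 5392 (.node 5384 (.node 5380 (.node 5378 (.node 5377 (.leaf (6061, 0, 0)) (.leaf (4031, 163, 83))) (.node 5379 (.leaf (5426, 109, 55)) (.leaf (4581, 30, 51)))) (.node 5382 (.node 5381 (.leaf (6063, 0, 0)) (.leaf (5987, 268, 34))) (.node 5383 (.leaf (5845, 62, 60)) (.leaf (2275, 102, 69))))) (.node 5388 (.node 5386 (.node 5385 (.leaf (6015, 169, 29)) (.leaf (1976, 249, 5))) (.node 5387 (.leaf (6064, 0, 0)) (.leaf (6065, 0, 0)))) (.node 5390 (.node 5389 (.leaf (3654, 200, 41)) (.leaf (5491, 195, 39))) (.node 5391 (.leaf (3254, 81, 38)) (.leaf (5251, 57, 51)))))) (.node 5400 (.node 5396 (.node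 5394 (.node 5393 (.leaf (6066, 0, 0)) (.leaf (6037, 44, 71))) (.node 5395 (.leaf (4988, 252, 35)) (.leaf (5931, 170, 62)))) (.node 5398 (.node 5397 (.leaf (6068, 0, 0)) (.leaf (5215, 208, 21))) (.node 5399 (.leaf (5927, 53, 54)) (.leaf (4554, 25, 12))))) (.node 5404 (.node 5402 (.node 5401 (.leaf (5718, 167, 30)) (.leaf (6070, 0, 0))) (.node 5403 (.leaf (5480, 106, 62)) (.leaf (1427, 208, 60)))) (.node 5406 (.node 5405 (.leaf (3521, 15, 43)) (.leaf (6058, 169, 80))) (.node 5407 (.leaf (5249, 233, 35)) (.leaf (5087, 124, 82)))))))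

def tEY_169 : BT (ℕ × ℕ × ℕ) := (.node 5424 (.node 5416 (.node 5412 (.node 5410 (.node 5409 (.leaf (3633, 115, 32)) (.leaf (3492, 9, 0))) (.node 5411 (.leaf (2626, 104, 64)) (.leaf (4634, 19, 67)))) (.node 5414 (.node 5413 (.leaf (2060, 109, 51)) (.leaf (4850, 251, 3))) (.node 5415 (.leaf (6067, 185, 79)) (.leaf (5413, 24, 24))))) (.node 5420 (.node 5418 (.node 5417 (.leaf (3289, 256, 38)) (.leaf (3764, 214, 72))) (.node 5419 (.leaf (5963, 141, 37)) (.leaf (4961, 31, 73)))) (.node 5422 (.node 5421 (.leaf (4512, 41, 14)) (.leaf (5611, 73, 16))) (.node 5423 (.leaf (5898, 30, 72)) (.leaf (5149, 3, 83)))))) (.node 5432 (.node 5428 (.node 5426 (.node 5425 (.leaf (5971, 170, 33)) (.leaf (1021, 11, 25))) (.node 5427 (.leaf (5829, 62, 55)) (.leaf (6060, 3, 63)))) (.node 5430 (.node 5429 (.leaf (4160, 201, 55)) (.leaf (6073, 0, 0))) (.node 5431 (.leaf (5358, 50, 89)) (.leaf (812, 73, 89))))) (.node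 5436 (.node 5434 (.node 5433 (.leaf (74, 209, 89)) (.leaf (4056, 92, 28))) (.node 5435 (.leaf (5933, 100, 24)) (.leaf (2751, 111, 9)))) (.node 5438 (.node 5437 (.leaf (5347, 31, 32)) (.leaf (5585, 108, 10))) (.node 5439 (.leaf (3407, 70, 31)) (.leaf (5661, 145, 29)))))))

def tEY_170 : BT (ℕ × ℕ × ℕ) := (.node 5456 (.node 5448 (.node 5444 (.node 5442 (.node 5441 (.leaf (4492, 208, 17)) (.leaf (5959, 212, 56))) (.node 5443 (.leaf (1357, 270, 37)) (.leaf (6075, 0, 0)))) (.node 5446 (.node 5445 (.leaf (46, 145, 17)) (.leaf (5391, 224, 63))) (.node 5447 (.leaf (4168, 125, 26)) (.leaf (5810, 196, 47))))) (.node 5452 (.node 5450 (.node 5449 (.leaf (682, 87, 82)) (.leaf (918, 142, 63))) (.node 5451 (.leaf (320, 10, 32)) (.leaf (5942, 130, 67)))) (.node 5454 (.node 5453 (.leaf (2923, 203, 16)) (.leaf (5559, 96, 66))) (.node 5455 (.leaf (5143, 269, 1)) (.leaf (5588, 158, 54)))))) (.node 5464 (.node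 5460 (.node 5458 (.node 5457 (.leaf (4355, 180, 49)) (.leaf (6072, 121, 43))) (.node 5459 (.leaf (2647, 41, 10)) (.leaf (5448, 247, 49)))) (.node 5462 (.node 5461 (.leaf (5483, 186, 51)) (.leaf (4369, 69, 26))) (.node 5463 (.leaf (5930, 143, 51)) (.leaf (5701, 169, 37))))) (.node 5468 (.node 5466 (.node 5465 (.leaf (1123, 134, 14)) (.leaf (5654, 211, 67))) (.node 5467 (.leaf (6028, 7, 40)) (.leaf (5421, 30, 54)))) (.node 5470 (.node 5469 (.leaf (3295, 243, 50)) (.leaf (2950, 142, 36))) (.node 5471 (.leaf (6056, 116, 55)) (.leaf (6079, 0, 0)))))))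

def tEY_171 : BT (ℕ × ℕ × ℕ) := (.node 5488 (.node 5480 (.node 5476 (.node 5474 (.node 5473 (.leaf (5577, 21, 58)) (.leaf (6039, 94, 19))) (.node 5475 (.leaf (5864, 166, 22)) (.leaf (2068, 109, 87)))) (.node 5478 (.node 5477 (.leaf (2401, 116, 66)) (.leaf (3635, 204, 44))) (.node 5479 (.leaf (5796, 268, 50)) (.leaf (1012, 246, 57))))) (.node 5484 (.node 5482 (.node 5481 (.leaf (3815, 36, 61)) (.leaf (4318, 197, 44))) (.node 5483 (.leaf (5443, 83, 78)) (.leaf (3637, 207, 77)))) (.node 5486 (.node 5485 (.leaf (4278, 50, 81)) (.leaf (1049, 89, 8))) (.node 5487 (.leaf (1590, 105, 52)) (.leaf (12, 111, 7)))))) (.node 5496 (.node 5492 (.node 5490 (.node 5489 (.leaf (3984, 250, 47)) (.leaf (3864, 39, 31))) (.node 5491 (.leaf (3562, 148, 85)) (.leaf (5288, 185, 34)))) (.node 5494 (.node 5493 (.leaf (3621, 143, 88)) (.leaf (5881, 159, 5))) (.node 5495 (.leaf (1340, 139, 17)) (.leaf (88, 173, 44)))))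 (.node 5500 (.node 5498 (.node 5497 (.leaf (2826, 132, 64)) (.leaf (4367, 16, 79))) (.node 5499 (.leaf (4294, 98, 79)) (.leaf (5384, 131, 5)))) (.node 5502 (.node 5501 (.leaf (4631, 132, 57)) (.leaf (1082, 104, 19))) (.node 5503 (.leaf (5639, 248, 16)) (.leaf (3811, 196, 46)))))))

def tEY_172 : BT (ℕ × ℕ × ℕ) := (.node 5520 (.node 5512 (.node 5508 (.node 5506 (.node 5505 (.leaf (1879, 62, 37)) (.leaf (4228, 201, 42))) (.node 5507 (.leaf (3728, 130, 39)) (.leaf (2294, 175, 81)))) (.node 5510 (.node 5509 (.leaf (1772, 112, 53)) (.leaf (6085, 0, 0))) (.node 5511 (.leaf (5921, 242, 63)) (.leaf (5755, 119, 38))))) (.node 5516 (.node 5514 (.node 5513 (.leaf (3041, 182, 13)) (.leaf (5002, 180, 42))) (.node 5515 (.leaf (6086, 0, 0)) (.leaf (6087, 0, 0)))) (.node 5518 (.node 5517 (.leaf (5794, 262, 79)) (.leaf (1379, 269, 46))) (.node 5519 (.leaf (3193, 89, 44)) (.leaf (5013, 63, 22)))))) (.node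 5528 (.node 5524 (.node 5522 (.node 5521 (.leaf (5059, 250, 49)) (.leaf (6089, 0, 0))) (.node 5523 (.leaf (3638, 247, 61)) (.leaf (6054, 3, 88)))) (.node 5526 (.node 5525 (.leaf (5980, 109, 53)) (.leaf (3579, 268, 68))) (.node 5527 (.leaf (1243, 51, 48)) (.leaf (6090, 0, 0))))) (.node 5532 (.node 5530 (.node 5529 (.leaf (3490, 269, 25)) (.leaf (1286, 13, 42))) (.node 5531 (.leaf (6091, 0, 0)) (.leaf (5836, 120, 11)))) (.node 5534 (.node 5533 (.leaf (376, 193, 11)) (.leaf (2461, 256, 52))) (.node 5535 (.leaf (2635, 12, 59)) (.leaf (5435, 98, 87)))))))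

def tEY_173 : BT (ℕ × ℕ × ℕ) := (.node 5552 (.node 5544 (.node 5540 (.node 5538 (.node 5537 (.leaf (1628, 245, 27)) (.leaf (4224, 245, 69))) (.node 5539 (.leaf (704, 194, 29)) (.leaf (6093, 0, 0)))) (.node 5542 (.node 5541 (.leaf (3310, 72, 0)) (.leaf (2560, 25, 0))) (.node 5543 (.leaf (6095, 0, 0)) (.leaf (4266, 75, 88))))) (.node 5548 (.node 5546 (.node 5545 (.leaf (1673, 10, 45)) (.leaf (5203, 0, 15))) (.node 5547 (.leaf (5352, 237, 81)) (.leaf (3113, 0, 32)))) (.node 5550 (.node 5549 (.leaf (5820, 160, 60)) (.leaf (4698, 210, 39))) (.node 5551 (.leaf (3220, 196, 10)) (.leaf (36, 130, 79)))))) (.node 5560 (.node 5556 (.node 5554 (.node 5553 (.leaf (3530, 69, 22)) (.leaf (2971, 88, 79))) (.node 5555 (.leaf (4476, 63, 9)) (.leaf (388, 251, 42)))) (.node 5558 (.node 5557 (.leaf (4140, 141, 84)) (.leaf (5716, 173, 13))) (.node 5559 (.leaf (6098, 0, 0)) (.leaf (4760, 259, 13))))) (.node 5564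 (.node 5562 (.node 5561 (.leaf (1974, 47, 69)) (.leaf (1617, 194, 73))) (.node 5563 (.leaf (4106, 186, 4)) (.leaf (686, 191, 25)))) (.node 5566 (.node 5565 (.leaf (6041, 103, 69)) (.leaf (6100, 0, 0))) (.node 5567 (.leaf (6099, 183, 84)) (.leaf (4528, 6, 64)))))))

def tEY_174 : BT (ℕ × ℕ × ℕ) := (.node 5584 (.node 5576 (.node 5572 (.node 5570 (.node 5569 (.leaf (2515, 231, 78)) (.leaf (5147, 15, 55))) (.node 5571 (.leaf (4660, 247, 74)) (.leaf (5636, 109, 20)))) (.node 5574 (.node 5573 (.leaf (6101, 0, 0)) (.leaf (1928, 42, 59))) (.node 5575 (.leaf (3138, 142, 0)) (.leaf (3942, 72, 44))))) (.node 5580 (.node 5578 (.node 5577 (.leaf (3604, 53, 39)) (.leaf (106, 29, 49))) (.node 5579 (.leaf (6103, 0, 0)) (.leaf (5622, 114, 17)))) (.node 5582 (.node 5581 (.leaf (1613, 63, 49)) (.leaf (5517, 82, 72))) (.node 5583 (.leaf (6105, 0, 0)) (.leaf (6001, 70, 46)))))) (.node 5592 (.node 5588 (.node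 5586 (.node 5585 (.leaf (6002, 263, 54)) (.leaf (5957, 183, 74))) (.node 5587 (.leaf (2034, 81, 21)) (.leaf (5019, 205, 67)))) (.node 5590 (.node 5589 (.leaf (3068, 164, 22)) (.leaf (3799, 188, 13))) (.node 5591 (.leaf (6106, 0, 0)) (.leaf (5663, 203, 49))))) (.node 5596 (.node 5594 (.node 5593 (.leaf (5375, 252, 2)) (.leaf (405, 221, 27))) (.node 5595 (.leaf (6107, 0, 0)) (.leaf (1736, 174, 85)))) (.node 5598 (.node 5597 (.leaf (6083, 164, 21)) (.leaf (355, 64, 40))) (.node 5599 (.leaf (2576, 201, 33)) (.leaf (4116, 36, 33)))))))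

def tEY_175 : BT (ℕ × ℕ × ℕ) := (.node 5616 (.node 5608 (.node 5604 (.node 5602 (.node 5601 (.leaf (3716, 256, 87)) (.leaf (2250, 205, 9))) (.node 5603 (.leaf (4296, 169, 6)) (.leaf (5679, 184, 49)))) (.node 5606 (.node 5605 (.leaf (4664, 73, 69)) (.leaf (5975, 165, 79))) (.node 5607 (.leaf (6053, 138, 61)) (.leaf (6109, 0, 0))))) (.node 5612 (.node 5610 (.node 5609 (.leaf (1930, 216, 87)) (.leaf (286, 248, 37))) (.node 5611 (.leaf (3955, 94, 22)) (.leaf (4920, 111, 80)))) (.node 5614 (.node 5613 (.leaf (2902, 214, 5)) (.leaf (6080, 128, 36))) (.node 5615 (.leaf (3368, 248, 74)) (.leaf (3173, 16, 23)))))) (.node 5624 (.node 5620 (.node 5618 (.node 5617 (.leaf (5080, 173, 54)) (.leaf (2386, 8, 71))) (.node 5619 (.leaf (1480, 129, 58)) (.leaf (1133, 50, 87)))) (.node 5622 (.node 5621 (.leaf (1822, 27, 84)) (.leaf (415, 254, 79))) (.node 5623 (.leaf (6110, 0, 0)) (.leaf (5899, 182, 63)))))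 (.node 5628 (.node 5626 (.node 5625 (.leaf (5032, 41, 27)) (.leaf (4991, 45, 80))) (.node 5627 (.leaf (1567, 4, 61)) (.leaf (4640, 28, 13)))) (.node 5630 (.node 5629 (.leaf (2894, 10, 44)) (.leaf (5496, 210, 23))) (.node 5631 (.leaf (6111, 0, 0)) (.leaf (5299, 245, 80)))))))

def tEY_176 : BT (ℕ × ℕ × ℕ) := (.node 5648 (.node 5640 (.node 5636 (.node 5634 (.node 5633 (.leaf (5100, 185, 39)) (.leaf (5265, 16, 14))) (.node 5635 (.leaf (2228, 153, 26)) (.leaf (1071, 233, 31)))) (.node 5638 (.node 5637 (.leaf (5878, 195, 43)) (.leaf (5772, 157, 70))) (.node 5639 (.leaf (5893, 189, 45)) (.leaf (6046, 94, 83))))) (.node 5644 (.node 5642 (.node 5641 (.leaf (5735, 226, 9)) (.leaf (4154, 202, 61))) (.node 5643 (.leaf (3935, 178, 44)) (.leaf (3097, 63, 66)))) (.node 5646 (.node 5645 (.leaf (3466, 122, 7)) (.leaf (6077, 7, 1))) (.node 5647 (.leaf (688, 81, 31)) (.leaf (788, 254, 44)))))) (.node 5656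 (.node 5652 (.node 5650 (.node 5649 (.leaf (1063, 0, 51)) (.leaf (746, 147, 38))) (.node 5651 (.leaf (459, 40, 77)) (.leaf (6069, 168, 0)))) (.node 5654 (.node 5653 (.leaf (5529, 40, 47)) (.leaf (4656, 18, 54))) (.node 5655 (.leaf (5769, 246, 40)) (.leaf (2958, 219, 5))))) (.node 5660 (.node 5658 (.node 5657 (.leaf (825, 214, 65)) (.leaf (249, 191, 52))) (.node 5659 (.leaf (3917, 30, 76)) (.leaf (3897, 215, 23)))) (.node 5662 (.node 5661 (.leaf (3494, 2, 38)) (.leaf (5682, 115, 30))) (.node 5663 (.leaf (6115, 0, 0)) (.leaf (6062, 168, 22)))))))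

def tEY_177 : BT (ℕ × ℕ × ℕ) := (.node 5680 (.node 5672 (.node 5668 (.node 5666 (.node 5665 (.leaf (1141, 144, 34)) (.leaf (5888, 68, 42))) (.node 5667 (.leaf (5389, 204, 72)) (.leaf (6088, 130, 8)))) (.node 5670 (.node 5669 (.leaf (1528, 17, 47)) (.leaf (2440, 159, 70))) (.node 5671 (.leaf (4276, 88, 22)) (.leaf (1872, 214, 57))))) (.node 5676 (.node 5674 (.node 5673 (.leaf (1377, 208, 70)) (.leaf (5380, 25, 13))) (.node 5675 (.leaf (1175, 61, 76)) (.leaf (5758, 32, 61)))) (.node 5678 (.node 5677 (.leaf (1208, 123, 68)) (.leaf (2161, 125, 36))) (.node 5679 (.leaf (6019, 68, 65)) (.leaf (3805, 86, 72)))))) (.node 5688 (.node 5684 (.node 5682 (.node 5681 (.leaf (6117, 0, 0)) (.leaf (4060, 160, 72))) (.node 5683 (.leaf (3853, 156, 68)) (.leaf (5694, 10, 30)))) (.node 5686 (.node 5685 (.leaf (2877, 246, 58)) (.leaf (6119, 0, 0))) (.node 5687 (.leaf (4728, 13, 48)) (.leaf (4957, 207, 60)))))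 (.node 5692 (.node 5690 (.node 5689 (.leaf (6024, 68, 5)) (.leaf (1578, 134, 75))) (.node 5691 (.leaf (370, 258, 35)) (.leaf (6081, 15, 24)))) (.node 5694 (.node 5693 (.leaf (5938, 34, 41)) (.leaf (3212, 0, 59))) (.node 5695 (.leaf (156, 26, 56)) (.leaf (767, 236, 58)))))))

def tEY_178 : BT (ℕ × ℕ × ℕ) := (.node 5712 (.node 5704 (.node 5700 (.node 5698 (.node 5697 (.leaf (5739, 49, 19)) (.leaf (5709, 32, 15))) (.node 5699 (.leaf (6059, 65, 32)) (.leaf (5227, 161, 23)))) (.node 5702 (.node 5701 (.leaf (6034, 157, 13)) (.leaf (732, 184, 10))) (.node 5703 (.leaf (6121, 0, 0)) (.leaf (2724, 70, 66))))) (.node 5708 (.node 5706 (.node 5705 (.leaf (3225, 115, 17)) (.leaf (4241, 221, 85))) (.node 5707 (.leaf (5264, 68, 56)) (.leaf (4371, 121, 24)))) (.node 5710 (.node 5709 (.leaf (3831, 45, 78)) (.leaf (5397, 107, 82))) (.node 5711 (.leaf (5960, 42, 81)) (.leaf (5381, 45, 38)))))) (.node 5720 (.node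 5716 (.node 5714 (.node 5713 (.leaf (4768, 81, 14)) (.leaf (4929, 230, 54))) (.node 5715 (.leaf (4407, 165, 53)) (.leaf (557, 152, 19)))) (.node 5718 (.node 5717 (.leaf (2163, 153, 54)) (.leaf (6124, 0, 0))) (.node 5719 (.leaf (6125, 0, 0)) (.leaf (1717, 0, 86))))) (.node 5724 (.node 5722 (.node 5721 (.leaf (2421, 29, 55)) (.leaf (5813, 176, 55))) (.node 5723 (.leaf (6112, 2, 10)) (.leaf (1023, 39, 19)))) (.node 5726 (.node 5725 (.leaf (5992, 18, 56)) (.leaf (5231, 14, 55))) (.node 5727 (.leaf (5092, 53, 14)) (.leaf (5328, 56, 67)))))))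

def tEY_179 : BT (ℕ × ℕ × ℕ) := (.node 5744 (.node 5736 (.node 5732 (.node 5730 (.node 5729 (.leaf (4254, 256, 16)) (.leaf (5642, 130, 51))) (.node 5731 (.leaf (4471, 203, 81)) (.leaf (4539, 32, 61)))) (.node 5734 (.node 5733 (.leaf (5428, 213, 45)) (.leaf (5319, 103, 37))) (.node 5735 (.leaf (5764, 61, 89)) (.leaf (4508, 1, 0))))) (.node 5740 (.node 5738 (.node 5737 (.leaf (4569, 74, 27)) (.leaf (6128, 0, 0))) (.node 5739 (.leaf (5670, 156, 43)) (.leaf (1978, 52, 82)))) (.node 5742 (.node 5741 (.leaf (5569, 185, 32)) (.leaf (4231, 138, 22))) (.node 5743 (.leaf (5944, 115, 55)) (.leaf (2703, 212, 11)))))) (.node 5752 (.node 5748 (.node 5746 (.node 5745 (.leaf (5498, 3, 50)) (.leaf (5629, 28, 67))) (.node 5747 (.leaf (2783, 57, 28)) (.leaf (875, 35, 51)))) (.node 5750 (.node 5749 (.leaf (2245, 135, 49)) (.leaf (6017, 237, 56))) (.node 5751 (.leaf (5444, 59, 55)) (.leaf (1220, 48, 8))))) (.node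 5756 (.node 5754 (.node 5753 (.leaf (4416, 181, 2)) (.leaf (4533, 229, 17))) (.node 5755 (.leaf (5046, 206, 89)) (.leaf (5610, 201, 7)))) (.node 5758 (.node 5757 (.leaf (592, 217, 35)) (.leaf (5605, 63, 83))) (.node 5759 (.leaf (5779, 248, 64)) (.leaf (6097, 194, 7)))))))

def tEY_180 : BT (ℕ × ℕ × ℕ) := (.node 5776 (.node 5768 (.node 5764 (.node 5762 (.node 5761 (.leaf (4335, 198, 28)) (.leaf (5669, 259, 32))) (.node 5763 (.leaf (4142, 144, 6)) (.leaf (6078, 17, 35)))) (.node 5766 (.node 5765 (.leaf (4950, 180, 83)) (.leaf (609, 115, 62))) (.node 5767 (.leaf (4219, 48, 5)) (.leaf (5606, 29, 5))))) (.node 5772 (.node 5770 (.node 5769 (.leaf (2254, 133, 12)) (.leaf (3539, 177, 55))) (.node 5771 (.leaf (5349, 22, 28)) (.leaf (3009, 227, 51)))) (.node 5774 (.node 5773 (.leaf (2932, 139, 13)) (.leaf (5211, 243, 68))) (.node 5775 (.leaf (588, 33, 33)) (.leaf (1637, 143, 32)))))) (.node 5784 (.node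 5780 (.node 5778 (.node 5777 (.leaf (5932, 251, 48)) (.leaf (3054, 123, 42))) (.node 5779 (.leaf (5243, 14, 36)) (.leaf (2887, 28, 11)))) (.node 5782 (.node 5781 (.leaf (5489, 151, 63)) (.leaf (4026, 161, 69))) (.node 5783 (.leaf (2108, 161, 64)) (.leaf (6076, 28, 22))))) (.node 5788 (.node 5786 (.node 5785 (.leaf (4172, 185, 0)) (.leaf (6132, 0, 0))) (.node 5787 (.leaf (4376, 179, 76)) (.leaf (4800, 45, 50)))) (.node 5790 (.node 5789 (.leaf (3111, 51, 27)) (.leaf (5447, 71, 27))) (.node 5791 (.leaf (3190, 38, 60)) (.leaf (5423, 173, 83)))))))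

def tEY_181 : BT (ℕ × ℕ × ℕ) := (.node 5808 (.node 5800 (.node 5796 (.node 5794 (.node 5793 (.leaf (6134, 0, 0)) (.leaf (5278, 22, 89))) (.node 5795 (.leaf (6135, 0, 0)) (.leaf (5603, 167, 44)))) (.node 5798 (.node 5797 (.leaf (2709, 130, 86)) (.leaf (4971, 96, 2))) (.node 5799 (.leaf (6137, 0, 0)) (.leaf (6007, 259, 0))))) (.node 5804 (.node 5802 (.node 5801 (.leaf (4502, 90, 82)) (.leaf (4017, 271, 71))) (.node 5803 (.leaf (5834, 241, 44)) (.leaf (2538, 245, 70)))) (.node 5806 (.node 5805 (.leaf (2416, 264, 62)) (.leaf (5103, 117, 23))) (.node 5807 (.leaf (6045, 38, 59)) (.leaf (3056, 71, 68)))))) (.node 5816 (.node 5812 (.node 5810 (.node 5809 (.leaf (5619, 248, 57)) (.leaf (5524, 235, 22))) (.node 5811 (.leaf (2683, 35, 13)) (.leaf (6138, 0, 0)))) (.node 5814 (.node 5813 (.leaf (4563, 112, 37)) (.leaf (4520, 99, 45))) (.node 5815 (.leaf (2319, 226, 48)) (.leaf (2151, 173, 88))))) (.node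 5820 (.node 5818 (.node 5817 (.leaf (2944, 79, 59)) (.leaf (6033, 111, 49))) (.node 5819 (.leaf (6139, 0, 0)) (.leaf (874, 63, 49)))) (.node 5822 (.node 5821 (.leaf (4518, 250, 70)) (.leaf (3690, 264, 24))) (.node 5823 (.leaf (4000, 211, 81)) (.leaf (5094, 263, 54)))))))

def tEY_182 : BT (ℕ × ℕ × ℕ) := (.node 5840 (.node 5832 (.node 5828 (.node 5826 (.node 5825 (.leaf (2340, 47, 3)) (.leaf (5429, 47, 38))) (.node 5827 (.leaf (3907, 144, 63)) (.leaf (4165, 109, 34)))) (.node 5830 (.node 5829 (.leaf (5935, 184, 47)) (.leaf (6142, 0, 0))) (.node 5831 (.leaf (4546, 100, 62)) (.leaf (431, 144, 65))))) (.node 5836 (.node 5834 (.node 5833 (.leaf (4561, 196, 75)) (.leaf (2029, 105, 78))) (.node 5835 (.leaf (4832, 268, 22)) (.leaf (4361, 95, 3)))) (.node 5838 (.node 5837 (.leaf (4638, 72, 77)) (.leaf (5802, 68, 23))) (.node 5839 (.leaf (5162, 204, 13)) (.leaf (2821, 6, 65)))))) (.node 5848 (.node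 5844 (.node 5842 (.node 5841 (.leaf (4840, 181, 88)) (.leaf (5658, 57, 49))) (.node 5843 (.leaf (3473, 202, 58)) (.leaf (4699, 265, 32)))) (.node 5846 (.node 5845 (.leaf (6004, 49, 42)) (.leaf (1806, 140, 45))) (.node 5847 (.leaf (314, 148, 32)) (.leaf (6036, 2, 74))))) (.node 5852 (.node 5850 (.node 5849 (.leaf (5460, 99, 16)) (.leaf (1080, 32, 59))) (.node 5851 (.leaf (6143, 0, 0)) (.leaf (6131, 266, 68)))) (.node 5854 (.node 5853 (.leaf (1958, 142, 15)) (.leaf (5408, 18, 46))) (.node 5855 (.leaf (4931, 5, 43)) (.leaf (5401, 17, 51)))))))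

def tEY_183 : BT (ℕ × ℕ × ℕ) := (.node 5872 (.node 5864 (.node 5860 (.node 5858 (.node 5857 (.leaf (5337, 216, 8)) (.leaf (5831, 223, 39))) (.node 5859 (.leaf (6145, 0, 0)) (.leaf (5916, 171, 58)))) (.node 5862 (.node 5861 (.leaf (5201, 54, 39)) (.leaf (2493, 128, 32))) (.node 5863 (.leaf (4579, 153, 86)) (.leaf (2557, 268, 5))))) (.node 5868 (.node 5866 (.node 5865 (.leaf (5293, 92, 86)) (.leaf (4222, 22, 26))) (.node 5867 (.leaf (5018, 90, 32)) (.leaf (6136, 17, 43)))) (.node 5870 (.node 5869 (.leaf (4490, 19, 64)) (.leaf (1485, 68, 27))) (.node 5871 (.leaf (2610, 39, 52)) (.leaf (520, 194, 2)))))) (.node 5880 (.node 5876 (.node 5874 (.node 5873 (.leaf (3821, 122, 1)) (.leaf (4601, 23, 88))) (.node 5875 (.leaf (6122, 128, 16)) (.leaf (1298, 40, 75)))) (.node 5878 (.node 5877 (.leaf (3232, 209, 67)) (.leaf (1091, 246, 30))) (.node 5879 (.leaf (4867, 238, 30)) (.leaf (3336, 208, 43)))))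 (.node 5884 (.node 5882 (.node 5881 (.leaf (2833, 167, 0)) (.leaf (6129, 86, 77))) (.node 5883 (.leaf (3453, 115, 34)) (.leaf (4668, 237, 20)))) (.node 5886 (.node 5885 (.leaf (5165, 150, 61)) (.leaf (4667, 24, 27))) (.node 5887 (.leaf (4890, 163, 44)) (.leaf (5176, 232, 48)))))))

def tEY_184 : BT (ℕ × ℕ × ℕ) := (.node 5904 (.node 5896 (.node 5892 (.node 5890 (.node 5889 (.leaf (5838, 159, 63)) (.leaf (5419, 24, 70))) (.node 5891 (.leaf (3191, 61, 1)) (.leaf (5641, 47, 68)))) (.node 5894 (.node 5893 (.leaf (4349, 72, 26)) (.leaf (6082, 132, 74))) (.node 5895 (.leaf (4003, 87, 78)) (.leaf (2145, 226, 15))))) (.node 5900 (.node 5898 (.node 5897 (.leaf (6130, 4, 56)) (.leaf (4973, 145, 47))) (.node 5899 (.leaf (5841, 249, 24)) (.leaf (4375, 223, 70)))) (.node 5902 (.node 5901 (.leaf (6118, 36, 85)) (.leaf (6148, 0, 0))) (.node 5903 (.leaf (6021, 160, 30)) (.leaf (4201, 248, 31)))))) (.node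 5912 (.node 5908 (.node 5906 (.node 5905 (.leaf (6149, 0, 0)) (.leaf (3468, 147, 48))) (.node 5907 (.leaf (194, 248, 0)) (.leaf (6150, 0, 0)))) (.node 5910 (.node 5909 (.leaf (5848, 211, 23)) (.leaf (5877, 109, 1))) (.node 5911 (.leaf (6140, 59, 69)) (.leaf (6133, 249, 72))))) (.node 5916 (.node 5914 (.node 5913 (.leaf (306, 67, 85)) (.leaf (1956, 176, 48))) (.node 5915 (.leaf (5403, 84, 38)) (.leaf (4279, 269, 68)))) (.node 5918 (.node 5917 (.leaf (3784, 35, 63)) (.leaf (2876, 66, 44))) (.node 5919 (.leaf (5915, 146, 74)) (.leaf (5418, 243, 63)))))))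

def tEY_185 : BT (ℕ × ℕ × ℕ) := (.node 5936 (.node 5928 (.node 5924 (.node 5922 (.node 5921 (.leaf (3878, 208, 65)) (.leaf (2344, 257, 76))) (.node 5923 (.leaf (1325, 69, 19)) (.leaf (4924, 114, 39)))) (.node 5926 (.node 5925 (.leaf (4566, 256, 8)) (.leaf (6108, 244, 1))) (.node 5927 (.leaf (695, 245, 23)) (.leaf (3093, 200, 11))))) (.node 5932 (.node 5930 (.node 5929 (.leaf (5281, 259, 70)) (.leaf (4652, 113, 22))) (.node 5931 (.leaf (1768, 84, 21)) (.leaf (5128, 263, 19)))) (.node 5934 (.node 5933 (.leaf (5676, 160, 39)) (.leaf (2848, 113, 49))) (.node 5935 (.leaf (5675, 137, 15)) (.leaf (4693, 13, 79)))))) (.node 5944 (.node 5940 (.node 5938 (.node 5937 (.leaf (5386, 162, 31)) (.leaf (5954, 244, 35))) (.node 5939 (.leaf (1733, 45, 47)) (.leaf (5702, 151, 38)))) (.node 5942 (.node 5941 (.leaf (5725, 138, 52)) (.leaf (6011, 171, 77))) (.node 5943 (.leaf (6096, 8, 73)) (.leaf (2967, 237,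 0))))) (.node 5948 (.node 5946 (.node 5945 (.leaf (5306, 249, 29)) (.leaf (2283, 17, 20))) (.node 5947 (.leaf (2239, 230, 64)) (.leaf (2678, 263, 22)))) (.node 5950 (.node 5949 (.leaf (5912, 190, 18)) (.leaf (5800, 109, 40))) (.node 5951 (.leaf (6071, 63, 21)) (.leaf (2473, 105, 72)))))))

def tEY_186 : BT (ℕ × ℕ × ℕ) := (.node 5968 (.node 5960 (.node 5956 (.node 5954 (.node 5953 (.leaf (2565, 223, 85)) (.leaf (5558, 245, 22))) (.node 5955 (.leaf (2248, 174, 31)) (.leaf (6023, 32, 55)))) (.node 5958 (.node 5957 (.leaf (1409, 257, 30)) (.leaf (1883, 41, 38))) (.node 5959 (.leaf (4482, 163, 40)) (.leaf (1394, 216, 78))))) (.node 5964 (.node 5962 (.node 5961 (.leaf (2332, 169, 85)) (.leaf (4896, 193, 19))) (.node 5963 (.leaf (900, 123, 55)) (.leaf (5405, 248, 3)))) (.node 5966 (.node 5965 (.leaf (4846, 242, 33)) (.leaf (1369, 249, 43))) (.node 5967 (.leaf (5523, 267, 16)) (.leaf (4791, 109,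 68)))))) (.node 5976 (.node 5972 (.node 5970 (.node 5969 (.leaf (5486, 69, 45)) (.leaf (3088, 63, 71))) (.node 5971 (.leaf (92, 187, 58)) (.leaf (2467, 62, 50)))) (.node 5974 (.node 5973 (.leaf (1759, 52, 17)) (.leaf (4478, 135, 61))) (.node 5975 (.leaf (5139, 201, 17)) (.leaf (5048, 181, 37))))) (.node 5980 (.node 5978 (.node 5977 (.leaf (4659, 177, 14)) (.leaf (4333, 147, 82))) (.node 5979 (.leaf (5110, 147, 68)) (.leaf (1915, 173, 70)))) (.node 5982 (.node 5981 (.leaf (6038, 6, 77)) (.leaf (3360, 221, 67))) (.node 5983 (.leaf (425, 263, 11)) (.leaf (1908, 65, 66)))))))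

def tEY_187 : BT (ℕ × ℕ × ℕ) := (.node 6000 (.node 5992 (.node 5988 (.node 5986 (.node 5985 (.leaf (3630, 241, 7)) (.leaf (599, 87, 57))) (.node 5987 (.leaf (1632, 189, 50)) (.leaf (4735, 212, 64)))) (.node 5990 (.node 5989 (.leaf (5812, 2, 42)) (.leaf (2654, 42, 56))) (.node 5991 (.leaf (4324, 121, 31)) (.leaf (3158, 216, 47))))) (.node 5996 (.node 5994 (.node 5993 (.leaf (4741, 40, 84)) (.leaf (5937, 197, 43))) (.node 5995 (.leaf (2558, 113, 35)) (.leaf (5160, 199, 41)))) (.node 5998 (.node 5997 (.leaf (6147, 213, 27)) (.leaf (3201, 85, 57))) (.node 5999 (.leaf (1711, 177, 16)) (.leaf (1582, 56, 46)))))) (.node 6008 (.node 6004 (.node 6002 (.node 6001 (.leaf (2728, 10, 71)) (.leaf (5674, 168, 72))) (.node 6003 (.leaf (362, 77, 43)) (.leaf (4159, 193, 27)))) (.node 6006 (.node 6005 (.leaf (5882, 95, 49)) (.leaf (386, 151, 8))) (.node 6007 (.leaf (1563, 185, 62)) (.leaf (6043, 146, 46)))))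 (.node 6012 (.node 6010 (.node 6009 (.leaf (5541, 66, 61)) (.leaf (3504, 117, 30))) (.node 6011 (.leaf (1416, 268, 70)) (.leaf (5885, 263, 54)))) (.node 6014 (.node 6013 (.leaf (6123, 141, 86)) (.leaf (6146, 143, 55))) (.node 6015 (.leaf (5950, 70, 0)) (.leaf (4993, 81, 69)))))))

def tEY_188 : BT (ℕ × ℕ × ℕ) := (.node 6032 (.node 6024 (.node 6020 (.node 6018 (.node 6017 (.leaf (5979, 173, 26)) (.leaf (1332, 59, 27))) (.node 6019 (.leaf (4085, 75, 41)) (.leaf (621, 94, 10)))) (.node 6022 (.node 6021 (.leaf (3972, 182, 42)) (.leaf (6084, 183, 9))) (.node 6023 (.leaf (6049, 243, 41)) (.leaf (5535, 161, 47))))) (.node 6028 (.node 6026 (.node 6025 (.leaf (6029, 198, 82)) (.leaf (5775, 115, 55))) (.node 6027 (.leaf (6032, 72, 47)) (.leaf (6114, 174, 7)))) (.node 6030 (.node 6029 (.leaf (5953, 226, 77)) (.leaf (3279, 39, 67))) (.node 6031 (.leaf (5129, 252, 46)) (.leaf (4780, 101, 45)))))) (.node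 6040 (.node 6036 (.node 6034 (.node 6033 (.leaf (3996, 71, 17)) (.leaf (6153, 0, 0))) (.node 6035 (.leaf (2191, 16, 53)) (.leaf (4344, 193, 6)))) (.node 6038 (.node 6037 (.leaf (1542, 129, 54)) (.leaf (5621, 140, 16))) (.node 6039 (.leaf (4670, 170, 22)) (.leaf (5303, 248, 28))))) (.node 6044 (.node 6042 (.node 6041 (.leaf (5400, 95, 44)) (.leaf (5112, 104, 43))) (.node 6043 (.leaf (6116, 170, 77)) (.leaf (4315, 70, 3)))) (.node 6046 (.node 6045 (.leaf (5277, 264, 85)) (.leaf (5155, 168, 65))) (.node 6047 (.leaf (5891, 242, 75)) (.leaf (5626, 268, 83)))))))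

def tEY_189 : BT (ℕ × ℕ × ℕ) := (.node 6064 (.node 6056 (.node 6052 (.node 6050 (.node 6049 (.leaf (5499, 83, 86)) (.leaf (6094, 34, 24))) (.node 6051 (.leaf (5519, 241, 24)) (.leaf (471, 77, 19)))) (.node 6054 (.node 6053 (.leaf (4621, 31, 22)) (.leaf (5736, 144, 88))) (.node 6055 (.leaf (3026, 144, 46)) (.leaf (1875, 121, 57))))) (.node 6060 (.node 6058 (.node 6057 (.leaf (5863, 114, 52)) (.leaf (3199, 35, 86))) (.node 6059 (.leaf (827, 210, 0)) (.leaf (5546, 211, 43)))) (.node 6062 (.node 6061 (.leaf (6155, 0, 0)) (.leaf (5565, 226, 51))) (.node 6063 (.leaf (229, 137, 69)) (.leaf (5350, 64, 56)))))) (.node 6072 (.node 6068 (.node 6066 (.node 6065 (.leaf (6152, 47, 0)) (.leaf (3527, 68, 18))) (.node 6067 (.leaf (5822, 180, 44)) (.leaf (613, 69, 49)))) (.node 6070 (.node 6069 (.leaf (5771, 173, 82)) (.leaf (4243, 32, 57))) (.node 6071 (.leaf (3542, 127, 64)) (.leaf (1336, 51, 48))))) (.node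 6076 (.node 6074 (.node 6073 (.leaf (353, 241, 11)) (.leaf (1513, 135, 87))) (.node 6075 (.leaf (84, 129, 30)) (.leaf (2673, 26, 63)))) (.node 6078 (.node 6077 (.leaf (5793, 139, 17)) (.leaf (692, 160, 9))) (.node 6079 (.leaf (4182, 34, 41)) (.leaf (6151, 0, 51)))))))

def tEY_190 : BT (ℕ × ℕ × ℕ) := (.node 6096 (.node 6088 (.node 6084 (.node 6082 (.node 6081 (.leaf (5590, 244, 24)) (.leaf (5055, 101, 44))) (.node 6083 (.leaf (6104, 142, 20)) (.leaf (1606, 63, 7)))) (.node 6086 (.node 6085 (.leaf (1864, 215, 35)) (.leaf (2449, 44, 23))) (.node 6087 (.leaf (2937, 124, 54)) (.leaf (6141, 67, 46))))) (.node 6092 (.node 6090 (.node 6089 (.leaf (5214, 102, 12)) (.leaf (5867, 234, 59))) (.node 6091 (.leaf (4819, 12, 25)) (.leaf (2849, 24, 89)))) (.node 6094 (.node 6093 (.leaf (2159, 3, 23)) (.leaf (3437, 60, 54))) (.node 6095 (.leaf (4020, 67, 87)) (.leaf (3872, 36, 64)))))) (.node 6104 (.node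 6100 (.node 6098 (.node 6097 (.leaf (5784, 88, 45)) (.leaf (2594, 199, 69))) (.node 6099 (.leaf (5710, 158, 39)) (.leaf (4059, 43, 27)))) (.node 6102 (.node 6101 (.leaf (5508, 163, 50)) (.leaf (5364, 105, 39))) (.node 6103 (.leaf (894, 179, 53)) (.leaf (5998, 60, 76))))) (.node 6108 (.node 6106 (.node 6105 (.leaf (5722, 155, 86)) (.leaf (6126, 149, 82))) (.node 6107 (.leaf (3943, 62, 28)) (.leaf (5997, 77, 10)))) (.node 6110 (.node 6109 (.leaf (6074, 73, 64)) (.leaf (4647, 157, 53))) (.node 6111 (.leaf (5923, 45, 49)) (.leaf (5906, 260, 60)))))))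

def tEY_191 : BT (ℕ × ℕ × ℕ) := (.node 6128 (.node 6120 (.node 6116 (.node 6114 (.node 6113 (.leaf (3597, 6, 79)) (.leaf (6102, 254, 6))) (.node 6115 (.leaf (4952, 180, 37)) (.leaf (2397, 209, 62)))) (.node 6118 (.node 6117 (.leaf (5269, 42, 48)) (.leaf (86, 70, 19))) (.node 6119 (.leaf (5713, 67, 4)) (.leaf (3591, 152, 14))))) (.node 6124 (.node 6122 (.node 6121 (.leaf (5941, 224, 51)) (.leaf (5560, 136, 77))) (.node 6123 (.leaf (5430, 259, 23)) (.leaf (6120, 112, 56)))) (.node 6126 (.node 6125 (.leaf (5947, 243, 74)) (.leaf (5399, 33, 9))) (.node 6127 (.leaf (473, 143, 8)) (.leaf (907, 232, 8)))))) (.node 6136 (.node 6132 (.node 6130 (.node 6129 (.leaf (1353, 103, 16)) (.leaf (5981, 247, 67))) (.node 6131 (.leaf (6144, 95, 35)) (.leaf (5823, 259, 59)))) (.node 6134 (.node 6133 (.leaf (2368, 157, 16)) (.leaf (5969, 20, 55))) (.node 6135 (.leaf (4183, 71, 16)) (.leaf (2305, 263, 67)))))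 (.node 6140 (.node 6138 (.node 6137 (.leaf (5474, 0, 66)) (.leaf (3957, 167, 34))) (.node 6139 (.leaf (2962, 259, 86)) (.leaf (6092, 104, 62)))) (.node 6142 (.node 6141 (.leaf (1172, 75, 66)) (.leaf (2867, 148, 68))) (.node 6143 (.leaf (5833, 169, 81)) (.leaf (6113, 33, 65)))))))

def tEY_192 : BT (ℕ × ℕ × ℕ) := (.node 6150 (.node 6147 (.node 6145 (.leaf (6154, 238, 49)) (.node 6146 (.leaf (6127, 39, 48)) (.leaf (5939, 94, 62)))) (.node 6148 (.leaf (5850, 83, 18)) (.node 6149 (.leaf (3425, 17, 53)) (.leaf (5098, 192, 33))))) (.node 6153 (.node 6151 (.leaf (3374, 18, 31)) (.node 6152 (.leaf (3208, 127, 78)) (.leaf (5008, 199, 84)))) (.node 6154 (.leaf (2633, 212, 46)) (.node 6155 (.leaf (2896, 29, 88)) (.leaf (1919, 196, 12))))))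

def tEYG_0 : BT (ℕ × ℕ × ℕ) := (.node 384 (.node 192 (.node 96 (.node 32 tEY_0 (.node 64 tEY_1 tEY_2)) (.node 128 tEY_3 (.node 160 tEY_4 tEY_5))) (.node 288 (.node 224 tEY_6 (.node 256 tEY_7 tEY_8)) (.node 320 tEY_9 (.node 352 tEY_10 tEY_11)))) (.node 576 (.node 480 (.node 416 tEY_12 (.node 448 tEY_13 tEY_14)) (.node 512 tEY_15 (.node 544 tEY_16 tEY_17))) (.node 672 (.node 608 tEY_18 (.node 640 tEY_19 tEY_20)) (.node 704 tEY_21 (.node 736 tEY_22 tEY_23)))))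

def tEYG_24 : BT (ℕ × ℕ × ℕ) := (.node 1152 (.node 960 (.node 864 (.node 800 tEY_24 (.node 832 tEY_25 tEY_26)) (.node 896 tEY_27 (.node 928 tEY_28 tEY_29))) (.node 1056 (.node 992 tEY_30 (.node 1024 tEY_31 tEY_32)) (.node 1088 tEY_33 (.node 1120 tEY_34 tEY_35)))) (.node 1344 (.node 1248 (.node 1184 tEY_36 (.node 1216 tEY_37 tEY_38)) (.node 1280 tEY_39 (.node 1312 tEY_40 tEY_41))) (.node 1440 (.node 1376 tEY_42 (.node 1408 tEY_43 tEY_44)) (.node 1472 tEY_45 (.node 1504 tEY_46 tEY_47)))))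

def tEYG_48 : BT (ℕ × ℕ × ℕ) := (.node 1920 (.node 1728 (.node 1632 (.node 1568 tEY_48 (.node 1600 tEY_49 tEY_50)) (.node 1664 tEY_51 (.node 1696 tEY_52 tEY_53))) (.node 1824 (.node 1760 tEY_54 (.node 1792 tEY_55 tEY_56)) (.node 1856 tEY_57 (.node 1888 tEY_58 tEY_59)))) (.node 2112 (.node 2016 (.node 1952 tEY_60 (.node 1984 tEY_61 tEY_62)) (.node 2048 tEY_63 (.node 2080 tEY_64 tEY_65))) (.node 2208 (.node 2144 tEY_66 (.node 2176 tEY_67 tEY_68)) (.node 2240 tEY_69 (.node 2272 tEY_70 tEY_71)))))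

def tEYG_72 : BT (ℕ × ℕ × ℕ) := (.node 2688 (.node 2496 (.node 2400 (.node 2336 tEY_72 (.node 2368 tEY_73 tEY_74)) (.node 2432 tEY_75 (.node 2464 tEY_76 tEY_77))) (.node 2592 (.node 2528 tEY_78 (.node 2560 tEY_79 tEY_80)) (.node 2624 tEY_81 (.node 2656 tEY_82 tEY_83)))) (.node 2880 (.node 2784 (.node 2720 tEY_84 (.node 2752 tEY_85 tEY_86)) (.node 2816 tEY_87 (.node 2848 tEY_88 tEY_89))) (.node 2976 (.node 2912 tEY_90 (.node 2944 tEY_91 tEY_92)) (.node 3008 tEY_93 (.node 3040 tEY_94 tEY_95)))))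

def tEYG_96 : BT (ℕ × ℕ × ℕ) := (.node 3456 (.node 3264 (.node 3168 (.node 3104 tEY_96 (.node 3136 tEY_97 tEY_98)) (.node 3200 tEY_99 (.node 3232 tEY_100 tEY_101))) (.node 3360 (.node 3296 tEY_102 (.node 3328 tEY_103 tEY_104)) (.node 3392 tEY_105 (.node 3424 tEY_106 tEY_107)))) (.node 3648 (.node 3552 (.node 3488 tEY_108 (.node 3520 tEY_109 tEY_110)) (.node 3584 tEY_111 (.node 3616 tEY_112 tEY_113))) (.node 3744 (.node 3680 tEY_114 (.node 3712 tEY_115 tEY_116)) (.node 3776 tEY_117 (.node 3808 tEY_118 tEY_119)))))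

def tEYG_120 : BT (ℕ × ℕ × ℕ) := (.node 4224 (.node 4032 (.node 3936 (.node 3872 tEY_120 (.node 3904 tEY_121 tEY_122)) (.node 3968 tEY_123 (.node 4000 tEY_124 tEY_125))) (.node 4128 (.node 4064 tEY_126 (.node 4096 tEY_127 tEY_128)) (.node 4160 tEY_129 (.node 4192 tEY_130 tEY_131)))) (.node 4416 (.node 4320 (.node 4256 tEY_132 (.node 4288 tEY_133 tEY_134)) (.node 4352 tEY_135 (.node 4384 tEY_136 tEY_137))) (.node 4512 (.node 4448 tEY_138 (.node 4480 tEY_139 tEY_140)) (.node 4544 tEY_141 (.node 4576 tEY_142 tEY_143)))))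

def tEYG_144 : BT (ℕ × ℕ × ℕ) := (.node 4992 (.node 4800 (.node 4704 (.node 4640 tEY_144 (.node 4672 tEY_145 tEY_146)) (.node 4736 tEY_147 (.node 4768 tEY_148 tEY_149))) (.node 4896 (.node 4832 tEY_150 (.node 4864 tEY_151 tEY_152)) (.node 4928 tEY_153 (.node 4960 tEY_154 tEY_155)))) (.node 5184 (.node 5088 (.node 5024 tEY_156 (.node 5056 tEY_157 tEY_158)) (.node 5120 tEY_159 (.node 5152 tEY_160 tEY_161))) (.node 5280 (.node 5216 tEY_162 (.node 5248 tEY_163 tEY_164)) (.node 5312 tEY_165 (.node 5344 tEY_166 tEY_167)))))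

def tEYG_168 : BT (ℕ × ℕ × ℕ) := (.node 5760 (.node 5568 (.node 5472 (.node 5408 tEY_168 (.node 5440 tEY_169 tEY_170)) (.node 5504 tEY_171 (.node 5536 tEY_172 tEY_173))) (.node 5664 (.node 5600 tEY_174 (.node 5632 tEY_175 tEY_176)) (.node 5696 tEY_177 (.node 5728 tEY_178 tEY_179)))) (.node 5952 (.node 5856 (.node 5792 tEY_180 (.node 5824 tEY_181 tEY_182)) (.node 5888 tEY_183 (.node 5920 tEY_184 tEY_185))) (.node 6048 (.node 5984 tEY_186 (.node 6016 tEY_187 tEY_188)) (.node 6112 (.node 6080 tEY_189 tEY_190) (.node 6144 tEY_191 tEY_192)))))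

def tEY : BT (ℕ × ℕ × ℕ) := (.node 3072 (.node 1536 (.node 768 tEYG_0 tEYG_24) (.node 2304 tEYG_48 tEYG_72)) (.node 4608 (.node 3840 tEYG_96 tEYG_120) (.node 5376 tEYG_144 tEYG_168)))

end CfsgLib.J3
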