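import Cfsg.Agent.Lib.Sporadic.J3.DataK

/-! The coded generators are the generators of `Cfsg.Spor.threeJ3`. -/

set_option autoImplicit false
set_option maxRecDepth 100000

namespace CfsgLib.J3

open Cfsg.Spor

/-- bits of a power of ω -/
def pw (n : ZMod 3) : Bool × Bool := if n = 0 then (true, false) else if n = 1 then (false, true) else (true, true)

/-- position of a non-zero index in the lists for B and C -/
def nzi (Z : F9) : ℕ := fi Z - 1

/-- expected entries of A -/
def eA (Z r c : F9) : Bool × Bool := if r = c then pw (Z.1 * c.1 + Z.2 * c.2) else (false, false)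

/-- expected entries of E -/
def eE (Z r c : F9) : Bool × Bool :=
  if r = c then pw ((Z.1 - c.1) ^ 2 + (Z.2 - c.2) ^ 2) else (false, false)

/-- expected coefficient of D -/
def eLam (Z z : F9) : Bool × Bool :=
  if z = 0 then (true, false)
  else if F9.div Z z = F9.I - F9.one then (false, true)
  else if F9.div Z z = -F9.I - F9.one then (true, true)
  else (true, false)

/-- expected entries of D -/
def eD (Z r c : F9) : Bool × Bool := if r = c + Z then eLam Z c else (false, false)

/-- expected entries of B -/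
def eB (Z r c : F9) : Bool × Bool := if r = F9.mul Z c then (true, false) else (false, false)

/-- expected entries of C -/
def eC (Z r c : F9) : Bool × Bool :=
  if c = 0 then (if r = 0 then (true, false) else (false, false))
  else if r = -F9.div Z c ∨ r = F9.mul F9.I (F9.div Z c) ∨ r = -F9.mul F9.I (F9.div Z c) then (true, false)
  else (false, false)

theorem cA_bits : ∀ Z r c : F9, bits (cA.getD (fi Z) one) (fi r) (fi c) = eA Z r c := by decide +kernel
theorem cE_bits : ∀ Z r c : F9, bits (cE.getD (fi Z) one) (fi r) (fi c) = eE Z r c := by decide +kernel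
theorem cD_bits : ∀ Z r c : F9, bits (cD.getD (fi Z) one) (fi r) (fi c) = eD Z r c := by decide +kernel
theorem cB_bits : ∀ Z r c : F9, Z ≠ 0 → bits (cB.getD (nzi Z) one) (fi r) (fi c) = eB Z r c := by decide +kernel
theorem cC_bits : ∀ Z r c : F9, Z ≠ 0 → bits (cC.getD (nzi Z) one) (fi r) (fi c) = eC Z r c := by decide +kernel

/-- all coded generators -/
def genL : List M2 := cA ++ cE ++ cD ++ cB ++ cC

theorem genL_pos : ∀ Z : F9, genL.getD (fi Z) one = cA.getD (fi Z) one ∧
    genL.getD (9 + fi Z) one = cE.getD (fi Z) one ∧ genL.getD (18 + fi Z) one = cD.getD (fi Z) one := by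
  intro Z
  have h := fi_lt Z
  generalize fi Z = k at h
  interval_cases k <;> exact ⟨rfl, rfl, rfl⟩

theorem genL_pos' : ∀ Z : F9, Z ≠ 0 → genL.getD (27 + nzi Z) one = cB.getD (nzi Z) one ∧
    genL.getD (35 + nzi Z) one = cC.getD (nzi Z) one := by
  intro Z hZ
  have h := fi_lt Z
  have h' : fi Z ≠ 0 := fun e => hZ (fi_injective (e.trans rfl))
  unfold nzi
  generalize fi Z = k at h h'
  interval_cases k <;> exact ⟨rfl, rfl⟩

variable {F : Type*} [Field F] {ω : F} (h2 : (2 : F) = 0) (hω : ω ^ 2 + ω + 1 = 0)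

include h2 hω in
theorem el_pw (n : ZMod 3) : el F ω (pw n) = omegaPow F ω n := by
  have h : n = 0 ∨ n = 1 ∨ n = 2 := by revert n; decide
  rcases h with rfl | rfl | rfl
  · simp [pw, el, omegaPow]
  · simp [pw, el, omegaPow, show (1 : ZMod 3) ≠ 0 by decide, show (1 : ZMod 3).val = 1 from rfl]
  · simp [pw, el, omegaPow, show (2 : ZMod 3) ≠ 0 by decide, show (2 : ZMod 3) ≠ 1 by decide,
      show (2 : ZMod 3).val = 2 from rfl, omega_sq h2 hω]

include h2 hω in
theorem toM_cA (Z : F9) : toM F ω (cA.getD (fi Z) one) = j3A F ω Z := by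
  ext r c
  rw [toM, Matrix.of_apply, cA_bits, eA, j3A, Matrix.diagonal_apply]
  by_cases h : r = c
  · subst h; rw [if_pos rfl, if_pos rfl, el_pw h2 hω]
  · rw [if_neg h, if_neg h, el_zero]

include h2 hω in
theorem toM_cE (Z : F9) : toM F ω (cE.getD (fi Z) one) = j3E F ω Z := by
  ext r c
  rw [toM, Matrix.of_apply, cE_bits, eE, j3E, Matrix.diagonal_apply]
  by_cases h : r = c
  · subst h; rw [if_pos rfl, if_pos rfl, el_pw h2 hω]
  · rw [if_neg h, if_neg h, el_zero]

include h2 hω in
theorem toM_cD (Z : F9) : toM F ω (cD.getD (fi Z) one) = j3D F ω Z := by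
  ext r c
  rw [toM, Matrix.of_apply, cD_bits, eD, j3D, Matrix.of_apply, eLam, j3Lam]
  split_ifs <;> simp [el, omega_sq h2 hω]

theorem toM_cB (Z : F9) (hZ : Z ≠ 0) : toM F ω (cB.getD (nzi Z) one) = j3B F Z := by
  ext r c
  rw [toM, Matrix.of_apply, cB_bits Z r c hZ, eB, j3B, Matrix.of_apply]
  split_ifs <;> simp [el]

theorem toM_cC (Z : F9) (hZ : Z ≠ 0) : toM F ω (cC.getD (nzi Z) one) = j3C F Z := by
  ext r c
  rw [toM, Matrix.of_apply, cC_bits Z r c hZ, eC, j3C, Matrix.of_apply]
  split_ifs <;> simp [el]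

theorem genL_length : genL.length = 43 := rfl

include h2 hω in
/-- every generating matrix is coded -/
theorem exists_code {M : Matrix F9 F9 F} (h : M ∈ j3Gens F ω) :
    ∃ n < 43, M = toM F ω (genL.getD n one) := by
  simp only [j3Gens, Set.mem_union, Set.mem_range, Set.mem_ofPred_eq] at h
  rcases h with (((⟨Z, rfl⟩ | ⟨Z, rfl⟩) | ⟨Z, rfl⟩) | ⟨Z, hZ, rfl⟩) | ⟨Z, hZ, rfl⟩
  · exact ⟨fi Z, by have := fi_lt Z; omega, by rw [(genL_pos Z).1, toM_cA h2 hω]⟩
  · exact ⟨9 + fi Z, by have := fi_lt Z; omega, by rw [(genL_pos Z).2.1, toM_cE h2 hω]⟩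
  · exact ⟨18 + fi Z, by have := fi_lt Z; omega, by rw [(genL_pos Z).2.2, toM_cD h2 hω]⟩
  · exact ⟨27 + nzi Z, by have := fi_lt Z; unfold nzi; omega, by rw [(genL_pos' Z hZ).1, toM_cB Z hZ]⟩
  · exact ⟨35 + nzi Z, by have := fi_lt Z; unfold nzi; omega, by rw [(genL_pos' Z hZ).2, toM_cC Z hZ]⟩

include h2 hω in
/-- every coded matrix in the list is a generating matrix -/
theorem code_mem {n : ℕ} (hn : n < 43) : toM F ω (genL.getD n one) ∈ j3Gens F ω := by
  simp only [j3Gens, Set.mem_union, Set.mem_range, Set.mem_ofPred_eq]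
  rcases Nat.lt_or_ge n 9 with h | h
  · left; left; left; left
    exact ⟨fz n, by rw [← toM_cA h2 hω, ← (genL_pos (fz n)).1, fi_fz _ h]⟩
  rcases Nat.lt_or_ge n 18 with h' | h'
  · left; left; left; right
    refine ⟨fz (n - 9), ?_⟩
    rw [← toM_cE h2 hω, ← (genL_pos (fz (n - 9))).2.1, fi_fz _ (by omega), show 9 + (n - 9) = n by omega]
  rcases Nat.lt_or_ge n 27 with h'' | h''
  · left; left; right
    refine ⟨fz (n - 18), ?_⟩
    rw [← toM_cD h2 hω, ← (genL_pos (fz (n - 18))).2.2, fi_fz _ (by omega), show 18 + (n - 18) = n by omega]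
  rcases Nat.lt_or_ge n 35 with h3 | h3
  · left; right
    have hz : fz (n - 27 + 1) ≠ 0 := fun e => by
      have := congrArg fi e
      rw [fi_fz _ (by omega)] at this
      simp [fi] at this
    refine ⟨_, hz, ?_⟩
    rw [← toM_cB _ hz, ← (genL_pos' _ hz).1, nzi, fi_fz _ (by omega), show 27 + (n - 27 + 1 - 1) = n by omega]
  · right
    have hz : fz (n - 35 + 1) ≠ 0 := fun e => by
      have := congrArg fi e
      rw [fi_fz _ (by omega)] at this
      simp [fi] at this
    refine ⟨_, hz, ?_⟩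
    rw [← toM_cC _ hz, ← (genL_pos' _ hz).2, nzi, fi_fz _ (by omega), show 35 + (n - 35 + 1 - 1) = n by omega]

end CfsgLib.J3
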