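import Cfsg.Agent.Lib.Sporadic.J3.Echelon
import Cfsg.Agent.Lib.Sporadic.J3.Gens
import Cfsg.Agent.Lib.Sporadic.J3.DataT
import Cfsg.Agent.Lib.Sporadic.J3.DataR
import Cfsg.Agent.Lib.Sporadic.J3.DataS
import Cfsg.Agent.Lib.Sporadic.J3.DataS1
import Cfsg.Agent.Lib.Sporadic.J3.DataE

/-! The boolean checks of the certificate. -/

set_option autoImplicit false

namespace CfsgLib.J3

/-- tabulated coset representative -/
def T (i : ℕ) : M2 := tT.get i
/-- tabulated echelon code -/
def R (i : ℕ) : M2 := tR.get i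
/-- tabulated element of the stabiliser -/
def U (a : ℕ) : M2 := tU.get a
/-- tabulated element of the small subgroup -/
def V (b : ℕ) : M2 := tV.get b
/-- tabulated conjugate of the auxiliary matrix -/
def DU (a : ℕ) : M2 := tDU.get a

/-- bounded universal quantifier from `lo` -/
noncomputable def allFrom (lo len : ℕ) (f : ℕ → Bool) : Bool :=
  Nat.rec true (fun j ih => f (Nat.add lo j) && ih) len

theorem allFrom_spec {lo : ℕ} {f : ℕ → Bool} : ∀ {len : ℕ}, allFrom lo len f = true →
    ∀ i, lo ≤ i → i < lo + len → f i = true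
  | 0, _, i, h1, h2 => absurd h2 (by omega)
  | len + 1, h, i, h1, h2 => by
    change (f (lo + len) && allFrom lo len f) = true at h
    rw [Bool.and_eq_true] at h
    rcases Nat.lt_succ_iff_lt_or_eq.1 (show i < (lo + len) + 1 by omega) with hi | rfl
    · exact allFrom_spec h.2 i h1 hi
    · exact h.1

/-- check of a coset representative -/
def chkT (i : ℕ) : Bool :=
  okb (T i) && okb (R i) && echB (R i) (tPiv.get i) &&
    beq (mul (T i) gBw) (mul (R i) (tS.get i)) && beq (mul (mul (T i) gBw) (tS2.get i)) (R i) &&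
    (Nat.beq i 0 ||
      (match tPar.get i with
        | (g, p) => Nat.blt p i && beq (T i) (mul (bif Nat.beq g 0 then gX else gY) (T p))))

/-- check of an edge -/
def chkE (g : M2) (tE : BT (ℕ × ℕ × ℕ)) (i : ℕ) : Bool :=
  match tE.get i with
  | (j, a, b) => Nat.blt j 6156 && Nat.blt a 272 && Nat.blt b 90 &&
      beq (mul g (T i)) (mul (mul (T j) (U a)) (V b))

/-- check that the sorting is strict -/
def chkSort (n : ℕ) (c : ℕ → M2) (σ : BT ℕ) (i : ℕ) : Bool :=
  Nat.blt (σ.get i) n &&
    (Nat.beq (i + 1) n || Nat.blt (key (c (σ.get i))) (key (c (σ.get (i + 1)))))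

/-- check of a transversal element of the stabiliser -/
def chkU (a : ℕ) : Bool :=
  okb (DU a) && beq (mul (U a) gP2) (mul (DU a) (U a)) &&
    (match tUE1.get a with
      | (a', b) => Nat.blt a' 272 && Nat.blt b 90 && beq (mul gK1 (U a)) (mul (U a') (V b))) &&
    (match tUE2.get a with
      | (a', b) => Nat.blt a' 272 && Nat.blt b 90 && beq (mul gK2 (U a)) (mul (U a') (V b))) &&
    (Nat.beq a 0 ||
      (match tUpar.get a with
        | (g, p) => Nat.blt p a && beq (U a) (mul (bif Nat.beq g 0 then gK1 else gK2) (U p))))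

/-- check of an element of the small subgroup -/
def chkV (b : ℕ) : Bool :=
  okb (V b) && Nat.blt (tVE1.get b) 90 && beq (mul gV1 (V b)) (V (tVE1.get b)) &&
    Nat.blt (tVE2.get b) 90 && beq (mul gV2 (V b)) (V (tVE2.get b)) &&
    (Nat.beq b 0 ||
      (match tVpar.get b with
        | (g, p) => Nat.blt p b && beq (V b) (mul (bif Nat.beq g 0 then gV1 else gV2) (V p))))

/-- product of a word in two letters -/
def wordProd (x y : M2) : List Bool → M2
  | [] => one
  | b :: l => mul (bif b then x else y) (wordProd x y l)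

/-- the product named by a triple -/
def triple : ℕ × ℕ × ℕ → M2
  | (i, a, b) => mul (mul (T i) (U a)) (V b)

/-- range check of a triple -/
def tripleOk : ℕ × ℕ × ℕ → Bool
  | (i, a, b) => Nat.blt i 6156 && Nat.blt a 272 && Nat.blt b 90

/-- check of a generator -/
def chkGen (n : ℕ) : Bool :=
  tripleOk (genDec.getD n (0, 0, 0)) && beq (genL.getD n one) (triple (genDec.getD n (0, 0, 0))) &&
    beq (mul (genL.getD n one) (genInv.getD n one)) one

/-- check of a split element -/
def chkSplit (x : M2 × (ℕ × ℕ × ℕ)) (p : ℕ) : Bool :=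
  tripleOk x.2 && beq x.1 (triple x.2) && beq (lprod (List.replicate p x.1)) one

/-- the assorted single checks -/
def chkMisc : Bool :=
  beq (T 0) one && beq (U 0) one && beq (V 0) one &&
  beq gX (lprod (wordX.map fun n => genL.getD n one)) && wordX.all (fun n => Nat.blt n 43) &&
  beq gY (lprod (wordY.map fun n => genL.getD n one)) && wordY.all (fun n => Nat.blt n 43) &&
  beq gK1 (wordProd gX gY wordK1) && beq gK2 (wordProd gX gY wordK2) &&
  beq gV1 (wordProd gK1 gK2 wordV1) && beq gV2 (wordProd gK1 gK2 wordV2) &&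
  beq (mul gK1 gBw) (mul gBw gSk1) && beq (mul gK2 gBw) (mul gBw gSk2) &&
  beq (mul gV1 gP2) (mul gP2 gV1) && beq (mul gV2 gP2) (mul gP2 gV2) &&
  beq (lprod (List.replicate 19 gX)) one && beq (lprod (List.replicate 17 gY)) one &&
  tripleOk omDec && beq omCode (triple omDec) &&
  chkSplit sXa 17 && chkSplit sXb 17 && beq gX (mul sXa.1 sXb.1) &&
  chkSplit sYa 19 && chkSplit sYb 19 && beq gY (mul sYa.1 sYb.1) &&
  beq (mul gQ gQi) one && beq (mul gQ gShift) (mul (mul gX gQ) gDrop) &&
  beq (add (mul gA (add gY one)) (mul gQ gPhi)) one && beq (mul gXad gX) one && beq (mul gYad gY) one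

end CfsgLib.J3
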