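import Mathlib
import Cfsg.Prelude.Def_Spor_J3

/-!
Matrices of size 9 over a field with four elements coded by two bit planes, for computation in the kernel.
The bit `9 * r + c` of the planes `p0`, `p1` gives the entry `b0 + b1 * ω` in row `r` and column `c`.
-/

set_option autoImplicit false

namespace CfsgLib.J3

open Cfsg.Spor

/-- coded matrix -/
structure M2 where
  p0 : ℕ
  p1 : ℕ

/-- lookup tree -/
inductive BT (α : Type) : Type
  | leaf : α → BT α
  | node : ℕ → BT α → BT α → BT α

/-- lookup -/
def BT.get {α : Type} : BT α → ℕ → α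
  | .leaf a, _ => a
  | .node k l r, i => bif Nat.blt i k then l.get i else r.get i

/-- bits `0, 9, ..., 72` -/
def colMask : ℕ := 4731607904558235517441

/-- column `k` -/
def col (a k : ℕ) : ℕ := (a >>> k) &&& colMask

/-- row `k` -/
def row (b k : ℕ) : ℕ := (b >>> (9 * k)) &&& 511

/-- plane zero of the outer product -/
def t0 (a b : M2) (k : ℕ) : ℕ := (col a.p0 k * row b.p0 k) ^^^ (col a.p1 k * row b.p1 k)

/-- plane one of the outer product -/
def t1 (a b : M2) (k : ℕ) : ℕ :=
  ((col a.p0 k * row b.p1 k) ^^^ (col a.p1 k * row b.p0 k)) ^^^ (col a.p1 k * row b.p1 k)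

/-- sum of the nine outer products -/
def f9 (f : ℕ → ℕ) : ℕ :=
  f 0 ^^^ (f 1 ^^^ (f 2 ^^^ (f 3 ^^^ (f 4 ^^^ (f 5 ^^^ (f 6 ^^^ (f 7 ^^^ f 8)))))))

/-- product -/
def mul (a b : M2) : M2 := ⟨f9 (t0 a b), f9 (t1 a b)⟩

/-- sum -/
def add (a b : M2) : M2 := ⟨a.p0 ^^^ b.p0, a.p1 ^^^ b.p1⟩

/-- identity -/
def one : M2 := ⟨1 + 2 ^ 10 + 2 ^ 20 + 2 ^ 30 + 2 ^ 40 + 2 ^ 50 + 2 ^ 60 + 2 ^ 70 + 2 ^ 80, 0⟩

/-- equality test -/
def beq (a b : M2) : Bool := Nat.beq a.p0 b.p0 && Nat.beq a.p1 b.p1

/-- in range -/
def okb (a : M2) : Bool := Nat.blt a.p0 (2 ^ 81) && Nat.blt a.p1 (2 ^ 81)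

/-- a single number determining a coded matrix in range -/
def key (a : M2) : ℕ := a.p0 + 2 ^ 81 * a.p1

theorem beq_eq {a b : M2} (h : beq a b = true) : a = b := by
  obtain ⟨a0, a1⟩ := a
  obtain ⟨b0, b1⟩ := b
  simp only [beq, Bool.and_eq_true, Nat.beq_eq] at h
  simp [h]

/-- product of a list of coded matrices -/
def lprod : List M2 → M2
  | [] => one
  | a :: l => mul a (lprod l)

theorem testBit_colMask (i : ℕ) (h : colMask.testBit i = true) : i % 9 = 0 ∧ i < 81 := by
  by_cases hi : i < 81
  · revert h; revert hi; revert i; decide +kernel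
  · have hlt : colMask < 2 ^ i :=
      lt_of_lt_of_le (by decide : colMask < 2 ^ 81) (Nat.pow_le_pow_right (by norm_num) (by omega))
    rw [Nat.testBit_lt_two_pow hlt] at h
    exact absurd h (by simp)

theorem colMask_bit : ∀ r, r < 9 → colMask.testBit (9 * r) = true := by decide +kernel

theorem testBit_mul_sparse (r : ℕ) : ∀ (x y c : ℕ), (∀ i, x.testBit i = true → i % 9 = 0) → y < 512 →
    c < 9 → (x * y).testBit (9 * r + c) = (x.testBit (9 * r) && y.testBit c) := by
  induction r with
  | zero =>
    intro x y c hx hy hc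
    have h2 : x % 512 = if x.testBit 0 then 1 else 0 := by
      apply Nat.eq_of_testBit_eq
      intro i
      rw [show (512 : ℕ) = 2 ^ 9 from rfl, Nat.testBit_mod_two_pow]
      rcases Nat.eq_zero_or_pos i with rfl | hi
      · cases x.testBit 0 <;> simp
      · have hf : (decide (i < 9) && x.testBit i) = false := by
          by_contra hne
          simp only [Bool.not_eq_false, Bool.and_eq_true, decide_eq_true_eq] at hne
          have := hx i hne.2
          omega
        rw [hf]
        obtain ⟨j, rfl⟩ : ∃ j, i = j + 1 := ⟨i - 1, by omega⟩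
        cases x.testBit 0 <;> simp [Nat.testBit_succ]
    have h3 : x * y = 2 ^ 9 * (x / 512 * y) + x % 512 * y := by
      rw [show (2 : ℕ) ^ 9 = 512 from rfl]
      conv_lhs => rw [← Nat.div_add_mod x 512, add_mul, mul_assoc]
    have hb : x % 512 * y < 2 ^ 9 := by
      rw [h2]; split <;> simp <;> omega
    rw [h3, Nat.testBit_two_pow_mul_add _ hb, if_pos (by omega), h2]
    simp only [Nat.mul_zero, zero_add]
    cases x.testBit 0 <;> simp
  | succ r ih =>
    intro x y c hx hy hc
    have h3 : x * y = 2 ^ 9 * (x / 512 * y) + x % 512 * y := by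
      rw [show (2 : ℕ) ^ 9 = 512 from rfl]
      conv_lhs => rw [← Nat.div_add_mod x 512, add_mul, mul_assoc]
    have h2 : x % 512 < 2 := by
      by_contra hge
      obtain ⟨i, hi⟩ := Nat.exists_testBit_of_ne_zero (x := x % 512 / 2) (by omega)
      rw [Nat.testBit_div_two, show (512 : ℕ) = 2 ^ 9 from rfl, Nat.testBit_mod_two_pow] at hi
      simp only [Bool.and_eq_true, decide_eq_true_eq] at hi
      have := hx _ hi.2
      omega
    have hb : x % 512 * y < 2 ^ 9 :=
      lt_of_le_of_lt (Nat.mul_le_mul_right y (by omega : x % 512 ≤ 1)) (by simpa using hy)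
    rw [h3, Nat.testBit_two_pow_mul_add _ hb, if_neg (by omega),
      show 9 * (r + 1) + c - 9 = 9 * r + c by omega,
      ih _ y c (fun i hi => by
        rw [show (512 : ℕ) = 2 ^ 9 from rfl, Nat.testBit_div_two_pow] at hi
        have := hx _ hi
        omega) hy hc, show (512 : ℕ) = 2 ^ 9 from rfl, Nat.testBit_div_two_pow,
      show 9 * r + 9 = 9 * (r + 1) by omega]

theorem testBit_outer (a b k r c : ℕ) (hr : r < 9) (hk : k < 9) (hc : c < 9) :
    (col a k * row b k).testBit (9 * r + c) = (a.testBit (9 * r + k) && b.testBit (9 * k + c)) := by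
  rw [testBit_mul_sparse r _ _ c ?_ ?_ hc]
  · unfold col row
    rw [Nat.testBit_and, Nat.testBit_and, colMask_bit r hr, Nat.testBit_shiftRight,
      Nat.testBit_shiftRight, show (511 : ℕ) = 2 ^ 9 - 1 from rfl, Nat.testBit_two_pow_sub_one,
      decide_eq_true hc, Bool.and_true, Bool.and_true, Nat.add_comm k]
  · intro i hi
    unfold col at hi
    rw [Nat.testBit_and, Bool.and_eq_true] at hi
    exact (testBit_colMask i hi.2).1
  · unfold row
    exact lt_of_le_of_lt Nat.and_le_right (by norm_num)

section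
variable (F : Type*) [Field F] (ω : F)

/-- the element with the given bits -/
def el (x : Bool × Bool) : F := (bif x.1 then 1 else 0) + (bif x.2 then ω else 0)

/-- entry pair -/
def bits (a : M2) (r c : ℕ) : Bool × Bool := (a.p0.testBit (9 * r + c), a.p1.testBit (9 * r + c))

/-- position of an index -/
def fi (z : F9) : ℕ := 3 * z.1.val + z.2.val

/-- the matrix coded by `a` -/
def toM (a : M2) : Matrix F9 F9 F := Matrix.of fun r c => el F ω (bits a (fi r) (fi c))

end

theorem fi_lt (z : F9) : fi z < 9 := by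
  have h1 := z.1.val_lt
  have h2 := z.2.val_lt
  unfold fi
  omega

theorem fi_injective : Function.Injective fi := by
  have : ∀ a b : F9, fi a = fi b → a = b := by decide +kernel
  exact this

/-- index at a position -/
def fz (k : ℕ) : F9 := (((k / 3 : ℕ) : ZMod 3), ((k % 3 : ℕ) : ZMod 3))

theorem fi_fz : ∀ k, k < 9 → fi (fz k) = k := by decide +kernel

variable {F : Type*} [Field F] {ω : F}

theorem sum_F9 (g : ℕ → F) :
    ∑ z : F9, g (fi z) = g 0 + (g 1 + (g 2 + (g 3 + (g 4 + (g 5 + (g 6 + (g 7 + g 8))))))) := by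
  let e : Fin 9 ≃ F9 := Equiv.ofBijective (fun k => fz k.val) (by
    rw [Fintype.bijective_iff_injective_and_card]
    refine ⟨fun a b h => Fin.ext ?_, by simp⟩
    have := congrArg fi h
    rwa [fi_fz _ a.2, fi_fz _ b.2] at this)
  rw [← e.sum_comp, Fin.sum_univ_def]
  simp [List.finRange, e, fi_fz]

variable (h2 : (2 : F) = 0) (hω : ω ^ 2 + ω + 1 = 0)

section
include h2

theorem add_self_F (x : F) : x + x = 0 := by rw [← two_mul, h2, zero_mul]

theorem neg_F (x : F) : -x = x := neg_eq_of_add_eq_zero_left (add_self_F h2 x)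

theorem el_xor (x y : Bool × Bool) :
    el F ω (Bool.xor x.1 y.1, Bool.xor x.2 y.2) = el F ω x + el F ω y := by
  obtain ⟨x1, x2⟩ := x
  obtain ⟨y1, y2⟩ := y
  have h1 := add_self_F h2 (1 : F)
  have h3 := add_self_F h2 ω
  cases x1 <;> cases x2 <;> cases y1 <;> cases y2 <;> simp [el] <;>
    (first
      | linear_combination h2
      | linear_combination -h2
      | linear_combination ω * h2
      | linear_combination -ω * h2
      | linear_combination (1 + ω) * h2
      | linear_combination -(1 + ω) * h2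
      | exact add_comm _ _)

theorem toM_add (a b : M2) : toM F ω (add a b) = toM F ω a + toM F ω b := by
  ext r c
  simp only [toM, Matrix.of_apply, Matrix.add_apply, ← el_xor h2, bits, add, Nat.testBit_xor]

include hω

theorem omega_sq : ω ^ 2 = 1 + ω := by linear_combination hω - h2 * (ω + 1)

theorem el_mul (x y : Bool × Bool) :
    el F ω (Bool.xor (x.1 && y.1) (x.2 && y.2),
      Bool.xor (Bool.xor (x.1 && y.2) (x.2 && y.1)) (x.2 && y.2)) = el F ω x * el F ω y := by
  obtain ⟨x1, x2⟩ := x
  obtain ⟨y1, y2⟩ := y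
  have h := omega_sq h2 hω
  cases x1 <;> cases x2 <;> cases y1 <;> cases y2 <;> simp [el] <;>
    (first
      | linear_combination -h
      | linear_combination -h - h2
      | linear_combination -h - ω * h2
      | linear_combination -h - (1 + ω) * h2
      | linear_combination -h - (2 + ω) * h2)

theorem toM_mul (a b : M2) : toM F ω (mul a b) = toM F ω a * toM F ω b := by
  ext r c
  rw [Matrix.mul_apply]
  simp only [toM, Matrix.of_apply]
  have key : ∀ k, k < 9 → el F ω ((t0 a b k).testBit (9 * fi r + fi c), (t1 a b k).testBit (9 * fi r + fi c))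
      = el F ω (bits a (fi r) k) * el F ω (bits b k (fi c)) := by
    intro k hk
    rw [← el_mul h2 hω]
    simp only [t0, t1, bits, Nat.testBit_xor, testBit_outer _ _ k _ _ (fi_lt r) hk (fi_lt c)]
  have hs : el F ω (bits (mul a b) (fi r) (fi c)) =
      (fun k => el F ω ((t0 a b k).testBit (9 * fi r + fi c), (t1 a b k).testBit (9 * fi r + fi c))) 0 +
      (el F ω ((t0 a b 1).testBit (9 * fi r + fi c), (t1 a b 1).testBit (9 * fi r + fi c)) +
      (el F ω ((t0 a b 2).testBit (9 * fi r + fi c), (t1 a b 2).testBit (9 * fi r + fi c)) +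
      (el F ω ((t0 a b 3).testBit (9 * fi r + fi c), (t1 a b 3).testBit (9 * fi r + fi c)) +
      (el F ω ((t0 a b 4).testBit (9 * fi r + fi c), (t1 a b 4).testBit (9 * fi r + fi c)) +
      (el F ω ((t0 a b 5).testBit (9 * fi r + fi c), (t1 a b 5).testBit (9 * fi r + fi c)) +
      (el F ω ((t0 a b 6).testBit (9 * fi r + fi c), (t1 a b 6).testBit (9 * fi r + fi c)) +
      (el F ω ((t0 a b 7).testBit (9 * fi r + fi c), (t1 a b 7).testBit (9 * fi r + fi c)) +
      el F ω ((t0 a b 8).testBit (9 * fi r + fi c), (t1 a b 8).testBit (9 * fi r + fi c))))))))) := by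
    simp only [← el_xor h2, bits, mul, f9, Nat.testBit_xor]
  rw [hs, sum_F9 (fun k => el F ω (bits a (fi r) k) * el F ω (bits b k (fi c)))]
  beta_reduce
  rw [key 0 (by norm_num), key 1 (by norm_num), key 2 (by norm_num), key 3 (by norm_num),
    key 4 (by norm_num), key 5 (by norm_num), key 6 (by norm_num), key 7 (by norm_num),
    key 8 (by norm_num)]

end

theorem el_zero : el F ω (false, false) = 0 := by simp [el]

theorem el_one : el F ω (true, false) = 1 := by simp [el]

theorem bits_one : ∀ r c : F9, bits one (fi r) (fi c) = (decide (r = c), false) := by decide +kernel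

theorem toM_one : toM F ω one = 1 := by
  ext r c
  rw [toM, Matrix.of_apply, bits_one, Matrix.one_apply]
  by_cases h : r = c <;> simp [h, el]

include h2 hω in
theorem toM_lprod (l : List M2) : toM F ω (lprod l) = (l.map (toM F ω)).prod := by
  induction l with
  | nil => exact toM_one
  | cons a l ih => rw [lprod, toM_mul h2 hω, ih, List.map_cons, List.prod_cons]

include h2 hω in
theorem el_injective : Function.Injective (el F ω) := by
  intro x y h
  have h0 : el F ω (Bool.xor x.1 y.1, Bool.xor x.2 y.2) = 0 := by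
    rw [el_xor h2, h, add_self_F h2]
  have hne : ω ≠ 0 := fun e => by
    subst e
    exact one_ne_zero (α := F) (by linear_combination hω)
  have hne2 : (1 : F) + ω ≠ 0 := fun e => by
    have h3 : ω * (1 + ω) = 0 := by rw [e, mul_zero]
    exact one_ne_zero (α := F) (by linear_combination hω - h3)
  obtain ⟨x1, x2⟩ := x
  obtain ⟨y1, y2⟩ := y
  cases x1 <;> cases x2 <;> cases y1 <;> cases y2 <;> simp [el, hne, hne2] at h0 ⊢

theorem okb_iff {a : M2} : okb a = true ↔ a.p0 < 2 ^ 81 ∧ a.p1 < 2 ^ 81 := by
  simp [okb, Bool.and_eq_true, Nat.blt_eq]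

include h2 hω in
theorem toM_injective {a b : M2} (ha : okb a = true) (hb : okb b = true)
    (h : toM F ω a = toM F ω b) : a = b := by
  rw [okb_iff] at ha hb
  have key : ∀ i, a.p0.testBit i = b.p0.testBit i ∧ a.p1.testBit i = b.p1.testBit i := by
    intro i
    by_cases hi : i < 81
    · have h1 := congrFun (congrFun h (fz (i / 9))) (fz (i % 9))
      simp only [toM, Matrix.of_apply, fi_fz _ (by omega : i / 9 < 9), fi_fz _ (by omega : i % 9 < 9)] at h1
      have h3 := el_injective h2 hω h1
      simp only [bits, Prod.mk.injEq, Nat.div_add_mod] at h3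
      exact h3
    · have hp : 2 ^ 81 ≤ 2 ^ i := Nat.pow_le_pow_right (by norm_num) (by omega)
      constructor <;> rw [Nat.testBit_lt_two_pow (by omega), Nat.testBit_lt_two_pow (by omega)]
  obtain ⟨a0, a1⟩ := a
  obtain ⟨b0, b1⟩ := b
  simp only at key
  rw [Nat.eq_of_testBit_eq fun i => (key i).1, Nat.eq_of_testBit_eq fun i => (key i).2]

theorem key_injective {a b : M2} (ha : okb a = true) (hb : okb b = true) (h : key a = key b) :
    a = b := by
  rw [okb_iff] at ha hb
  obtain ⟨a0, a1⟩ := a
  obtain ⟨b0, b1⟩ := b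
  simp only [key, M2.mk.injEq] at *
  omega

end CfsgLib.J3
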