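import Cfsg.Agent.Lib.Sporadic.J3.Defs

/-! Evaluation of the checks in the kernel. -/

set_option autoImplicit false
set_option maxRecDepth 100000

namespace CfsgLib.J3

theorem runT0 : allFrom 0 1539 chkT = true := by decide +kernel
theorem runT1 : allFrom 1539 1539 chkT = true := by decide +kernel
theorem runT2 : allFrom 3078 1539 chkT = true := by decide +kernel
theorem runT3 : allFrom 4617 1539 chkT = true := by decide +kernel
theorem okT {i : ℕ} (h : i < 6156) : chkT i = true := by
  rcases Nat.lt_or_ge i 1539 with h0 | h0
  · exact allFrom_spec runT0 i (by omega) (by omega)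
  rcases Nat.lt_or_ge i 3078 with h1 | h1
  · exact allFrom_spec runT1 i (by omega) (by omega)
  rcases Nat.lt_or_ge i 4617 with h2 | h2
  · exact allFrom_spec runT2 i (by omega) (by omega)
  exact allFrom_spec runT3 i (by omega) (by omega)

theorem runEX0 : allFrom 0 1539 (chkE gX tEX) = true := by decide +kernel
theorem runEX1 : allFrom 1539 1539 (chkE gX tEX) = true := by decide +kernel
theorem runEX2 : allFrom 3078 1539 (chkE gX tEX) = true := by decide +kernel
theorem runEX3 : allFrom 4617 1539 (chkE gX tEX) = true := by decide +kernel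
theorem okEX {i : ℕ} (h : i < 6156) : (chkE gX tEX) i = true := by
  rcases Nat.lt_or_ge i 1539 with h0 | h0
  · exact allFrom_spec runEX0 i (by omega) (by omega)
  rcases Nat.lt_or_ge i 3078 with h1 | h1
  · exact allFrom_spec runEX1 i (by omega) (by omega)
  rcases Nat.lt_or_ge i 4617 with h2 | h2
  · exact allFrom_spec runEX2 i (by omega) (by omega)
  exact allFrom_spec runEX3 i (by omega) (by omega)

theorem runEY0 : allFrom 0 1539 (chkE gY tEY) = true := by decide +kernel
theorem runEY1 : allFrom 1539 1539 (chkE gY tEY) = true := by decide +kernel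
theorem runEY2 : allFrom 3078 1539 (chkE gY tEY) = true := by decide +kernel
theorem runEY3 : allFrom 4617 1539 (chkE gY tEY) = true := by decide +kernel
theorem okEY {i : ℕ} (h : i < 6156) : (chkE gY tEY) i = true := by
  rcases Nat.lt_or_ge i 1539 with h0 | h0
  · exact allFrom_spec runEY0 i (by omega) (by omega)
  rcases Nat.lt_or_ge i 3078 with h1 | h1
  · exact allFrom_spec runEY1 i (by omega) (by omega)
  rcases Nat.lt_or_ge i 4617 with h2 | h2
  · exact allFrom_spec runEY2 i (by omega) (by omega)
  exact allFrom_spec runEY3 i (by omega) (by omega)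

theorem runRS0 : allFrom 0 1539 (chkSort 6156 R tRsort) = true := by decide +kernel
theorem runRS1 : allFrom 1539 1539 (chkSort 6156 R tRsort) = true := by decide +kernel
theorem runRS2 : allFrom 3078 1539 (chkSort 6156 R tRsort) = true := by decide +kernel
theorem runRS3 : allFrom 4617 1539 (chkSort 6156 R tRsort) = true := by decide +kernel
theorem okRS {i : ℕ} (h : i < 6156) : (chkSort 6156 R tRsort) i = true := by
  rcases Nat.lt_or_ge i 1539 with h0 | h0
  · exact allFrom_spec runRS0 i (by omega) (by omega)
  rcases Nat.lt_or_ge i 3078 with h1 | h1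
  · exact allFrom_spec runRS1 i (by omega) (by omega)
  rcases Nat.lt_or_ge i 4617 with h2 | h2
  · exact allFrom_spec runRS2 i (by omega) (by omega)
  exact allFrom_spec runRS3 i (by omega) (by omega)

theorem runU : allFrom 0 272 chkU = true := by decide +kernel
theorem okU {i : ℕ} (h : i < 272) : chkU i = true :=
  allFrom_spec runU i (Nat.zero_le i) (by omega)

theorem runDS : allFrom 0 272 (chkSort 272 DU tDsort) = true := by decide +kernel
theorem okDS {i : ℕ} (h : i < 272) : (chkSort 272 DU tDsort) i = true :=
  allFrom_spec runDS i (Nat.zero_le i) (by omega)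

theorem runV : allFrom 0 90 chkV = true := by decide +kernel
theorem okV {i : ℕ} (h : i < 90) : chkV i = true :=
  allFrom_spec runV i (Nat.zero_le i) (by omega)

theorem runVS : allFrom 0 90 (chkSort 90 V tVsort) = true := by decide +kernel
theorem okVS {i : ℕ} (h : i < 90) : (chkSort 90 V tVsort) i = true :=
  allFrom_spec runVS i (Nat.zero_le i) (by omega)

theorem runGen : allFrom 0 43 chkGen = true := by decide +kernel
theorem okGen {i : ℕ} (h : i < 43) : chkGen i = true :=
  allFrom_spec runGen i (Nat.zero_le i) (by omega)

theorem chkMisc_true : chkMisc = true := by decide +kernel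

end CfsgLib.J3
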