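import Cfsg.Agent.Lib.Sporadic.J3.Main
import Cfsg.Prelude.Def_Sporadic

/-! The action of J3 on 6156 cosets. -/

set_option autoImplicit false

namespace CfsgLib.J3

open Cfsg.Spor Matrix

variable {F : Type} [Field F] [Fintype F] {ω : F} (hF : Fintype.card F = 4) (hω : ω ^ 2 + ω + 1 = 0)

include hF hω

theorem scalar_mem_KS {c : F} (hc : c ≠ 0) : (c • 1 : Matrix F9 F9 F) ∈ KS F ω := by
  have h2 := two_eq_zero hF
  have hT : toM F ω (T 0) = 1 := by rw [beq_eq misc.1, toM_one]
  have hom : (ω • 1 : Matrix F9 F9 F) ∈ KS F ω := by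
    obtain ⟨-, -, -, -, -, -, -, -, -, -, -, -, -, -, -, -, -, ho, he, -⟩ := misc
    have hd : omDec.1 = 0 := rfl
    rw [← toM_omCode, beq_eq he]
    simp only [triple, omDec, toM_mul h2 hω, hT, one_mul]
    exact InK_mem h2 hω ⟨_, by norm_num, _, by norm_num, rfl⟩
  have hne : ω ≠ 0 := fun e => by simp [e] at hω
  have hne1 : ω ≠ 1 := fun e => by
    subst e; exact one_ne_zero (α := F) (by linear_combination hω - h2)
  have hsq : ω ^ 2 ≠ 1 := fun e => hne (by linear_combination hω - e - h2)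
  have hsq' : ω ^ 2 ≠ ω := fun e => hne1 (mul_left_cancel₀ hne (by rw [← pow_two, e, mul_one]))
  classical
  have hsub : ({0, 1, ω, ω ^ 2} : Finset F) = Finset.univ := by
    refine Finset.eq_univ_of_card _ ?_
    rw [hF, Finset.card_insert_of_notMem, Finset.card_insert_of_notMem, Finset.card_pair]
    · exact Ne.symm hsq'
    · simp [Ne.symm hne1, Ne.symm hsq]
    · simp [Ne.symm hne, Ne.symm (pow_ne_zero 2 hne)]
  have h := Finset.mem_univ c
  rw [← hsub] at h
  simp only [Finset.mem_insert, Finset.mem_singleton] at h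
  rcases h with h | h | h | h
  · exact absurd h hc
  · rw [h, one_smul]; exact Submonoid.one_mem _
  · rw [h]; exact hom
  · rw [h]
    have := Submonoid.mul_mem _ hom hom
    rwa [smul_mul_smul_comm, ← pow_two, one_mul] at this

theorem exists_subgroup : ∃ S : Subgroup (J3 F ω), S.index = 6156 := by
  have h2 := two_eq_zero hF
  let Kh : Subgroup (threeJ3 F ω) :=
    { carrier := {g | ((g : GL F9 F) : Matrix F9 F9 F) ∈ KS F ω}
      one_mem' := by simp [Submonoid.one_mem]
      mul_mem' := fun {a b} ha hb => by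
        show ((a * b : threeJ3 F ω) : GL F9 F).val ∈ KS F ω
        rw [Subgroup.coe_mul, Units.val_mul]
        exact Submonoid.mul_mem _ ha hb
      inv_mem' := fun {a} ha => by
        have he : a⁻¹ = a ^ (orderOf a - 1) := inv_eq_of_mul_eq_one_right
          (by rw [← pow_succ', Nat.sub_add_cancel (orderOf_pos a)]; exact pow_orderOf_eq_one a)
        show ((a⁻¹ : threeJ3 F ω) : GL F9 F).val ∈ KS F ω
        rw [he, Subgroup.coe_pow, Units.val_pow_eq_pow_val]
        exact Submonoid.pow_mem _ ha _ }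
  have hmem : ∀ x : Fin 272 × Fin 90, ∃ g : threeJ3 F ω,
      ((g : GL F9 F) : Matrix F9 F9 F) = toM F ω (U x.1) * toM F ω (V x.2) := fun x =>
    exists_coe hF hω (KS_le_GS h2 hω (InK_mem h2 hω ⟨_, x.1.2, _, x.2.2, rfl⟩))
  choose f hf using hmem
  let f' : Fin 272 × Fin 90 → Kh := fun x => ⟨f x, by
    show ((f x : threeJ3 F ω) : GL F9 F).val ∈ KS F ω
    rw [hf]; exact InK_mem h2 hω ⟨_, x.1.2, _, x.2.2, rfl⟩⟩
  have hbij : Function.Bijective f' := by
    constructor
    · intro x y hxy
      have h := congrArg (fun g : Kh => ((g.1 : GL F9 F) : Matrix F9 F9 F)) hxy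
      simp only [f', hf] at h
      obtain ⟨-, e1, e2⟩ := cov_injective h2 hω (i := 0) (j := 0) (by norm_num) (by norm_num)
        x.1.2 y.1.2 x.2.2 y.2.2 (by rw [mul_assoc, h, ← mul_assoc])
      exact Prod.ext (Fin.ext e1) (Fin.ext e2)
    · intro g
      have hk : InK F ω ((g.1 : GL F9 F) : Matrix F9 F9 F) := by
        have h := KS_closed h2 hω g.2 1 ⟨0, by norm_num, 0, by norm_num, by
          rw [beq_eq misc.2.1, beq_eq misc.2.2.1, toM_one, one_mul]⟩
        rwa [mul_one] at h
      obtain ⟨a, ha, b, hb, he⟩ := hk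
      exact ⟨(⟨a, ha⟩, ⟨b, hb⟩), Subtype.ext (Subtype.ext (Units.ext ((hf _).trans he.symm)))⟩
  have hcard : Nat.card Kh = 24480 := by
    rw [← Nat.card_eq_of_bijective f' hbij]; simp
  set π := QuotientGroup.mk' (Subgroup.center (threeJ3 F ω))
  have hker : Subgroup.center (threeJ3 F ω) ≤ Kh := by
    -- a subgroup of order prime to the index contains the centre
    have hidx : Kh.index = 6156 := by
      have h := Kh.card_mul_index
      rw [hcard, card_threeJ3 h2 hω] at h
      omega
    intro z hz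
    obtain ⟨c, hc⟩ := (mem_center_iff_scalar hF hω z).1 hz
    show ((z : GL F9 F) : Matrix F9 F9 F) ∈ KS F ω
    have hc0 : c ≠ 0 := fun h0 => by
      have h1 := (z : GL F9 F).mul_inv
      rw [hc, h0, zero_smul, zero_mul] at h1
      exact zero_ne_one h1
    rw [hc]
    exact scalar_mem_KS hF hω hc0
  refine ⟨Kh.map π, ?_⟩
  have h := Subgroup.index_map Kh π
  rw [QuotientGroup.ker_mk', sup_eq_left.2 hker, MonoidHom.range_eq_top.2 (QuotientGroup.mk'_surjective _),
    Subgroup.index_top, mul_one] at h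
  rw [h]
  have h' := Kh.card_mul_index
  rw [hcard, card_threeJ3 h2 hω] at h'
  omega

theorem exists_perm_realization : ∃ H : Subgroup (Equiv.Perm (Fin 6156)), Cfsg.IsJ3 H ∧
    MulAction.IsPretransitive H (Fin 6156) ∧ Nat.card (MulAction.stabilizer H (0 : Fin 6156)) = 8160 := by
  haveI := isSimple_J3 hF hω
  obtain ⟨S, hS⟩ := exists_subgroup hF hω
  have hQ : Nat.card (J3 F ω ⧸ S) = 6156 := by rw [← Subgroup.index_eq_card, hS]
  let e0 : (J3 F ω ⧸ S) ≃ Fin 6156 := Finite.equivFinOfCardEq hQ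
  let φ : J3 F ω →* Equiv.Perm (Fin 6156) :=
    e0.permCongrHom.toMonoidHom.comp (MulAction.toPermHom (J3 F ω) (J3 F ω ⧸ S))
  have happ : ∀ g x, φ g x = e0 (g • e0.symm x) := fun g x => rfl
  have hne : φ.ker ≠ ⊤ := by
    intro h
    have h0 : ∀ g : J3 F ω, g ∈ S := by
      intro g
      have h1 := Equiv.congr_fun (show φ g = 1 from (h ▸ Subgroup.mem_top g : g ∈ φ.ker)) (e0 ((1 : J3 F ω) : J3 F ω ⧸ S))
      rw [happ, Equiv.symm_apply_apply, Equiv.Perm.one_apply] at h1
      have h2 := e0.injective h1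
      rw [MulAction.Quotient.smul_coe, smul_eq_mul, mul_one, QuotientGroup.eq] at h2
      simpa using h2
    have : S = ⊤ := eq_top_iff.2 fun g _ => h0 g
    rw [this, Subgroup.index_top] at hS
    omega
  have hinj : Function.Injective φ := by
    rw [← MonoidHom.ker_eq_bot_iff]
    exact (φ.normal_ker.eq_bot_or_eq_top).resolve_right hne
  have htrans : MulAction.IsPretransitive φ.range (Fin 6156) := by
    refine ⟨fun x y => ?_⟩
    obtain ⟨g, hg⟩ := MulAction.exists_smul_eq (J3 F ω) (e0.symm x) (e0.symm y)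
    refine ⟨⟨φ g, g, rfl⟩, ?_⟩
    show φ g x = y
    rw [happ, hg, Equiv.apply_symm_apply]
  refine ⟨φ.range, ⟨MulEquiv.isSimpleGroup (MonoidHom.ofInjective hinj).symm, ?_⟩, htrans, ?_⟩
  · rw [← Nat.card_congr (MonoidHom.ofInjective hinj).toEquiv, card_J3 hF hω]
  · have h := MulAction.index_stabilizer_of_transitive φ.range (0 : Fin 6156)
    have h' := (MulAction.stabilizer φ.range (0 : Fin 6156)).card_mul_index
    rw [h, Nat.card_fin, ← Nat.card_congr (MonoidHom.ofInjective hinj).toEquiv, card_J3 hF hω] at h'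
    omega

end CfsgLib.J3
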