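import Cfsg.Agent.Lib.Sporadic.J3.Code

/-! A column echelon form with four columns is determined by the column space. -/

set_option autoImplicit false

namespace CfsgLib.J3

open Cfsg.Spor

/-- bits `c ≥ 4` of every row -/
def hiMask : ℕ := 2346877520660884816650736

/-- entry test: the pair of bits at `(r, c)` is `(v, false)` -/
def bitIs (R : M2) (r c : ℕ) (v : Bool) : Bool :=
  (R.p0.testBit (9 * r + c) == v) && (R.p1.testBit (9 * r + c) == false)

/-- rows above `r` vanish in column `c` -/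
def aboveZero (R : M2) (r c : ℕ) : Bool :=
  Nat.beq ((col R.p0 c) &&& (2 ^ (9 * r) - 1)) 0 && Nat.beq ((col R.p1 c) &&& (2 ^ (9 * r) - 1)) 0

/-- pivot rows as a function -/
def pivs (p : ℕ × ℕ × ℕ × ℕ) : Fin 4 → ℕ := ![p.1, p.2.1, p.2.2.1, p.2.2.2]

/-- echelon test -/
def echB (R : M2) (p : ℕ × ℕ × ℕ × ℕ) : Bool :=
  match p with
  | (a, b, c, d) =>
    Nat.blt a b && Nat.blt b c && Nat.blt c d && Nat.blt d 9 &&
    Nat.beq (R.p0 &&& hiMask) 0 && Nat.beq (R.p1 &&& hiMask) 0 &&
    aboveZero R a 0 && aboveZero R b 1 && aboveZero R c 2 && aboveZero R d 3 &&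
    bitIs R a 0 true && bitIs R a 1 false && bitIs R a 2 false && bitIs R a 3 false &&
    bitIs R b 0 false && bitIs R b 1 true && bitIs R b 2 false && bitIs R b 3 false &&
    bitIs R c 0 false && bitIs R c 1 false && bitIs R c 2 true && bitIs R c 3 false &&
    bitIs R d 0 false && bitIs R d 1 false && bitIs R d 2 false && bitIs R d 3 true

theorem hiMask_bit : ∀ r, r < 9 → ∀ c, c < 9 → 4 ≤ c → hiMask.testBit (9 * r + c) = true := by
  decide +kernel

variable {F : Type*} [Field F] {ω : F}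

theorem entry_of_bitIs {R : M2} {r c : ℕ} {v : Bool} (hr : r < 9) (hc : c < 9)
    (h : bitIs R r c v = true) : toM F ω R (fz r) (fz c) = bif v then 1 else 0 := by
  simp only [bitIs, Bool.and_eq_true, beq_iff_eq] at h
  simp only [toM, Matrix.of_apply, bits, fi_fz _ hr, fi_fz _ hc, h.1, h.2]
  cases v <;> simp [el]

theorem entry_of_aboveZero {R : M2} {r r' c : ℕ} (hr : r ≤ 9) (hr' : r' < r) (hc : c < 9)
    (h : aboveZero R r c = true) : toM F ω R (fz r') (fz c) = 0 := by
  simp only [aboveZero, Bool.and_eq_true, Nat.beq_eq] at h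
  have key : ∀ x : ℕ, col x c &&& (2 ^ (9 * r) - 1) = 0 → x.testBit (9 * r' + c) = false := by
    intro x hx
    have h1 := congrArg (fun n => n.testBit (9 * r')) hx
    simp only [col, Nat.testBit_and, Nat.testBit_two_pow_sub_one, Nat.zero_testBit,
      colMask_bit r' (by omega), Nat.testBit_shiftRight, decide_eq_true (by omega : 9 * r' < 9 * r),
      Bool.and_true] at h1
    rwa [Nat.add_comm] at h1
  simp only [toM, Matrix.of_apply, bits, fi_fz _ (by omega : r' < 9), fi_fz _ hc, key _ h.1, key _ h.2,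
    el_zero]

theorem entry_of_hi {R : M2} (r : F9) {c : ℕ} (hc : c < 9) (hc4 : 4 ≤ c)
    (h0 : R.p0 &&& hiMask = 0) (h1 : R.p1 &&& hiMask = 0) : toM F ω R r (fz c) = 0 := by
  have key : ∀ x : ℕ, x &&& hiMask = 0 → x.testBit (9 * fi r + c) = false := by
    intro x hx
    have h2 := congrArg (fun n => n.testBit (9 * fi r + c)) hx
    simpa [hiMask_bit _ (fi_lt r) c hc hc4] using h2
  simp only [toM, Matrix.of_apply, bits, fi_fz _ hc, key _ h0, key _ h1, el_zero]

/-- the facts expressed by `echB` -/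
structure IsEch (A : Matrix F9 F9 F) (p : Fin 4 → ℕ) : Prop where
  mono : StrictMono p
  lt : ∀ s, p s < 9
  pivot : ∀ s t : Fin 4, A (fz (p s)) (fz t.val) = if s = t then 1 else 0
  above : ∀ (t : Fin 4) (r : ℕ), r < p t → A (fz r) (fz t.val) = 0
  hi : ∀ (r : F9) (c : ℕ), c < 9 → 4 ≤ c → A r (fz c) = 0

theorem isEch_of_echB {R : M2} {p : ℕ × ℕ × ℕ × ℕ} (h : echB R p = true) :
    IsEch (toM F ω R) (pivs p) := by
  obtain ⟨a, b, c, d⟩ := p
  simp only [echB, Bool.and_eq_true, Nat.blt_eq, Nat.beq_eq] at h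
  obtain ⟨⟨⟨⟨⟨⟨⟨⟨⟨⟨⟨⟨⟨⟨⟨⟨⟨⟨⟨⟨⟨⟨⟨⟨⟨hab, hbc⟩, hcd⟩, hd⟩, h0⟩, h1⟩, za⟩, zb⟩, zc⟩, zd⟩,
    a0⟩, a1⟩, a2⟩, a3⟩, b0⟩, b1⟩, b2⟩, b3⟩, c0⟩, c1⟩, c2⟩, c3⟩, d0⟩, d1⟩, d2⟩, d3⟩ := h
  refine ⟨?_, ?_, ?_, ?_, fun r k hk hk4 => entry_of_hi r hk hk4 h0 h1⟩
  · refine Fin.strictMono_iff_lt_succ.2 fun i => ?_
    fin_cases i <;> simp [pivs] <;> omega
  · intro s
    fin_cases s <;> simp [pivs] <;> omega
  · intro s t
    fin_cases s <;> fin_cases t
    · exact (entry_of_bitIs (by omega) (by norm_num) a0).trans rfl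
    · exact (entry_of_bitIs (by omega) (by norm_num) a1).trans rfl
    · exact (entry_of_bitIs (by omega) (by norm_num) a2).trans rfl
    · exact (entry_of_bitIs (by omega) (by norm_num) a3).trans rfl
    · exact (entry_of_bitIs (by omega) (by norm_num) b0).trans rfl
    · exact (entry_of_bitIs (by omega) (by norm_num) b1).trans rfl
    · exact (entry_of_bitIs (by omega) (by norm_num) b2).trans rfl
    · exact (entry_of_bitIs (by omega) (by norm_num) b3).trans rfl
    · exact (entry_of_bitIs (by omega) (by norm_num) c0).trans rfl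
    · exact (entry_of_bitIs (by omega) (by norm_num) c1).trans rfl
    · exact (entry_of_bitIs (by omega) (by norm_num) c2).trans rfl
    · exact (entry_of_bitIs (by omega) (by norm_num) c3).trans rfl
    · exact (entry_of_bitIs (by omega) (by norm_num) d0).trans rfl
    · exact (entry_of_bitIs (by omega) (by norm_num) d1).trans rfl
    · exact (entry_of_bitIs (by omega) (by norm_num) d2).trans rfl
    · exact (entry_of_bitIs (by omega) (by norm_num) d3).trans rfl
  · intro t r hr
    fin_cases t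
    · exact entry_of_aboveZero (r := a) (by omega) hr (by norm_num) za
    · exact entry_of_aboveZero (r := b) (by omega) hr (by norm_num) zb
    · exact entry_of_aboveZero (r := c) (by omega) hr (by norm_num) zc
    · exact entry_of_aboveZero (r := d) (by omega) hr (by norm_num) zd

theorem pivot_mem {A B X : Matrix F9 F9 F} {p q : Fin 4 → ℕ} (hA : IsEch A p) (hB : IsEch B q)
    (h : B = A * X) (s : Fin 4) : ∃ t, q s = p t := by
  have hexp : ∀ r : F9, B r (fz s.val) = ∑ t : Fin 4, A r (fz t.val) * X (fz t.val) (fz s.val) := by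
    intro r
    rw [h, Matrix.mul_apply]
    refine (Finset.sum_bij_ne_zero (fun t _ _ => fz t.val) (fun _ _ _ => Finset.mem_univ _) ?_ ?_
      (fun _ _ _ => rfl)).symm
    · intro t _ _ t' _ _ he
      have := congrArg fi he
      rw [fi_fz _ (by omega), fi_fz _ (by omega)] at this
      exact Fin.ext this
    · intro k _ hk
      have hk4 : fi k < 4 := by
        by_contra hge
        apply hk
        have he : fz (fi k) = k := fi_injective (fi_fz _ (fi_lt k))
        have := hA.hi r (fi k) (fi_lt k) (by omega)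
        rw [he] at this
        rw [this, zero_mul]
      have he : fz (fi k) = k := fi_injective (fi_fz _ (fi_lt k))
      exact ⟨⟨fi k, hk4⟩, Finset.mem_univ _, by rw [he]; exact hk, he⟩
  set x : Fin 4 → F := fun t => X (fz t.val) (fz s.val)
  have hval : ∀ t0, B (fz (p t0)) (fz s.val) = x t0 := by
    intro t0
    rw [hexp, Finset.sum_eq_single t0]
    · rw [hA.pivot, if_pos rfl, one_mul]
    · intro t _ ht; rw [hA.pivot, if_neg (Ne.symm ht), zero_mul]
    · simp
  have hone : B (fz (q s)) (fz s.val) = 1 := by rw [hB.pivot, if_pos rfl]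
  obtain ⟨t1, ht1, hle1⟩ : ∃ t, x t ≠ 0 ∧ p t ≤ q s := by
    by_contra hcon
    push Not at hcon
    refine one_ne_zero (α := F) (hone.symm.trans ?_)
    rw [hexp]
    refine Finset.sum_eq_zero fun t _ => ?_
    show A (fz (q s)) (fz t.val) * x t = 0
    by_cases hx : x t = 0
    · rw [hx, mul_zero]
    · rw [hA.above t (q s) (hcon t hx), zero_mul]
  refine ⟨t1, le_antisymm ?_ hle1⟩
  by_contra hlt
  exact ht1 ((hval t1).symm.trans (hB.above s _ (not_le.1 hlt)))

theorem eq_of_isEch {A B X Y : Matrix F9 F9 F} {p q : Fin 4 → ℕ} (hA : IsEch A p) (hB : IsEch B q)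
    (h : B = A * X) (h' : A = B * Y) : A = B := by
  have hpq : p = q := (hA.mono.range_inj hB.mono).1 (Set.Subset.antisymm
    (by rintro _ ⟨s, rfl⟩; obtain ⟨t, ht⟩ := pivot_mem hB hA h' s; exact ⟨t, ht.symm⟩)
    (by rintro _ ⟨s, rfl⟩; obtain ⟨t, ht⟩ := pivot_mem hA hB h s; exact ⟨t, ht.symm⟩))
  subst hpq
  ext r c
  have hc : fz (fi c) = c := fi_injective (fi_fz _ (fi_lt c))
  rw [← hc]
  rcases Nat.lt_or_ge (fi c) 4 with h4 | h4
  · have key : ∀ r' : F9, B r' (fz (fi c)) = ∑ t : Fin 4, A r' (fz t.val) * X (fz t.val) (fz (fi c)) := by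
      intro r'
      rw [h, Matrix.mul_apply]
      refine (Finset.sum_bij_ne_zero (fun t _ _ => fz t.val) (fun _ _ _ => Finset.mem_univ _) ?_ ?_
        (fun _ _ _ => rfl)).symm
      · intro t _ _ t' _ _ he
        have := congrArg fi he
        rw [fi_fz _ (by omega), fi_fz _ (by omega)] at this
        exact Fin.ext this
      · intro k _ hk
        have he : fz (fi k) = k := fi_injective (fi_fz _ (fi_lt k))
        have hk4 : fi k < 4 := by
          by_contra hge
          apply hk
          have := hA.hi r' (fi k) (fi_lt k) (by omega)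
          rw [he] at this
          rw [this, zero_mul]
        exact ⟨⟨fi k, hk4⟩, Finset.mem_univ _, by rw [he]; exact hk, he⟩
    have hX : ∀ t : Fin 4, X (fz t.val) (fz (fi c)) = if t = ⟨fi c, h4⟩ then 1 else 0 := by
      intro t
      have := key (fz (p t))
      rw [Finset.sum_eq_single t (fun u _ hu => by rw [hA.pivot, if_neg (Ne.symm hu), zero_mul]) (by simp),
        hA.pivot, if_pos rfl, one_mul] at this
      rw [← this]
      exact hB.pivot t ⟨fi c, h4⟩
    rw [key r, Finset.sum_eq_single ⟨fi c, h4⟩ (fun u _ hu => by rw [hX, if_neg hu, mul_zero]) (by simp),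
      hX, if_pos rfl, mul_one]
  · rw [hA.hi r _ (fi_lt c) h4, hB.hi r _ (fi_lt c) h4]

end CfsgLib.J3
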