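import Cfsg.Agent.Lib.Sporadic.J3.DataO
import Cfsg.Agent.Lib.Sporadic.J3.Defs

/-! The orbit checks. -/

set_option autoImplicit false
set_option maxRecDepth 100000

namespace CfsgLib.J3

/-- lookup, by the recursor -/
noncomputable def getR (t : BT ℕ) (i : ℕ) : ℕ :=
  BT.rec (motive := fun _ => ℕ) (fun a => a) (fun k _ _ l r => bif Nat.blt i k then l else r) t

/-- evaluate to a literal before continuing -/
noncomputable def force {α : Type} (x : ℕ) (f : ℕ → α) : α := Nat.rec (f 0) (fun k _ => f (Nat.add k 1)) x

/-- class, letter and depth of a vector code -/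
noncomputable def info (n : ℕ) : ℕ := (getR ti (n >>> 12) >>> (8 * (n &&& 4095))) &&& 255

/-- entry of a packed table of images -/
def entry (t a : ℕ) : ℕ := (t >>> (32 * a)) &&& 262143

/-- image under the first generator -/
noncomputable def imgX (n : ℕ) : ℕ := Nat.xor (entry gXlo (n &&& 511)) (entry gXhi (n >>> 9))

/-- image under the second generator -/
noncomputable def imgY (n : ℕ) : ℕ := Nat.xor (entry gYlo (n &&& 511)) (entry gYhi (n >>> 9))

/-- parities -/
def parTab : ℕ := 7877703466965951741784356862959128443265788382021580589009765834561689170293574700951863729220303088751879007905492507289381878411509378061636115163081110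

/-- isotropy test -/
noncomputable def isoB (n : ℕ) : Bool :=
  !(Nat.beq n 0) && Nat.beq ((parTab >>> ((n &&& 511) ||| (n >>> 9))) &&& 1) 0

/-- check of a vector code -/
noncomputable def chkO (n : ℕ) : Bool :=
  force n fun n => force (info n) fun v => force (v &&& 3) fun c =>
    (!(isoB n) || Nat.beq c 0) &&
      (!(Nat.blt c 2) || Nat.beq n (bif Nat.beq c 0 then 3 else 1) ||
        force (info (bif Nat.beq ((v >>> 2) &&& 1) 0 then imgX n else imgY n))
          (fun w => Nat.beq (w &&& 3) c && Nat.blt (w >>> 3) (v >>> 3))) &&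
      (!(Nat.beq c 1) || (Nat.beq (info (imgX n) &&& 3) 1 && Nat.beq (info (imgY n) &&& 3) 1))

/-- sum over a range -/
noncomputable def sumFrom (lo len : ℕ) (f : ℕ → ℕ) : ℕ := Nat.rec 0 (fun j ih => Nat.add (f (Nat.add lo j)) ih) len

/-- indicator of the second class -/
noncomputable def ind1 (n : ℕ) : ℕ := bif Nat.beq (info n &&& 3) 1 then 1 else 0

/-- all checks on a block -/
noncomputable def chkBlock (j : ℕ) : Bool := allFrom (Nat.mul 8192 j) 8192 chkO

/-- count on a block -/
noncomputable def cntBlock (j : ℕ) : ℕ := sumFrom (Nat.mul 8192 j) 8192 ind1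

/-- coded matrix with a vector in the first column -/
def spread (x : ℕ) : ℕ :=
  f9 fun r => ((x >>> r) &&& 1) <<< (9 * r)

/-- the column matrix -/
def emb (n : ℕ) : M2 := ⟨spread (n &&& 511), spread (n >>> 9)⟩

/-- check of a table of images -/
def chkImg (g : M2) (lo hi : ℕ) (a : ℕ) : Bool :=
  beq (mul g (emb a)) (emb (entry lo a)) && beq (mul g (emb (a <<< 9))) (emb (entry hi a))

theorem imgX_ok : allFrom 0 512 (chkImg gX gXlo gXhi) = true := by decide +kernel
theorem imgY_ok : allFrom 0 512 (chkImg gY gYlo gYhi) = true := by decide +kernel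

end CfsgLib.J3
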