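import Cfsg.Agent.Lib.Sporadic.J3.OrbitCheck

/-! Kernel evaluation of the orbit checks, blocks 8 to 15. -/

set_option autoImplicit false
set_option maxRecDepth 100000

namespace CfsgLib.J3

theorem runO8 : chkBlock 8 = true := by decide +kernel

theorem runC8 : Nat.beq (cntBlock 8) 2208 = true := by decide +kernel

theorem runO9 : chkBlock 9 = true := by decide +kernel

theorem runC9 : Nat.beq (cntBlock 9) 2176 = true := by decide +kernel

theorem runO10 : chkBlock 10 = true := by decide +kernel

theorem runC10 : Nat.beq (cntBlock 10) 2176 = true := by decide +kernel

theorem runO11 : chkBlock 11 = true := by decide +kernel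

theorem runC11 : Nat.beq (cntBlock 11) 2208 = true := by decide +kernel

theorem runO12 : chkBlock 12 = true := by decide +kernel

theorem runC12 : Nat.beq (cntBlock 12) 2144 = true := by decide +kernel

theorem runO13 : chkBlock 13 = true := by decide +kernel

theorem runC13 : Nat.beq (cntBlock 13) 2176 = true := by decide +kernel

theorem runO14 : chkBlock 14 = true := by decide +kernel

theorem runC14 : Nat.beq (cntBlock 14) 2176 = true := by decide +kernel

theorem runO15 : chkBlock 15 = true := by decide +kernel

theorem runC15 : Nat.beq (cntBlock 15) 2144 = true := by decide +kernel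

end CfsgLib.J3
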