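import Cfsg.Agent.Lib.Sporadic.J3.OrbitCheck

/-! Kernel evaluation of the orbit checks, blocks 16 to 23. -/

set_option autoImplicit false
set_option maxRecDepth 100000

namespace CfsgLib.J3

theorem runO16 : chkBlock 16 = true := by decide +kernel

theorem runC16 : Nat.beq (cntBlock 16) 2208 = true := by decide +kernel

theorem runO17 : chkBlock 17 = true := by decide +kernel

theorem runC17 : Nat.beq (cntBlock 17) 2176 = true := by decide +kernel

theorem runO18 : chkBlock 18 = true := by decide +kernel

theorem runC18 : Nat.beq (cntBlock 18) 2176 = true := by decide +kernel

theorem runO19 : chkBlock 19 = true := by decide +kernel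

theorem runC19 : Nat.beq (cntBlock 19) 2208 = true := by decide +kernel

theorem runO20 : chkBlock 20 = true := by decide +kernel

theorem runC20 : Nat.beq (cntBlock 20) 2144 = true := by decide +kernel

theorem runO21 : chkBlock 21 = true := by decide +kernel

theorem runC21 : Nat.beq (cntBlock 21) 2176 = true := by decide +kernel

theorem runO22 : chkBlock 22 = true := by decide +kernel

theorem runC22 : Nat.beq (cntBlock 22) 2176 = true := by decide +kernel

theorem runO23 : chkBlock 23 = true := by decide +kernel

theorem runC23 : Nat.beq (cntBlock 23) 2144 = true := by decide +kernel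

end CfsgLib.J3
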