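import Cfsg.Agent.Lib.Sporadic.J3.OrbitCheck

/-! Kernel evaluation of the orbit checks, blocks 24 to 31. -/

set_option autoImplicit false
set_option maxRecDepth 100000

namespace CfsgLib.J3

theorem runO24 : chkBlock 24 = true := by decide +kernel

theorem runC24 : Nat.beq (cntBlock 24) 2144 = true := by decide +kernel

theorem runO25 : chkBlock 25 = true := by decide +kernel

theorem runC25 : Nat.beq (cntBlock 25) 2176 = true := by decide +kernel

theorem runO26 : chkBlock 26 = true := by decide +kernel

theorem runC26 : Nat.beq (cntBlock 26) 2176 = true := by decide +kernel

theorem runO27 : chkBlock 27 = true := by decide +kernel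

theorem runC27 : Nat.beq (cntBlock 27) 2144 = true := by decide +kernel

theorem runO28 : chkBlock 28 = true := by decide +kernel

theorem runC28 : Nat.beq (cntBlock 28) 2208 = true := by decide +kernel

theorem runO29 : chkBlock 29 = true := by decide +kernel

theorem runC29 : Nat.beq (cntBlock 29) 2176 = true := by decide +kernel

theorem runO30 : chkBlock 30 = true := by decide +kernel

theorem runC30 : Nat.beq (cntBlock 30) 2176 = true := by decide +kernel

theorem runO31 : chkBlock 31 = true := by decide +kernel

theorem runC31 : Nat.beq (cntBlock 31) 2224 = true := by decide +kernel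

end CfsgLib.J3
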