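import Cfsg.Agent.Lib.Sporadic.J3.OrbitRun0
import Cfsg.Agent.Lib.Sporadic.J3.OrbitRun1
import Cfsg.Agent.Lib.Sporadic.J3.OrbitRun2
import Cfsg.Agent.Lib.Sporadic.J3.OrbitRun3

/-! The orbit checks on all blocks. -/

set_option autoImplicit false

namespace CfsgLib.J3

theorem run_blocks : ∀ j, j < 32 → chkBlock j = true := by
  intro j hj
  interval_cases j
  exacts [runO0, runO1, runO2, runO3, runO4, runO5, runO6, runO7, runO8, runO9, runO10, runO11, runO12, runO13, runO14, runO15, runO16, runO17, runO18, runO19, runO20, runO21, runO22, runO23, runO24, runO25, runO26, runO27, runO28, runO29, runO30, runO31]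

theorem run_count : ∑ j ∈ Finset.range 32, cntBlock j = 69768 := by
  simp only [Finset.sum_range_succ, Finset.sum_range_zero, Nat.eq_of_beq_eq_true runC0, Nat.eq_of_beq_eq_true runC1, Nat.eq_of_beq_eq_true runC2, Nat.eq_of_beq_eq_true runC3, Nat.eq_of_beq_eq_true runC4, Nat.eq_of_beq_eq_true runC5, Nat.eq_of_beq_eq_true runC6, Nat.eq_of_beq_eq_true runC7, Nat.eq_of_beq_eq_true runC8, Nat.eq_of_beq_eq_true runC9, Nat.eq_of_beq_eq_true runC10, Nat.eq_of_beq_eq_true runC11, Nat.eq_of_beq_eq_true runC12, Nat.eq_of_beq_eq_true runC13, Nat.eq_of_beq_eq_true runC14, Nat.eq_of_beq_eq_true runC15, Nat.eq_of_beq_eq_true runC16, Nat.eq_of_beq_eq_true runC17, Nat.eq_of_beq_eq_true runC18, Nat.eq_of_beq_eq_true runC19, Nat.eq_of_beq_eq_true runC20, Nat.eq_of_beq_eq_true runC21, Nat.eq_of_beq_eq_true runC22, Nat.eq_of_beq_eq_true runC23, Nat.eq_of_beq_eq_true runC24, Nat.eq_of_beq_eq_true runC25, Nat.eq_of_beq_eq_true runC26, Nat.eq_of_beq_eq_true runC27, Nat.eq_of_beq_eq_true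 runC28, Nat.eq_of_beq_eq_true runC29, Nat.eq_of_beq_eq_true runC30, Nat.eq_of_beq_eq_true runC31]

end CfsgLib.J3
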