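import Cfsg.Agent.Lib.Sporadic.J3.Main
import Cfsg.Agent.Lib.Sporadic.J3.OrbitCheck
import Cfsg.Agent.Lib.Sporadic.J3.OrbitRun

/-! The orbits of the triple cover of J3 on the vectors. -/

set_option autoImplicit false

namespace CfsgLib.J3

open Cfsg.Spor Matrix

theorem okO {n : ℕ} (hn : n < 262144) : chkO n = true := by
  have h := run_blocks (n / 8192) (by omega)
  exact allFrom_spec h n (by show 8192 * (n / 8192) ≤ n; omega) (by show n < 8192 * (n / 8192) + 8192; omega)

theorem force_eq {α : Type} (x : ℕ) (f : ℕ → α) : force x f = f x := by cases x <;> rfl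

theorem par_ok : ∀ x, x < 512 →
    Nat.beq ((parTab >>> x) &&& 1) 0 = decide ((∑ i ∈ Finset.range 9, if x.testBit i then 1 else 0 : ℕ) % 2 = 0) := by
  decide +kernel

theorem spread_ok : ∀ x, x < 512 → ∀ r, r < 9 → ∀ c, c < 9 →
    (spread x).testBit (9 * r + c) = (decide (c = 0) && x.testBit r) := by
  decide +kernel

theorem lo_lt {n : ℕ} : n &&& 511 < 512 := lt_of_le_of_lt Nat.and_le_right (by norm_num)

theorem hi_lt {n : ℕ} (hn : n < 262144) : n >>> 9 < 512 := by
  rw [Nat.shiftRight_eq_div_pow]; omega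

theorem testBit_lo (n i : ℕ) (hi : i < 9) : (n &&& 511).testBit i = n.testBit i := by
  rw [Nat.testBit_and, show (511 : ℕ) = 2 ^ 9 - 1 from rfl, Nat.testBit_two_pow_sub_one, decide_eq_true hi,
    Bool.and_true]

section
variable (F : Type) [Field F] (ω : F)

/-- the vector with the given code -/
def toV (n : ℕ) : F9 → F := fun z => el F ω (n.testBit (fi z), n.testBit (9 + fi z))

end

variable {F : Type} [Field F] [Fintype F] {ω : F}

omit [Fintype F] in
theorem toV_zero : toV F ω 0 = 0 := by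
  funext z; simp [toV, el]

theorem sum_count (n : ℕ) : (∑ z : F9, if (n.testBit (fi z) || n.testBit (9 + fi z)) then (1 : F) else 0) =
    ((∑ i ∈ Finset.range 9, if (n.testBit i || n.testBit (9 + i)) then 1 else 0 : ℕ) : F) := by
  rw [sum_F9 (fun i => if (n.testBit i || n.testBit (9 + i)) then (1 : F) else 0)]
  simp only [Finset.sum_range_succ, Finset.sum_range_zero, Nat.cast_add, Nat.cast_ite, Nat.cast_one, Nat.cast_zero]
  ring

variable (hF : Fintype.card F = 4) (hω : ω ^ 2 + ω + 1 = 0)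
include hF hω

theorem toV_injOn : Set.InjOn (toV F ω) {n | n < 262144} := by
  intro a ha b hb h
  refine Nat.eq_of_testBit_eq fun i => ?_
  by_cases hi : i < 18
  · have key : ∀ j < 9, a.testBit j = b.testBit j ∧ a.testBit (9 + j) = b.testBit (9 + j) := by
      intro j hj
      have := el_injective (two_eq_zero hF) hω (congrFun h (fz j))
      simp only [fi_fz j hj, Prod.mk.injEq] at this
      exact this
    rcases Nat.lt_or_ge i 9 with h9 | h9
    · exact (key i h9).1
    · have := (key (i - 9) (by omega)).2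
      rwa [show 9 + (i - 9) = i by omega] at this
  · have hp : 2 ^ 18 ≤ 2 ^ i := Nat.pow_le_pow_right (by norm_num) (by omega)
    have ha' : a < 262144 := ha
    have hb' : b < 262144 := hb
    rw [Nat.testBit_lt_two_pow (by omega), Nat.testBit_lt_two_pow (by omega)]

theorem toV_surj (v : F9 → F) : ∃ n, n < 262144 ∧ toV F ω n = v := by
  classical
  have hb : Function.Bijective (fun n : Fin 262144 => toV F ω n.val) := by
    rw [Fintype.bijective_iff_injective_and_card]
    refine ⟨fun a b h => Fin.ext (toV_injOn hF hω a.2 b.2 h), ?_⟩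
    rw [Fintype.card_fin, Fintype.card_fun, hF]
    rfl
  obtain ⟨n, hn⟩ := hb.2 v
  exact ⟨n.1, n.2, hn⟩

theorem toM_emb {n : ℕ} (hn : n < 262144) :
    toM F ω (emb n) = Matrix.of fun r c => if c = 0 then toV F ω n r else 0 := by
  ext r c
  simp only [toM, Matrix.of_apply, bits, emb]
  rw [spread_ok _ lo_lt _ (fi_lt r) _ (fi_lt c), spread_ok _ (hi_lt hn) _ (fi_lt r) _ (fi_lt c),
    testBit_lo n _ (fi_lt r), Nat.testBit_shiftRight]
  by_cases hc : c = 0
  · subst hc
    rw [if_pos rfl, show decide (fi 0 = 0) = true from rfl, Bool.true_and, Bool.true_and]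
    rfl
  · rw [if_neg hc, decide_eq_false (fun e => hc (fi_injective (e.trans rfl))), Bool.false_and, Bool.false_and,
      el_zero]

theorem mulVec_of_chk {g : M2} {a x : ℕ} (ha : a < 262144) (hx : x < 262144)
    (h : beq (mul g (emb a)) (emb x) = true) : toM F ω g *ᵥ toV F ω a = toV F ω x := by
  have h1 := congrArg (toM F ω) (beq_eq h)
  rw [toM_mul (two_eq_zero hF) hω, toM_emb hF hω ha, toM_emb hF hω hx] at h1
  funext r
  have h2 := congrFun (congrFun h1 r) 0
  simp only [Matrix.mul_apply, Matrix.of_apply, if_true] at h2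
  exact h2

theorem img_spec {g : M2} {lo hi : ℕ} (h : allFrom 0 512 (chkImg g lo hi) = true) {n : ℕ} (hn : n < 262144) :
    Nat.xor (entry lo (n &&& 511)) (entry hi (n >>> 9)) < 262144 ∧
      toV F ω (Nat.xor (entry lo (n &&& 511)) (entry hi (n >>> 9))) = toM F ω g *ᵥ toV F ω n := by
  have h2 := two_eq_zero hF
  have hl := allFrom_spec h (n &&& 511) (by omega) (by have := @lo_lt n; omega)
  have hh := allFrom_spec h (n >>> 9) (by omega) (by have := hi_lt hn; omega)
  simp only [chkImg, Bool.and_eq_true] at hl hh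
  have he : ∀ t a, entry t a < 262144 := fun t a => lt_of_le_of_lt Nat.and_le_right (by norm_num)
  obtain ⟨l2, -⟩ := hl
  obtain ⟨-, h3⟩ := hh
  have hsh : (n >>> 9) <<< 9 < 262144 := by rw [Nat.shiftLeft_eq]; have := hi_lt hn; omega
  have hlo : n &&& 511 < 262144 := by have := @lo_lt n; omega
  refine ⟨Nat.xor_lt_two_pow (n := 18) (he _ _) (he _ _), ?_⟩
  have hsplit : toV F ω n = toV F ω (n &&& 511) + toV F ω ((n >>> 9) <<< 9) := by
    funext z
    have hz := fi_lt z
    simp only [toV, Pi.add_apply]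
    rw [← el_xor h2, testBit_lo n _ hz, Nat.testBit_shiftLeft, Nat.testBit_shiftLeft, Nat.testBit_shiftRight,
      Nat.testBit_and, show (511 : ℕ) = 2 ^ 9 - 1 from rfl, Nat.testBit_two_pow_sub_one,
      decide_eq_false (show ¬ (9 + fi z < 9) by omega), decide_eq_false (show ¬ (fi z ≥ 9) by omega),
      decide_eq_true (show 9 + fi z ≥ 9 by omega)]
    simp
  rw [hsplit, Matrix.mulVec_add, mulVec_of_chk hF hω hlo (he _ _) l2, mulVec_of_chk hF hω hsh (he _ _) h3]
  funext z
  show toV F ω (entry lo (n &&& 511) ^^^ entry hi (n >>> 9)) z = _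
  simp only [toV, Pi.add_apply, Nat.testBit_xor, ← el_xor h2]

theorem imgX_spec {n : ℕ} (hn : n < 262144) : imgX n < 262144 ∧ toV F ω (imgX n) = toM F ω gX *ᵥ toV F ω n :=
  img_spec hF hω imgX_ok hn

theorem imgY_spec {n : ℕ} (hn : n < 262144) : imgY n < 262144 ∧ toV F ω (imgY n) = toM F ω gY *ᵥ toV F ω n :=
  img_spec hF hω imgY_ok hn

theorem reach {c : ℕ} (hc : c < 2) {n : ℕ} (hn : n < 262144) (hcls : info n &&& 3 = c) :
    ∃ g ∈ GS F ω, g *ᵥ toV F ω n = toV F ω (bif Nat.beq c 0 then 3 else 1) := by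
  have h2 := two_eq_zero hF
  induction hd : info n >>> 3 using Nat.strong_induction_on generalizing n with
  | _ d ih =>
    have h := okO hn
    simp only [chkO, force_eq, Bool.and_eq_true, Bool.or_eq_true, hcls] at h
    obtain ⟨⟨-, h⟩, -⟩ := h
    rcases h with (h | h) | h
    · rw [Bool.not_eq_true', ← Bool.not_eq_true, Nat.blt_eq] at h
      exact absurd hc h
    · rw [Nat.eq_of_beq_eq_true h]
      exact ⟨1, Submonoid.one_mem _, Matrix.one_mulVec _⟩
    · cases hb : Nat.beq ((info n >>> 2) &&& 1) 0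
      · simp only [hb, cond_false, Nat.beq_eq, Nat.blt_eq] at h
        obtain ⟨hm, hmv⟩ := imgY_spec hF hω hn
        obtain ⟨g, hg, he⟩ := ih _ (hd ▸ h.2) hm h.1 rfl
        exact ⟨g * toM F ω gY, Submonoid.mul_mem _ hg (gY_mem h2 hω), by
          rw [← Matrix.mulVec_mulVec, ← hmv, he]⟩
      · simp only [hb, cond_true, Nat.beq_eq, Nat.blt_eq] at h
        obtain ⟨hm, hmv⟩ := imgX_spec hF hω hn
        obtain ⟨g, hg, he⟩ := ih _ (hd ▸ h.2) hm h.1 rfl
        exact ⟨g * toM F ω gX, Submonoid.mul_mem _ hg (gX_mem h2 hω), by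
          rw [← Matrix.mulVec_mulVec, ← hmv, he]⟩

theorem isotropic_class {n : ℕ} (hn : n < 262144) (hv : toV F ω n ≠ 0) (hiso : ∑ z, toV F ω n z ^ 3 = 0) :
    info n &&& 3 = 0 := by
  have h2 := two_eq_zero hF
  have h := okO hn
  simp only [chkO, force_eq, Bool.and_eq_true, Bool.or_eq_true, Nat.beq_eq] at h
  obtain ⟨⟨h, -⟩, -⟩ := h
  refine h.resolve_left ?_
  rw [Bool.not_eq_true', Bool.not_eq_false, isoB, Bool.and_eq_true, Bool.not_eq_true', ← Bool.not_eq_true,
    Nat.beq_eq]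
  refine ⟨fun e => hv (e ▸ toV_zero), ?_⟩
  have hor : ((n &&& 511) ||| (n >>> 9)) < 512 := Nat.or_lt_two_pow (n := 9) lo_lt (hi_lt hn)
  rw [par_ok _ hor, decide_eq_true_eq]
  set s := ∑ i ∈ Finset.range 9, if ((n &&& 511) ||| (n >>> 9)).testBit i then 1 else 0 with hs
  have hs' : s = ∑ i ∈ Finset.range 9, if (n.testBit i || n.testBit (9 + i)) then 1 else 0 := by
    refine Finset.sum_congr rfl fun i hi => ?_
    rw [Finset.mem_range] at hi
    rw [Nat.testBit_or, testBit_lo n i hi, Nat.testBit_shiftRight]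
  have hcube : ∀ x : Bool × Bool, el F ω x ^ 3 = if (x.1 || x.2) then 1 else 0 := by
    intro x
    by_cases hx : (x.1 || x.2) = true
    · rw [if_pos hx]
      refine pow_three hF hω fun e => ?_
      have := el_injective h2 hω (e.trans (el_zero (F := F) (ω := ω)).symm)
      rw [this] at hx
      exact Bool.false_ne_true hx
    · rw [if_neg hx]
      obtain ⟨x1, x2⟩ := x
      cases x1 <;> cases x2 <;> simp at hx
      simp [el]
  have hsum : ((s : ℕ) : F) = 0 := by
    rw [hs', ← sum_count n]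
    refine Eq.trans ?_ hiso
    exact Finset.sum_congr rfl fun z _ => (hcube (n.testBit (fi z), n.testBit (9 + fi z))).symm
  have hmod : ((s % 2 : ℕ) : F) = 0 := by
    have h' : ((s % 2 + 2 * (s / 2) : ℕ) : F) = 0 := by rw [Nat.mod_add_div]; exact hsum
    simpa [h2] using h'
  rcases Nat.mod_two_eq_zero_or_one s with e | e
  · exact e
  · rw [e, Nat.cast_one] at hmod
    exact absurd hmod one_ne_zero

theorem transitive_isotropic (v w : F9 → F) (hv : v ≠ 0) (hw : w ≠ 0) (h1 : ∑ z, v z ^ 3 = 0)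
    (h2' : ∑ z, w z ^ 3 = 0) : ∃ g ∈ threeJ3 F ω, ∃ c : F, c ≠ 0 ∧ (g : Matrix F9 F9 F) *ᵥ v = c • w := by
  have h2 := two_eq_zero hF
  obtain ⟨a, ha, rfl⟩ := toV_surj hF hω v
  obtain ⟨b, hb, rfl⟩ := toV_surj hF hω w
  obtain ⟨g, hg, hga⟩ := reach hF hω (c := 0) (by norm_num) ha (isotropic_class hF hω ha hv h1)
  obtain ⟨k, hk, hkb⟩ := reach hF hω (c := 0) (by norm_num) hb (isotropic_class hF hω hb hw h2')
  obtain ⟨G, hG, rfl⟩ := (mem_GS_iff_exists h2 hω).1 hg
  obtain ⟨H, hH, rfl⟩ := (mem_GS_iff_exists h2 hω).1 hk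
  refine ⟨H⁻¹ * G, Subgroup.mul_mem _ (Subgroup.inv_mem _ hH) hG, 1, one_ne_zero, ?_⟩
  rw [one_smul, Units.val_mul, ← Matrix.mulVec_mulVec, hga, ← hkb, Matrix.mulVec_mulVec, Units.inv_mul,
    Matrix.one_mulVec]

theorem toV_one : toV F ω 1 = Pi.single (0 : F9) (1 : F) := by
  funext z
  have : ∀ z : F9, ((1 : ℕ).testBit (fi z), (1 : ℕ).testBit (9 + fi z)) = (decide (z = 0), false) := by decide +kernel
  simp only [toV, this z]
  by_cases hz : z = 0
  · subst hz; simp [el]
  · simp [hz, el]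

theorem orbit_eq : {v : F9 → F | ∃ g ∈ threeJ3 F ω, (g : Matrix F9 F9 F) *ᵥ Pi.single (0 : F9) (1 : F) = v} =
    toV F ω '' {n | n < 262144 ∧ info n &&& 3 = 1} := by
  have h2 := two_eq_zero hF
  ext v
  constructor
  · rintro ⟨g, hg, rfl⟩
    have hgs : (g : Matrix F9 F9 F) ∈ GS F ω := (mem_GS_iff_exists h2 hω).2 ⟨g, hg, rfl⟩
    suffices ∀ m ∈ GS F ω, ∀ n, n < 262144 → info n &&& 3 = 1 →
        m *ᵥ toV F ω n ∈ toV F ω '' {n | n < 262144 ∧ info n &&& 3 = 1} by
      have h1 : info 1 &&& 3 = 1 := by decide +kernel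
      have := this _ hgs 1 (by norm_num) h1
      rwa [toV_one hF hω] at this
    intro m hm
    induction hm using Submonoid.closure_induction with
    | mem x hx =>
      intro n hn hcls
      have h := okO hn
      simp only [chkO, force_eq, Bool.and_eq_true, Bool.or_eq_true, hcls, Nat.beq_eq] at h
      obtain ⟨-, h⟩ := h
      have h' := h.resolve_left (by simp)
      rcases hx with rfl | rfl
      · obtain ⟨hm', hmv⟩ := imgX_spec hF hω hn
        exact ⟨_, ⟨hm', h'.1⟩, hmv⟩
      · obtain ⟨hm', hmv⟩ := imgY_spec hF hω hn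
        exact ⟨_, ⟨hm', h'.2⟩, hmv⟩
    | one =>
      intro n hn hcls
      exact ⟨n, ⟨hn, hcls⟩, (Matrix.one_mulVec _).symm⟩
    | mul x y _ _ hx hy =>
      intro n hn hcls
      obtain ⟨k, ⟨hk, hkc⟩, he⟩ := hy n hn hcls
      obtain ⟨l, hl, he'⟩ := hx k hk hkc
      exact ⟨l, hl, by rw [he', he, Matrix.mulVec_mulVec]⟩
  · rintro ⟨n, ⟨hn, hcls⟩, rfl⟩
    obtain ⟨g, hg, hgn⟩ := reach hF hω (c := 1) (by norm_num) hn hcls
    obtain ⟨G, hG, rfl⟩ := (mem_GS_iff_exists h2 hω).1 hg
    refine ⟨G⁻¹, Subgroup.inv_mem _ hG, ?_⟩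
    have hgn' : (G : Matrix F9 F9 F) *ᵥ toV F ω n = toV F ω 1 := hgn
    rw [← toV_one hF hω, ← hgn', Matrix.mulVec_mulVec, Units.inv_mul, Matrix.one_mulVec]

omit [Field F] [Fintype F] hF hω in
theorem sumFrom_eq (f : ℕ → ℕ) (lo : ℕ) : ∀ len, sumFrom lo len f = ∑ i ∈ Finset.Ico lo (lo + len), f i
  | 0 => by simp [sumFrom]
  | len + 1 => by
    show f (lo + len) + sumFrom lo len f = _
    rw [sumFrom_eq f lo len, ← Nat.add_assoc lo, Finset.sum_Ico_succ_top (by omega)]
    omega

theorem ncard_orbit :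
    {v : F9 → F | ∃ g ∈ threeJ3 F ω, (g : Matrix F9 F9 F) *ᵥ Pi.single (0 : F9) (1 : F) = v}.ncard = 69768 := by
  rw [orbit_eq hF hω, Set.ncard_image_of_injOn ((toV_injOn hF hω).mono fun n hn => hn.1)]
  have hset : {n : ℕ | n < 262144 ∧ info n &&& 3 = 1} =
      ↑((Finset.range 262144).filter fun n => info n &&& 3 = 1) := by
    ext n; simp
  rw [hset, Set.ncard_coe_finset, Finset.card_filter]
  have hblock : ∀ j, cntBlock j = ∑ i ∈ Finset.Ico (8192 * j) (8192 * (j + 1)), ind1 i := fun j => by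
    rw [Nat.mul_succ]; exact sumFrom_eq ind1 (8192 * j) 8192
  have hsum : ∀ k, ∑ j ∈ Finset.range k, cntBlock j = ∑ i ∈ Finset.range (8192 * k), ind1 i := by
    intro k
    induction k with
    | zero => simp
    | succ k ih =>
      rw [Finset.sum_range_succ, ih, hblock, Finset.sum_range_add_sum_Ico _ (by omega)]
  have hind : ∀ n, ind1 n = if info n &&& 3 = 1 then 1 else 0 := by
    intro n
    by_cases h : info n &&& 3 = 1
    · rw [if_pos h, ind1, h]; rfl
    · rw [if_neg h, ind1]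
      cases hb : Nat.beq (info n &&& 3) 1
      · rfl
      · exact absurd (Nat.eq_of_beq_eq_true hb) h
  simp only [← hind]
  rw [show (262144 : ℕ) = 8192 * 32 from rfl, ← hsum]
  exact run_count

theorem ncard_lines :
    {L : Submodule F (F9 → F) | ∃ g ∈ threeJ3 F ω, L = F ∙ ((g : Matrix F9 F9 F) *ᵥ (Pi.single (0 : F9) (1 : F) : F9 → F))}.ncard
      = 23256 := by
  classical
  set O := {v : F9 → F | ∃ g ∈ threeJ3 F ω, (g : Matrix F9 F9 F) *ᵥ Pi.single (0 : F9) (1 : F) = v}
  set Ls := {L : Submodule F (F9 → F) | ∃ g ∈ threeJ3 F ω, L = F ∙ ((g : Matrix F9 F9 F) *ᵥ (Pi.single (0 : F9) (1 : F) : F9 → F))}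
  have hrep : ∀ L : Ls, ∃ v, v ∈ O ∧ v ≠ 0 ∧ L.1 = F ∙ v := by
    rintro ⟨L, g, hg, rfl⟩
    refine ⟨_, ⟨g, hg, rfl⟩, fun e => ?_, rfl⟩
    have h := congrArg (fun x => ((g⁻¹ : GL F9 F) : Matrix F9 F9 F) *ᵥ x) e
    simp only [Matrix.mulVec_mulVec, Units.inv_mul, Matrix.one_mulVec, Matrix.mulVec_zero] at h
    simpa using congrFun h 0
  choose f hfO hf0 hfL using hrep
  have hsmul : ∀ (c : Fˣ) (v : F9 → F), v ∈ O → (c : F) • v ∈ O := by
    rintro c v ⟨g, hg, rfl⟩
    obtain ⟨z, hz⟩ : ∃ z : threeJ3 F ω, ((z : GL F9 F) : Matrix F9 F9 F) = (c : F) • 1 := by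
      have hne : ω ≠ 0 := fun e => by simp [e] at hω
      have h2 := two_eq_zero hF
      have hne1 : ω ≠ 1 := fun e => by
        subst e; exact one_ne_zero (α := F) (by linear_combination hω - h2)
      have hsq : ω ^ 2 ≠ 1 := fun e => hne (by linear_combination hω - e - h2)
      have hsq' : ω ^ 2 ≠ ω := fun e => hne1 (mul_left_cancel₀ hne (by rw [← pow_two, e, mul_one]))
      have hsub : ({0, 1, ω, ω ^ 2} : Finset F) = Finset.univ := by
        refine Finset.eq_univ_of_card _ ?_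
        rw [hF, Finset.card_insert_of_notMem, Finset.card_insert_of_notMem, Finset.card_pair]
        · exact Ne.symm hsq'
        · simp [Ne.symm hne1, Ne.symm hsq]
        · simp [Ne.symm hne, Ne.symm (pow_ne_zero 2 hne)]
      have hom : (ω • 1 : Matrix F9 F9 F) ∈ GS F ω := by
        obtain ⟨-, -, -, -, -, -, -, -, -, -, -, -, -, -, -, -, -, ho, he, -⟩ := misc
        rw [← toM_omCode, beq_eq he]
        exact triple_mem h2 hω ho
      have hc := Finset.mem_univ (c : F)
      rw [← hsub] at hc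
      simp only [Finset.mem_insert, Finset.mem_singleton] at hc
      refine exists_coe hF hω ?_
      rcases hc with h | h | h | h
      · exact absurd h c.ne_zero
      · rw [h, one_smul]; exact Submonoid.one_mem _
      · rw [h]; exact hom
      · rw [h]
        have := Submonoid.mul_mem _ hom hom
        rwa [smul_mul_smul_comm, ← pow_two, one_mul] at this
    refine ⟨(z : GL F9 F) * g, Subgroup.mul_mem _ z.2 hg, ?_⟩
    rw [Units.val_mul, hz, ← Matrix.mulVec_mulVec, Matrix.smul_mulVec, Matrix.one_mulVec]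
  let φ : Ls × Fˣ → O := fun p => ⟨(p.2 : F) • f p.1, hsmul _ _ (hfO p.1)⟩
  have hφ : Function.Bijective φ := by
    constructor
    · rintro ⟨L, c⟩ ⟨L', c'⟩ h
      have h' : (c : F) • f L = (c' : F) • f L' := congrArg Subtype.val h
      have hL : L = L' := by
        apply Subtype.ext
        rw [hfL L, hfL L', ← Submodule.span_singleton_smul_eq c.isUnit (f L), h',
          Submodule.span_singleton_smul_eq c'.isUnit]
      subst hL
      exact Prod.ext rfl (Units.ext (smul_left_injective F (hf0 L) h'))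
    · rintro ⟨v, hv⟩
      obtain ⟨g, hg, rfl⟩ := hv
      let L : Ls := ⟨_, g, hg, rfl⟩
      have hmem : (g : Matrix F9 F9 F) *ᵥ Pi.single (0 : F9) (1 : F) ∈ F ∙ f L :=
        (hfL L) ▸ Submodule.mem_span_singleton_self _
      obtain ⟨c, hc⟩ := Submodule.mem_span_singleton.1 hmem
      have hc0 : c ≠ 0 := fun e => by
        have h := congrArg (fun x => ((g⁻¹ : GL F9 F) : Matrix F9 F9 F) *ᵥ x) hc
        simp only [e, zero_smul, Matrix.mulVec_mulVec, Units.inv_mul, Matrix.one_mulVec, Matrix.mulVec_zero] at h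
        simpa using congrFun h.symm 0
      exact ⟨(L, Units.mk0 c hc0), Subtype.ext hc⟩
  have h := Nat.card_eq_of_bijective φ hφ
  rw [Nat.card_prod, Nat.card_units, Nat.card_eq_fintype_card (α := F), hF, Nat.card_coe_set_eq, Nat.card_coe_set_eq,
    ncard_orbit hF hω] at h
  omega

end CfsgLib.J3
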