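import Cfsg.Agent.Lib.Sporadic.J3.OrbitCheck

/-! Kernel evaluation of the orbit checks, blocks 0 to 7. -/

set_option autoImplicit false
set_option maxRecDepth 100000

namespace CfsgLib.J3

theorem runO0 : chkBlock 0 = true := by decide +kernel

theorem runC0 : Nat.beq (cntBlock 0) 2264 = true := by decide +kernel

theorem runO1 : chkBlock 1 = true := by decide +kernel

theorem runC1 : Nat.beq (cntBlock 1) 2176 = true := by decide +kernel

theorem runO2 : chkBlock 2 = true := by decide +kernel

theorem runC2 : Nat.beq (cntBlock 2) 2176 = true := by decide +kernel

theorem runO3 : chkBlock 3 = true := by decide +kernel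

theorem runC3 : Nat.beq (cntBlock 3) 2144 = true := by decide +kernel

theorem runO4 : chkBlock 4 = true := by decide +kernel

theorem runC4 : Nat.beq (cntBlock 4) 2208 = true := by decide +kernel

theorem runO5 : chkBlock 5 = true := by decide +kernel

theorem runC5 : Nat.beq (cntBlock 5) 2176 = true := by decide +kernel

theorem runO6 : chkBlock 6 = true := by decide +kernel

theorem runC6 : Nat.beq (cntBlock 6) 2176 = true := by decide +kernel

theorem runO7 : chkBlock 7 = true := by decide +kernel

theorem runC7 : Nat.beq (cntBlock 7) 2208 = true := by decide +kernel

end CfsgLib.J3
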