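import Cfsg.Agent.Lib.Sporadic.J3.Checks

/-! The order of the triple cover of J3. -/

set_option autoImplicit false

namespace CfsgLib.J3

open Cfsg.Spor Matrix

variable (F : Type*) [Field F] (ω : F)

/-- the monoid generated by the two coded generators -/
def GS : Submonoid (Matrix F9 F9 F) := Submonoid.closure {toM F ω gX, toM F ω gY}

/-- the monoid generated by the two coded generators of the stabiliser -/
def KS : Submonoid (Matrix F9 F9 F) := Submonoid.closure {toM F ω gK1, toM F ω gK2}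

/-- the monoid generated by the two coded generators of the small subgroup -/
def VS : Submonoid (Matrix F9 F9 F) := Submonoid.closure {toM F ω gV1, toM F ω gV2}

/-- the products of a tabulated stabiliser element and a small one -/
def InK (M : Matrix F9 F9 F) : Prop :=
  ∃ a < 272, ∃ b < 90, M = toM F ω (U a) * toM F ω (V b)

/-- the products of three tabulated matrices -/
def Cov (M : Matrix F9 F9 F) : Prop :=
  ∃ i < 6156, ∃ a < 272, ∃ b < 90, M = toM F ω (T i) * toM F ω (U a) * toM F ω (V b)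

variable {F ω} (h2 : (2 : F) = 0) (hω : ω ^ 2 + ω + 1 = 0)

theorem misc :
    beq (T 0) one = true ∧ beq (U 0) one = true ∧ beq (V 0) one = true ∧
    beq gX (lprod (wordX.map fun n => genL.getD n one)) = true ∧ wordX.all (fun n => Nat.blt n 43) = true ∧
    beq gY (lprod (wordY.map fun n => genL.getD n one)) = true ∧ wordY.all (fun n => Nat.blt n 43) = true ∧
    beq gK1 (wordProd gX gY wordK1) = true ∧ beq gK2 (wordProd gX gY wordK2) = true ∧
    beq gV1 (wordProd gK1 gK2 wordV1) = true ∧ beq gV2 (wordProd gK1 gK2 wordV2) = true ∧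
    beq (mul gK1 gBw) (mul gBw gSk1) = true ∧ beq (mul gK2 gBw) (mul gBw gSk2) = true ∧
    beq (mul gV1 gP2) (mul gP2 gV1) = true ∧ beq (mul gV2 gP2) (mul gP2 gV2) = true ∧
    beq (lprod (List.replicate 19 gX)) one = true ∧ beq (lprod (List.replicate 17 gY)) one = true ∧
    tripleOk omDec = true ∧ beq omCode (triple omDec) = true ∧
    chkSplit sXa 17 = true ∧ chkSplit sXb 17 = true ∧ beq gX (mul sXa.1 sXb.1) = true ∧
    chkSplit sYa 19 = true ∧ chkSplit sYb 19 = true ∧ beq gY (mul sYa.1 sYb.1) = true ∧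
    beq (mul gQ gQi) one = true ∧ beq (mul gQ gShift) (mul (mul gX gQ) gDrop) = true ∧
    beq (add (mul gA (add gY one)) (mul gQ gPhi)) one = true ∧ beq (mul gXad gX) one = true ∧
    beq (mul gYad gY) one = true := by
  have h := chkMisc_true
  simp only [chkMisc, Bool.and_eq_true, and_assoc] at h
  exact h

section
include h2 hω

theorem toM_wordProd {S : Submonoid (Matrix F9 F9 F)} {x y : M2} (hx : toM F ω x ∈ S) (hy : toM F ω y ∈ S) :
    ∀ l, toM F ω (wordProd x y l) ∈ S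
  | [] => by rw [wordProd, toM_one]; exact S.one_mem
  | b :: l => by
    rw [wordProd, toM_mul h2 hω]
    cases b
    · exact S.mul_mem hy (toM_wordProd hx hy l)
    · exact S.mul_mem hx (toM_wordProd hx hy l)

theorem gX_mem : toM F ω gX ∈ GS F ω := Submonoid.subset_closure (Or.inl rfl)

theorem gY_mem : toM F ω gY ∈ GS F ω := Submonoid.subset_closure (Or.inr rfl)

theorem KS_le_GS : KS F ω ≤ GS F ω := by
  obtain ⟨-, -, -, -, -, -, -, h1, h3, -⟩ := misc
  refine Submonoid.closure_le.2 ?_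
  rintro M (rfl | rfl)
  · rw [beq_eq h1]; exact toM_wordProd h2 hω (gX_mem h2 hω) (gY_mem h2 hω) _
  · rw [beq_eq h3]; exact toM_wordProd h2 hω (gX_mem h2 hω) (gY_mem h2 hω) _

theorem VS_le_KS : VS F ω ≤ KS F ω := by
  obtain ⟨-, -, -, -, -, -, -, -, -, h1, h3, -⟩ := misc
  have k1 : toM F ω gK1 ∈ KS F ω := Submonoid.subset_closure (Or.inl rfl)
  have k2 : toM F ω gK2 ∈ KS F ω := Submonoid.subset_closure (Or.inr rfl)
  refine Submonoid.closure_le.2 ?_
  rintro M (rfl | rfl)
  · rw [beq_eq h1]; exact toM_wordProd h2 hω k1 k2 _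
  · rw [beq_eq h3]; exact toM_wordProd h2 hω k1 k2 _

theorem V_mem {b : ℕ} (hb : b < 90) : toM F ω (V b) ∈ VS F ω := by
  induction b using Nat.strong_induction_on with
  | _ b ih =>
    rcases Nat.eq_zero_or_pos b with rfl | hpos
    · rw [beq_eq misc.2.2.1, toM_one]; exact Submonoid.one_mem _
    have h := okV hb
    simp only [chkV, Bool.and_eq_true, Bool.or_eq_true, Nat.beq_eq] at h
    obtain ⟨-, h⟩ := h
    have h' := h.resolve_left (by omega)
    generalize tVpar.get b = e at h'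
    obtain ⟨g, p⟩ := e
    simp only [Bool.and_eq_true, Nat.blt_eq] at h'
    rw [beq_eq h'.2, toM_mul h2 hω]
    refine Submonoid.mul_mem _ ?_ (ih p h'.1 (by omega))
    cases Nat.beq g 0
    · exact Submonoid.subset_closure (Or.inr rfl)
    · exact Submonoid.subset_closure (Or.inl rfl)

theorem U_mem {a : ℕ} (ha : a < 272) : toM F ω (U a) ∈ KS F ω := by
  induction a using Nat.strong_induction_on with
  | _ a ih =>
    rcases Nat.eq_zero_or_pos a with rfl | hpos
    · rw [beq_eq misc.2.1, toM_one]; exact Submonoid.one_mem _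
    have h := okU ha
    simp only [chkU, Bool.and_eq_true, Bool.or_eq_true, Nat.beq_eq] at h
    obtain ⟨-, h⟩ := h
    have h' := h.resolve_left (by omega)
    generalize tUpar.get a = e at h'
    obtain ⟨g, p⟩ := e
    simp only [Bool.and_eq_true, Nat.blt_eq] at h'
    rw [beq_eq h'.2, toM_mul h2 hω]
    refine Submonoid.mul_mem _ ?_ (ih p h'.1 (by omega))
    cases Nat.beq g 0
    · exact Submonoid.subset_closure (Or.inr rfl)
    · exact Submonoid.subset_closure (Or.inl rfl)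

theorem T_mem {i : ℕ} (hi : i < 6156) : toM F ω (T i) ∈ GS F ω := by
  induction i using Nat.strong_induction_on with
  | _ i ih =>
    rcases Nat.eq_zero_or_pos i with rfl | hpos
    · rw [beq_eq misc.1, toM_one]; exact Submonoid.one_mem _
    have h := okT hi
    simp only [chkT, Bool.and_eq_true, Bool.or_eq_true, Nat.beq_eq] at h
    obtain ⟨-, h⟩ := h
    have h' := h.resolve_left (by omega)
    generalize tPar.get i = e at h'
    obtain ⟨g, p⟩ := e
    simp only [Bool.and_eq_true, Nat.blt_eq] at h'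
    rw [beq_eq h'.2, toM_mul h2 hω]
    refine Submonoid.mul_mem _ ?_ (ih p h'.1 (by omega))
    cases Nat.beq g 0
    · exact gY_mem h2 hω
    · exact gX_mem h2 hω

theorem VS_closed {m : Matrix F9 F9 F} (hm : m ∈ VS F ω) :
    ∀ b, b < 90 → ∃ c < 90, m * toM F ω (V b) = toM F ω (V c) := by
  induction hm using Submonoid.closure_induction with
  | mem x hx =>
    intro b hb
    have h := okV hb
    simp only [chkV, Bool.and_eq_true, Nat.blt_eq] at h
    obtain ⟨⟨⟨⟨⟨-, h1⟩, e1⟩, h3⟩, e2⟩, -⟩ := h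
    rcases hx with rfl | rfl
    · exact ⟨_, h1, by rw [← toM_mul h2 hω, beq_eq e1]⟩
    · exact ⟨_, h3, by rw [← toM_mul h2 hω, beq_eq e2]⟩
  | one => exact fun b hb => ⟨b, hb, one_mul _⟩
  | mul x y _ _ hx hy =>
    intro b hb
    obtain ⟨c, hc, hcy⟩ := hy b hb
    obtain ⟨d, hd, hdx⟩ := hx c hc
    exact ⟨d, hd, by rw [mul_assoc, hcy, hdx]⟩

theorem KS_closed {m : Matrix F9 F9 F} (hm : m ∈ KS F ω) : ∀ x, InK F ω x → InK F ω (m * x) := by
  induction hm using Submonoid.closure_induction with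
  | mem g hg =>
    rintro x ⟨a, ha, b, hb, rfl⟩
    have h := okU ha
    simp only [chkU, Bool.and_eq_true] at h
    obtain ⟨⟨⟨⟨-, -⟩, h1⟩, h3⟩, -⟩ := h
    rcases hg with rfl | rfl
    · generalize tUE1.get a = e at h1
      obtain ⟨a', b'⟩ := e
      simp only [Bool.and_eq_true, Nat.blt_eq] at h1
      obtain ⟨c, hc, hce⟩ := VS_closed h2 hω (V_mem h2 hω h1.1.2) b hb
      exact ⟨a', h1.1.1, c, hc, by rw [← mul_assoc, ← toM_mul h2 hω, beq_eq h1.2, toM_mul h2 hω, mul_assoc, hce]⟩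
    · generalize tUE2.get a = e at h3
      obtain ⟨a', b'⟩ := e
      simp only [Bool.and_eq_true, Nat.blt_eq] at h3
      obtain ⟨c, hc, hce⟩ := VS_closed h2 hω (V_mem h2 hω h3.1.2) b hb
      exact ⟨a', h3.1.1, c, hc, by rw [← mul_assoc, ← toM_mul h2 hω, beq_eq h3.2, toM_mul h2 hω, mul_assoc, hce]⟩
  | one => intro x hx; rwa [one_mul]
  | mul x y _ _ hx hy => intro z hz; rw [mul_assoc]; exact hx _ (hy z hz)

theorem InK_mem {x : Matrix F9 F9 F} (hx : InK F ω x) : x ∈ KS F ω := by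
  obtain ⟨a, ha, b, hb, rfl⟩ := hx
  exact Submonoid.mul_mem _ (U_mem h2 hω ha) (VS_le_KS h2 hω (V_mem h2 hω hb))

theorem Cov_mem {x : Matrix F9 F9 F} (hx : Cov F ω x) : x ∈ GS F ω := by
  obtain ⟨i, hi, a, ha, b, hb, rfl⟩ := hx
  rw [mul_assoc]
  exact Submonoid.mul_mem _ (T_mem h2 hω hi) (KS_le_GS h2 hω (InK_mem h2 hω ⟨a, ha, b, hb, rfl⟩))

theorem edge {g : M2} {tE : BT (ℕ × ℕ × ℕ)} {i : ℕ} (h : chkE g tE i = true) {x : Matrix F9 F9 F}
    (hx : InK F ω x) : Cov F ω (toM F ω g * (toM F ω (T i) * x)) := by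
  unfold chkE at h
  generalize tE.get i = e at h
  obtain ⟨j, a, b⟩ := e
  simp only [Bool.and_eq_true, Nat.blt_eq] at h
  obtain ⟨a', ha', b', hb', he⟩ :=
    KS_closed h2 hω (InK_mem h2 hω ⟨a, h.1.1.2, b, h.1.2, rfl⟩) x hx
  refine ⟨j, h.1.1.1, a', ha', b', hb', ?_⟩
  rw [← mul_assoc, ← toM_mul h2 hω, beq_eq h.2, toM_mul h2 hω, toM_mul h2 hω, mul_assoc (toM F ω (T j)),
    mul_assoc (toM F ω (T j)), he, mul_assoc]

theorem GS_closed {m : Matrix F9 F9 F} (hm : m ∈ GS F ω) : ∀ x, Cov F ω x → Cov F ω (m * x) := by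
  induction hm using Submonoid.closure_induction with
  | mem g hg =>
    rintro x ⟨i, hi, a, ha, b, hb, rfl⟩
    rw [mul_assoc (toM F ω (T i))]
    rcases hg with rfl | rfl
    · exact edge h2 hω (okEX hi) ⟨a, ha, b, hb, rfl⟩
    · exact edge h2 hω (okEY hi) ⟨a, ha, b, hb, rfl⟩
  | one => intro x hx; rwa [one_mul]
  | mul x y _ _ hx hy => intro z hz; rw [mul_assoc]; exact hx _ (hy z hz)

theorem Cov_one : Cov F ω 1 :=
  ⟨0, by norm_num, 0, by norm_num, 0, by norm_num, by
    obtain ⟨h1, h3, h4, -⟩ := misc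
    rw [beq_eq h1, beq_eq h3, beq_eq h4, toM_one, one_mul, one_mul]⟩

theorem mem_GS_iff {m : Matrix F9 F9 F} : m ∈ GS F ω ↔ Cov F ω m :=
  ⟨fun h => by simpa using GS_closed h2 hω h 1 (Cov_one h2 hω), fun h => Cov_mem h2 hω h⟩

theorem triple_mem {e : ℕ × ℕ × ℕ} (h : tripleOk e = true) : toM F ω (triple e) ∈ GS F ω := by
  obtain ⟨i, a, b⟩ := e
  simp only [tripleOk, Bool.and_eq_true, Nat.blt_eq] at h
  exact Cov_mem h2 hω ⟨i, h.1.1, a, h.1.2, b, h.2, by rw [triple, toM_mul h2 hω, toM_mul h2 hω]⟩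

theorem gen_isUnit {n : ℕ} (hn : n < 43) : IsUnit (toM F ω (genL.getD n one)) := by
  have h := okGen hn
  simp only [chkGen, Bool.and_eq_true] at h
  have he : toM F ω (genL.getD n one) * toM F ω (genInv.getD n one) = 1 := by
    rw [← toM_mul h2 hω, beq_eq h.2, toM_one]
  exact ⟨⟨_, _, he, mul_eq_one_comm.1 he⟩, rfl⟩

theorem gen_mem_GS {n : ℕ} (hn : n < 43) : toM F ω (genL.getD n one) ∈ GS F ω := by
  have h := okGen hn
  simp only [chkGen, Bool.and_eq_true] at h
  rw [beq_eq h.1.2]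
  exact triple_mem h2 hω h.1.1

/-- the matrices of elements of the triple cover -/
theorem mem_GS_iff_exists [Finite F] {m : Matrix F9 F9 F} :
    m ∈ GS F ω ↔ ∃ g ∈ threeJ3 F ω, (g : Matrix F9 F9 F) = m := by
  constructor
  · intro hm
    suffices h : GS F ω ≤ (threeJ3 F ω).toSubmonoid.map (Units.coeHom _) from h hm
    have hgen : ∀ n, n < 43 → toM F ω (genL.getD n one) ∈ (threeJ3 F ω).toSubmonoid.map (Units.coeHom _) := by
      intro n hn
      refine ⟨(gen_isUnit h2 hω hn).unit, Subgroup.subset_closure ?_, rfl⟩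
      show ((gen_isUnit h2 hω hn).unit : Matrix F9 F9 F) ∈ j3Gens F ω
      rw [IsUnit.unit_spec]
      exact code_mem h2 hω hn
    have hword : ∀ l : List ℕ, l.all (fun n => Nat.blt n 43) = true →
        toM F ω (lprod (l.map fun n => genL.getD n one)) ∈ (threeJ3 F ω).toSubmonoid.map (Units.coeHom _) := by
      intro l hl
      rw [toM_lprod h2 hω, List.map_map]
      refine Submonoid.list_prod_mem _ fun x hx => ?_
      obtain ⟨n, hn, rfl⟩ := List.mem_map.1 hx
      exact hgen n (by simpa [Nat.blt_eq] using List.all_eq_true.1 hl n hn)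
    obtain ⟨-, -, -, e1, e2, e3, e4, -⟩ := misc
    refine Submonoid.closure_le.2 ?_
    rintro x (rfl | rfl)
    · rw [beq_eq e1]; exact hword _ e2
    · rw [beq_eq e3]; exact hword _ e4
  · rintro ⟨g, hg, rfl⟩
    have hg' : g ∈ (threeJ3 F ω).toSubmonoid := hg
    rw [threeJ3, Subgroup.closure_toSubmonoid_of_finite] at hg'
    clear hg
    induction hg' using Submonoid.closure_induction with
    | mem x hx =>
      obtain ⟨n, hn, he⟩ := exists_code h2 hω hx
      rw [he]; exact gen_mem_GS h2 hω hn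
    | one => rw [Units.val_one]; exact Submonoid.one_mem _
    | mul x y _ _ hx hy => rw [Units.val_mul]; exact Submonoid.mul_mem _ hx hy

theorem isUnit_of_mem [Finite F] {m : Matrix F9 F9 F} (hm : m ∈ GS F ω) : IsUnit m := by
  obtain ⟨g, -, rfl⟩ := (mem_GS_iff_exists h2 hω).1 hm
  exact g.isUnit

theorem exists_inverse [Finite F] {S : Submonoid (Matrix F9 F9 F)} {m : Matrix F9 F9 F} (hm : m ∈ S)
    (hu : IsUnit m) : ∃ m' ∈ S, m * m' = 1 := by
  obtain ⟨u, rfl⟩ := hu
  obtain ⟨k, hk⟩ : ∃ k, u ^ (k + 1) = 1 :=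
    ⟨orderOf u - 1, by rw [Nat.sub_add_cancel (orderOf_pos u)]; exact pow_orderOf_eq_one u⟩
  refine ⟨(u : Matrix F9 F9 F) ^ k, S.pow_mem hm k, ?_⟩
  rw [← pow_succ', ← Units.val_pow_eq_pow_val, hk, Units.val_one]

theorem KS_Bw {m : Matrix F9 F9 F} (hm : m ∈ KS F ω) :
    ∃ s, m * toM F ω gBw = toM F ω gBw * s := by
  obtain ⟨-, -, -, -, -, -, -, -, -, -, -, e1, e2, -⟩ := misc
  induction hm using Submonoid.closure_induction with
  | mem x hx =>
    rcases hx with rfl | rfl
    · exact ⟨toM F ω gSk1, by rw [← toM_mul h2 hω, ← toM_mul h2 hω, beq_eq e1]⟩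
    · exact ⟨toM F ω gSk2, by rw [← toM_mul h2 hω, ← toM_mul h2 hω, beq_eq e2]⟩
  | one => exact ⟨1, by rw [one_mul, mul_one]⟩
  | mul x y _ _ hx hy =>
    obtain ⟨s, hs⟩ := hx
    obtain ⟨t, ht⟩ := hy
    exact ⟨s * t, by rw [mul_assoc, ht, ← mul_assoc, hs, mul_assoc]⟩

theorem VS_P2 {m : Matrix F9 F9 F} (hm : m ∈ VS F ω) : m * toM F ω gP2 = toM F ω gP2 * m := by
  obtain ⟨-, -, -, -, -, -, -, -, -, -, -, -, -, e1, e2, -⟩ := misc
  induction hm using Submonoid.closure_induction with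
  | mem x hx =>
    rcases hx with rfl | rfl
    · rw [← toM_mul h2 hω, ← toM_mul h2 hω, beq_eq e1]
    · rw [← toM_mul h2 hω, ← toM_mul h2 hω, beq_eq e2]
  | one => rw [one_mul, mul_one]
  | mul x y _ _ hx hy => rw [mul_assoc, hy, ← mul_assoc, hx, mul_assoc]

omit h2 hω in
theorem sorted_injective {n : ℕ} {c : ℕ → M2} {σ : BT ℕ}
    (h : ∀ i, i < n → chkSort n c σ i = true) {i j : ℕ} (hi : i < n) (hj : j < n) (he : c i = c j) : i = j := by
  have hlt : ∀ k, k < n → σ.get k < n := fun k hk => by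
    have := h k hk
    simp only [chkSort, Bool.and_eq_true, Nat.blt_eq] at this
    exact this.1
  have hstep : ∀ k, k + 1 < n → key (c (σ.get k)) < key (c (σ.get (k + 1))) := fun k hk => by
    have := h k (by omega)
    simp only [chkSort, Bool.and_eq_true, Bool.or_eq_true, Nat.blt_eq, Nat.beq_eq] at this
    exact this.2.resolve_left (by omega)
  have hmono : ∀ d k, k + d + 1 < n → key (c (σ.get k)) < key (c (σ.get (k + d + 1))) := by
    intro d
    induction d with
    | zero => exact fun k hk => hstep k (by omega)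
    | succ d ih => exact fun k hk => (ih k (by omega)).trans (hstep (k + d + 1) (by omega))
  let f : Fin n → Fin n := fun k => ⟨σ.get k, hlt k k.2⟩
  have hinj : ∀ k l : Fin n, c (σ.get k) = c (σ.get l) → k = l := by
    intro k l hkl
    rcases Nat.lt_trichotomy k.val l.val with hlt' | heq | hgt
    · have := hmono (l - k - 1) k (by omega)
      rw [show k.val + (l.val - k.val - 1) + 1 = l.val by omega, hkl] at this
      exact absurd this (lt_irrefl _)
    · exact Fin.ext heq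
    · have := hmono (k - l - 1) l (by omega)
      rw [show l.val + (k.val - l.val - 1) + 1 = k.val by omega, hkl] at this
      exact absurd this (lt_irrefl _)
  have hf : Function.Injective f := fun k l hkl => hinj k l (congrArg c (congrArg Fin.val hkl))
  obtain ⟨k, hk⟩ := (Finite.injective_iff_surjective.1 hf) ⟨i, hi⟩
  obtain ⟨l, hl⟩ := (Finite.injective_iff_surjective.1 hf) ⟨j, hj⟩
  have hk' : σ.get k = i := congrArg Fin.val hk
  have hl' : σ.get l = j := congrArg Fin.val hl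
  rw [← hk', ← hl'] at he
  rw [← hk', ← hl', hinj k l he]

theorem R_eq {i j : ℕ} (hi : i < 6156) (hj : j < 6156) {k : Matrix F9 F9 F} (hk : k ∈ KS F ω)
    (he : toM F ω (T j) = toM F ω (T i) * k) : ∃ X, toM F ω (R j) = toM F ω (R i) * X := by
  obtain ⟨s, hs⟩ := KS_Bw h2 hω hk
  have h := okT hi
  simp only [chkT, Bool.and_eq_true] at h
  have h' := okT hj
  simp only [chkT, Bool.and_eq_true] at h'
  refine ⟨toM F ω (tS.get i) * s * toM F ω (tS2.get j), ?_⟩
  rw [← beq_eq h'.1.2, toM_mul h2 hω, toM_mul h2 hω, he, mul_assoc (toM F ω (T i)), hs,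
    ← mul_assoc (toM F ω (T i)), ← toM_mul h2 hω, beq_eq h.1.1.2, toM_mul h2 hω]
  simp only [mul_assoc]

theorem cov_injective [Finite F] {i j a c b d : ℕ} (hi : i < 6156) (hj : j < 6156) (ha : a < 272)
    (hc : c < 272) (hb : b < 90) (hd : d < 90)
    (he : toM F ω (T i) * toM F ω (U a) * toM F ω (V b) = toM F ω (T j) * toM F ω (U c) * toM F ω (V d)) :
    i = j ∧ a = c ∧ b = d := by
  have hkab : toM F ω (U a) * toM F ω (V b) ∈ KS F ω := InK_mem h2 hω ⟨a, ha, b, hb, rfl⟩
  have hkcd : toM F ω (U c) * toM F ω (V d) ∈ KS F ω := InK_mem h2 hω ⟨c, hc, d, hd, rfl⟩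
  rw [mul_assoc, mul_assoc] at he
  obtain ⟨m, hm, hm1⟩ := exists_inverse h2 hω hkab (isUnit_of_mem h2 hω (KS_le_GS h2 hω hkab))
  obtain ⟨n, hn, hn1⟩ := exists_inverse h2 hω hkcd (isUnit_of_mem h2 hω (KS_le_GS h2 hω hkcd))
  have h' := okT hj
  have h := okT hi
  simp only [chkT, Bool.and_eq_true] at h h'
  have hij : toM F ω (T j) = toM F ω (T i) * ((toM F ω (U a) * toM F ω (V b)) * n) := by
    rw [← mul_assoc (toM F ω (T i)), he, mul_assoc, hn1, mul_one]
  have hji : toM F ω (T i) = toM F ω (T j) * ((toM F ω (U c) * toM F ω (V d)) * m) := by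
    rw [← mul_assoc (toM F ω (T j)), ← he, mul_assoc, hm1, mul_one]
  obtain ⟨X, hX⟩ := R_eq h2 hω hi hj (Submonoid.mul_mem _ hkab hn) hij
  obtain ⟨Y, hY⟩ := R_eq h2 hω hj hi (Submonoid.mul_mem _ hkcd hm) hji
  have hR : R i = R j := toM_injective h2 hω h.1.1.1.1.2 h'.1.1.1.1.2
    (eq_of_isEch (isEch_of_echB h.1.1.1.2) (isEch_of_echB h'.1.1.1.2) hX hY)
  have hij' : i = j := sorted_injective (fun k hk => okRS hk) hi hj hR
  subst hij'
  refine ⟨rfl, ?_⟩
  have huv := (isUnit_of_mem h2 hω (T_mem h2 hω hi)).mul_left_cancel he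
  have hP : ∀ a b, a < 272 → b < 90 → toM F ω (U a) * toM F ω (V b) * toM F ω gP2 =
      toM F ω (DU a) * (toM F ω (U a) * toM F ω (V b)) := by
    intro a b ha hb
    have hu := okU ha
    simp only [chkU, Bool.and_eq_true] at hu
    rw [mul_assoc, VS_P2 h2 hω (V_mem h2 hω hb), ← mul_assoc, ← toM_mul h2 hω, beq_eq hu.1.1.1.2,
      toM_mul h2 hω, mul_assoc]
  have hD : toM F ω (DU a) = toM F ω (DU c) := by
    have h3 := hP a b ha hb
    rw [huv, hP c d hc hd] at h3
    exact (isUnit_of_mem h2 hω (KS_le_GS h2 hω hkcd)).mul_right_cancel h3.symm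
  have hac : a = c := by
    have u1 := okU ha
    have u2 := okU hc
    simp only [chkU, Bool.and_eq_true] at u1 u2
    exact sorted_injective (fun k hk => okDS hk) ha hc
      (toM_injective h2 hω u1.1.1.1.1 u2.1.1.1.1 hD)
  subst hac
  have hv := (isUnit_of_mem h2 hω (KS_le_GS h2 hω (U_mem h2 hω ha))).mul_left_cancel huv
  have v1 := okV hb
  have v2 := okV hd
  simp only [chkV, Bool.and_eq_true] at v1 v2
  exact ⟨rfl, sorted_injective (fun k hk => okVS hk) hb hd
    (toM_injective h2 hω v1.1.1.1.1.1 v2.1.1.1.1.1 hv)⟩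

/-- the order of the triple cover -/
theorem card_threeJ3 [Finite F] : Nat.card (threeJ3 F ω) = 150698880 := by
  have hmem : ∀ x : Fin 6156 × Fin 272 × Fin 90, ∃ g : threeJ3 F ω,
      ((g : GL F9 F) : Matrix F9 F9 F) =
        toM F ω (T x.1) * toM F ω (U x.2.1) * toM F ω (V x.2.2) := by
    intro x
    obtain ⟨g, hg, he⟩ := (mem_GS_iff_exists h2 hω).1 (Cov_mem h2 hω ⟨x.1, x.1.2, x.2.1, x.2.1.2,
      x.2.2, x.2.2.2, rfl⟩)
    exact ⟨⟨g, hg⟩, he⟩
  choose f hf using hmem
  have hbij : Function.Bijective f := by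
    constructor
    · intro x y hxy
      have h := congrArg (fun g : threeJ3 F ω => ((g : GL F9 F) : Matrix F9 F9 F)) hxy
      simp only [hf] at h
      obtain ⟨e1, e2, e3⟩ := cov_injective h2 hω x.1.2 y.1.2 x.2.1.2 y.2.1.2 x.2.2.2 y.2.2.2 h
      exact Prod.ext (Fin.ext e1) (Prod.ext (Fin.ext e2) (Fin.ext e3))
    · intro g
      obtain ⟨i, hi, a, ha, b, hb, he⟩ :=
        (mem_GS_iff h2 hω).1 ((mem_GS_iff_exists h2 hω).2 ⟨g.1, g.2, rfl⟩)
      exact ⟨(⟨i, hi⟩, ⟨a, ha⟩, ⟨b, hb⟩), Subtype.ext (Units.ext ((hf _).trans he.symm))⟩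
  rw [← Nat.card_eq_of_bijective f hbij]
  simp

end

end CfsgLib.J3
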