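import Cfsg.Agent.Lib.Sporadic.J3.Order

/-! The centre of the triple cover and the simplicity of J3. -/

set_option autoImplicit false

namespace CfsgLib.J3

open Cfsg.Spor Matrix

theorem fixed_col : ∀ r : F9, bits (mul gY gQ) (fi r) 0 = bits gQ (fi r) 0 := by decide +kernel

variable {F : Type*} [Field F] {ω : F} (h2 : (2 : F) = 0) (hω : ω ^ 2 + ω + 1 = 0)

theorem gShift_bits : ∀ k : ℕ, k < 8 → ∀ r : F9,
    bits gShift (fi r) k = (decide (fi r = k + 1), false) ∧ bits gDrop (fi r) k = (decide (fi r = k), false) := by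
  decide +kernel

theorem gPhi_bits : ∀ r c : F9, fi r ≠ 0 → bits gPhi (fi r) (fi c) = (false, false) := by decide +kernel

include h2 hω

/-- A matrix commuting with both coded generators is scalar. -/
theorem commutant {N : Matrix F9 F9 F} (hX : toM F ω gX * N = N * toM F ω gX)
    (hY : toM F ω gY * N = N * toM F ω gY) : ∃ c : F, N = c • 1 := by
  obtain ⟨-, -, -, -, -, -, -, -, -, -, -, -, -, -, -, -, -, -, -, -, -, -, -, -, -, hQ, hK, hA, -⟩ := misc
  set Q := toM F ω gQ
  set e : ℕ → F9 → F := fun k => Pi.single (fz k) 1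
  set v := Q *ᵥ e 0
  have hA' : toM F ω gA * (toM F ω gY + 1) + Q * toM F ω gPhi = 1 := by
    rw [← toM_one (F := F) (ω := ω), ← toM_add h2, ← toM_mul h2 hω, ← toM_mul h2 hω, ← toM_add h2,
      beq_eq hA]
  have hphi : ∀ x, toM F ω gPhi *ᵥ x = (toM F ω gPhi *ᵥ x) (fz 0) • e 0 := by
    intro x
    funext r
    by_cases hr : r = fz 0
    · subst hr; simp [e]
    · have hr' : fi r ≠ 0 := fun h => hr (fi_injective (h.trans (fi_fz 0 (by norm_num)).symm))
      simp only [Pi.smul_apply, e, Pi.single_eq_of_ne hr, smul_zero, mulVec, dotProduct]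
      refine Finset.sum_eq_zero fun c _ => ?_
      rw [toM, Matrix.of_apply, gPhi_bits r c hr', el_zero, zero_mul]
  have hfix : ∀ x, toM F ω gY *ᵥ x = x → ∃ c : F, x = c • v := by
    intro x hx
    refine ⟨(toM F ω gPhi *ᵥ x) (fz 0), ?_⟩
    have h := congrArg (fun M => M *ᵥ x) hA'
    simp only [add_mulVec, ← mulVec_mulVec, one_mulVec, hx] at h
    have hxx : x + x = 0 := funext fun r => add_self_F h2 (x r)
    rw [hxx, mulVec_zero, zero_add, hphi x, mulVec_smul] at h
    exact h.symm
  have hshift : ∀ k, k < 8 → Q *ᵥ e (k + 1) = toM F ω gX *ᵥ (Q *ᵥ e k) := by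
    intro k hk
    have hs : toM F ω gShift *ᵥ e k = e (k + 1) := by
      funext r
      simp only [e, mulVec_single_one, Matrix.col_apply, toM, Matrix.of_apply, fi_fz k (by omega), (gShift_bits k hk r).1]
      by_cases h : fi r = k + 1
      · have : r = fz (k + 1) := fi_injective (h.trans (fi_fz _ (by omega)).symm)
        simp [this, fi_fz (k + 1) (by omega), el]
      · have : r ≠ fz (k + 1) := fun e' => h (by rw [e', fi_fz _ (by omega)])
        simp [h, this, el]
    have hd : toM F ω gDrop *ᵥ e k = e k := by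
      funext r
      simp only [e, mulVec_single_one, Matrix.col_apply, toM, Matrix.of_apply, fi_fz k (by omega), (gShift_bits k hk r).2]
      by_cases h : fi r = k
      · have : r = fz k := fi_injective (h.trans (fi_fz _ (by omega)).symm)
        simp [this, fi_fz k (by omega), el]
      · have : r ≠ fz k := fun e' => h (by rw [e', fi_fz _ (by omega)])
        simp [h, this, el]
    calc Q *ᵥ e (k + 1) = Q *ᵥ (toM F ω gShift *ᵥ e k) := by rw [hs]
      _ = toM F ω (mul gQ gShift) *ᵥ e k := by rw [toM_mul h2 hω, mulVec_mulVec]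
      _ = (toM F ω gX * Q * toM F ω gDrop) *ᵥ e k := by rw [beq_eq hK, toM_mul h2 hω, toM_mul h2 hω]
      _ = _ := by rw [← mulVec_mulVec, hd, mulVec_mulVec]
  -- the fixed line is preserved
  have hone : toM F ω gY *ᵥ v = v := by
    simp only [v, mulVec_mulVec, ← toM_mul h2 hω, Q]
    funext r
    simp only [e, mulVec_single_one, Matrix.col_apply, toM, Matrix.of_apply, fi_fz 0 (by norm_num),
      fixed_col r]
  obtain ⟨c, hc⟩ := hfix (N *ᵥ v) (by rw [mulVec_mulVec, hY, ← mulVec_mulVec, hone])
  refine ⟨c, ?_⟩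
  have hall : ∀ k, k < 9 → N *ᵥ (Q *ᵥ e k) = c • (Q *ᵥ e k) := by
    intro k
    induction k with
    | zero => exact fun _ => hc
    | succ k ih =>
      intro hk
      rw [hshift k (by omega), mulVec_mulVec _ N, ← hX, ← mulVec_mulVec, ih (by omega), mulVec_smul]
  have hQeq : N * Q = c • Q := by
    refine Matrix.ext_of_mulVec_single fun r => ?_
    have := hall (fi r) (fi_lt r)
    have hr : fz (fi r) = r := fi_injective (fi_fz _ (fi_lt r))
    simp only [e, hr] at this
    rw [← mulVec_mulVec, smul_mulVec]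
    exact this
  calc N = N * Q * toM F ω gQi := by rw [mul_assoc, ← toM_mul h2 hω, beq_eq hQ, toM_one, mul_one]
    _ = c • 1 := by rw [hQeq, smul_mul, ← toM_mul h2 hω, beq_eq hQ, toM_one]

end CfsgLib.J3
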