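import Cfsg.Agent.Lib.Sporadic.J3.Main
import Cfsg.Prelude.Def_Classical
import Cfsg.Prelude.Def_Sporadic

/-! The triple cover of J3 inside the special unitary group of dimension 9. -/

set_option autoImplicit false

namespace CfsgLib.J3

open Cfsg.Spor Matrix

theorem gXad_bits : ∀ r c : F9, bits gXad (fi r) (fi c) =
    (Bool.xor (bits gX (fi c) (fi r)).1 (bits gX (fi c) (fi r)).2, (bits gX (fi c) (fi r)).2) := by
  decide +kernel

theorem gYad_bits : ∀ r c : F9, bits gYad (fi r) (fi c) =
    (Bool.xor (bits gY (fi c) (fi r)).1 (bits gY (fi c) (fi r)).2, (bits gY (fi c) (fi r)).2) := by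
  decide +kernel

variable {F : Type} [Field F] [Fintype F] {ω : F} (hF : Fintype.card F = 4) (hω : ω ^ 2 + ω + 1 = 0)

include hF hω

theorem el_sq (x : Bool × Bool) : el F ω (Bool.xor x.1 x.2, x.2) = el F ω x ^ 2 := by
  have h2 := two_eq_zero hF
  have h := omega_sq h2 hω
  obtain ⟨a, b⟩ := x
  cases a <;> cases b <;> simp [el] <;>
    first
      | linear_combination -h
      | linear_combination h2
      | linear_combination -h - h2
      | linear_combination -h + h2
      | linear_combination -h - ω * h2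
      | linear_combination h
      | linear_combination -h - (1 + ω) * h2
      | linear_combination h - ω * h2
      | linear_combination -ω * h2

theorem det_eq_one_and_unitary {m : Matrix F9 F9 F} (hm : m ∈ GS F ω) :
    m.det = 1 ∧ mᵀ * m.map (fun x => x ^ 2) = 1 := by
  have h2 := two_eq_zero hF
  haveI : CharP F 2 := CharTwo.of_one_ne_zero_of_two_eq_zero one_ne_zero h2
  obtain ⟨-, -, -, -, -, -, -, -, -, -, -, -, -, -, -, hX19, hY17, -, -, -, -, -, -, -, -, -, -, -,
    hXad, hYad⟩ := misc
  have hdet : ∀ (a : M2) (p : ℕ), p % 3 ≠ 0 → beq (lprod (List.replicate p a)) one = true →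
      (toM F ω a).det = 1 := by
    intro a p hp hb
    have h1 : toM F ω a ^ p = 1 := by
      rw [← List.prod_replicate, ← List.map_replicate, ← toM_lprod h2 hω, beq_eq hb, toM_one]
    have h3 : (toM F ω a).det ^ p = 1 := by rw [← det_pow, h1, det_one]
    have hp0 : p ≠ 0 := fun e => hp (by simp [e])
    have hne : (toM F ω a).det ≠ 0 := fun e => by
      rw [e, zero_pow hp0] at h3
      exact zero_ne_one h3
    have hd3 := pow_three hF hω hne
    rw [← Nat.div_add_mod p 3, pow_add, pow_mul, hd3, one_pow, one_mul] at h3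
    rcases (by omega : p % 3 = 1 ∨ p % 3 = 2) with h | h
    · rwa [h, pow_one] at h3
    · rw [h] at h3
      have : (toM F ω a).det * (toM F ω a).det ^ 2 = 1 := by rw [← pow_succ']; exact hd3
      rwa [h3, mul_one] at this
  have hadj : ∀ (a ad : M2), (∀ r c : F9, bits ad (fi r) (fi c) =
      (Bool.xor (bits a (fi c) (fi r)).1 (bits a (fi c) (fi r)).2, (bits a (fi c) (fi r)).2)) →
      beq (mul ad a) one = true → (toM F ω a)ᵀ * (toM F ω a).map (fun x => x ^ 2) = 1 := by
    intro a ad hbits hb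
    have he : toM F ω ad = (toM F ω a)ᵀ.map (fun x => x ^ 2) := by
      ext r c
      rw [map_apply, transpose_apply, toM, of_apply, hbits, el_sq hF hω]
      rfl
    have h1 : toM F ω ad * toM F ω a = 1 := by rw [← toM_mul h2 hω, beq_eq hb, toM_one]
    rw [he] at h1
    have h4 := congrArg (fun M : Matrix F9 F9 F => M.map (frobenius F 2)) h1
    simp only [Matrix.map_mul, Matrix.map_one _ (map_zero _) (map_one _)] at h4
    have hid : ((toM F ω a)ᵀ.map (fun x => x ^ 2)).map (frobenius F 2) = (toM F ω a)ᵀ := by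
      ext r c
      show (frobenius F 2) ((toM F ω a)ᵀ r c ^ 2) = _
      rw [frobenius_def, ← pow_mul, show 2 * 2 = Fintype.card F by rw [hF], FiniteField.pow_card]
    rw [hid] at h4
    exact h4
  induction hm using Submonoid.closure_induction with
  | mem x hx =>
    rcases hx with rfl | rfl
    · exact ⟨hdet gX 19 (by norm_num) hX19, hadj gX gXad gXad_bits hXad⟩
    · exact ⟨hdet gY 17 (by norm_num) hY17, hadj gY gYad gYad_bits hYad⟩
  | one =>
    refine ⟨det_one, ?_⟩
    rw [transpose_one, Matrix.map_one _ (by simp) (by simp), one_mul]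
  | mul x y _ _ hx hy =>
    refine ⟨by rw [det_mul, hx.1, hy.1, one_mul], ?_⟩
    have h : (x * y).map (fun z => z ^ 2) = x.map (fun z => z ^ 2) * y.map (fun z => z ^ 2) :=
      Matrix.map_mul (f := frobenius F 2)
    rw [h, transpose_mul, mul_assoc, ← mul_assoc xᵀ, hx.2, one_mul, hy.2]

omit hω in
theorem exists_omega : ∃ w : F, w ^ 2 + w + 1 = 0 := by
  classical
  obtain ⟨w, -, hw⟩ := Finset.exists_mem_notMem_of_card_lt_card (s := ({0, 1} : Finset F)) (t := Finset.univ)
    (by rw [Finset.card_univ, hF]; exact lt_of_le_of_lt (Finset.card_insert_le _ _) (by simp))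
  simp only [Finset.mem_insert, Finset.mem_singleton, not_or] at hw
  have h3 : w ^ 3 = 1 := by
    have := FiniteField.pow_card_sub_one_eq_one w hw.1
    rwa [hF] at this
  have h4 : (w - 1) * (w ^ 2 + w + 1) = 0 := by linear_combination h3
  exact ⟨w, (mul_eq_zero.1 h4).resolve_left (sub_ne_zero.2 hw.2)⟩

theorem exists_su : ∃ H : Subgroup (Cfsg.SU 9 F 2),
    Nat.card (Subgroup.center H) = 3 ∧ Cfsg.IsJ3 (H ⧸ Subgroup.center H) := by
  have h2 := two_eq_zero hF
  haveI : CharP F 2 := CharTwo.of_one_ne_zero_of_two_eq_zero one_ne_zero h2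
  let e : F9 ≃ Fin 9 := Equiv.ofBijective (fun z => (⟨fi z, fi_lt z⟩ : Fin 9)) (by
    rw [Fintype.bijective_iff_injective_and_card]
    exact ⟨fun a b h => fi_injective (congrArg Fin.val h), by simp⟩)
  let φ : Matrix F9 F9 F ≃ₐ[F] Matrix (Fin 9) (Fin 9) F := Matrix.reindexAlgEquiv F F e
  have hprop : ∀ g : threeJ3 F ω, (φ ((g : GL F9 F) : Matrix F9 F9 F)).det = 1 ∧
      (φ ((g : GL F9 F) : Matrix F9 F9 F))ᵀ *
        (φ ((g : GL F9 F) : Matrix F9 F9 F)).map (fun x => x ^ 2) = 1 := by
    intro g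
    obtain ⟨hd, hu⟩ := det_eq_one_and_unitary hF hω ((mem_GS_iff_exists h2 hω).2 ⟨g.1, g.2, rfl⟩)
    refine ⟨by rw [Matrix.det_reindexAlgEquiv]; exact hd, ?_⟩
    have hh := congrArg φ hu
    rw [map_mul, map_one] at hh
    exact hh
  let f0 : threeJ3 F ω →* Matrix.SpecialLinearGroup (Fin 9) F :=
    MonoidHom.mk' (fun g => ⟨φ ((g : GL F9 F) : Matrix F9 F9 F), (hprop g).1⟩)
      (fun a b => Subtype.ext (by
        show φ _ = φ _ * φ _
        rw [Subgroup.coe_mul, Units.val_mul, map_mul]))
  have hmem : ∀ g, f0 g ∈ Cfsg.SU 9 F 2 := by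
    intro g u v
    set M := φ ((g : GL F9 F) : Matrix F9 F9 F)
    show Cfsg.hermForm 9 F 2 (M *ᵥ u) (M *ᵥ v) = Cfsg.hermForm 9 F 2 u v
    have hconv : ∀ a b : Fin 9 → F, Cfsg.hermForm 9 F 2 a b = a ⬝ᵥ (fun i => b i ^ 2) := fun a b => rfl
    have hmv : (fun i => (M *ᵥ v) i ^ 2) = M.map (fun x => x ^ 2) *ᵥ (fun i => v i ^ 2) := by
      funext i
      simp only [mulVec, dotProduct, Matrix.map_apply, CharTwo.sum_sq, mul_pow]
    have ht := congrArg Matrix.transpose (hprop g).2
    rw [transpose_mul, transpose_transpose, transpose_one] at ht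
    rw [hconv, hconv, hmv, dotProduct_mulVec, ← mulVec_transpose, mulVec_mulVec, ht, one_mulVec]
  let f : threeJ3 F ω →* Cfsg.SU 9 F 2 := f0.codRestrict _ hmem
  have hinj : Function.Injective f := fun a b h => by
    have h1 : φ ((a : GL F9 F) : Matrix F9 F9 F) = φ ((b : GL F9 F) : Matrix F9 F9 F) :=
      congrArg (fun x : Cfsg.SU 9 F 2 => ((x : Matrix.SpecialLinearGroup (Fin 9) F) : Matrix (Fin 9) (Fin 9) F)) h
    exact Subtype.ext (Units.ext (φ.injective h1))
  let E := MonoidHom.ofInjective hinj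
  refine ⟨f.range, ?_, ?_⟩
  · rw [← Nat.card_congr (Subgroup.centerCongr E).toEquiv, card_center hF hω]
  · let Q : J3 F ω ≃* f.range ⧸ Subgroup.center f.range :=
      QuotientGroup.congr _ _ E (by
        ext x
        rw [Subgroup.mem_map]
        constructor
        · rintro ⟨y, hy, rfl⟩
          exact Subgroup.mem_center_iff.2 fun z => by
            obtain ⟨w, rfl⟩ := E.surjective z
            simp only [MulEquiv.coe_toMonoidHom, MonoidHom.coe_coe, ← map_mul, Subgroup.mem_center_iff.1 hy w]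
        · intro hx
          refine ⟨E.symm x, Subgroup.mem_center_iff.2 fun z => ?_, E.apply_symm_apply x⟩
          apply E.injective
          rw [map_mul, map_mul, E.apply_symm_apply]
          exact Subgroup.mem_center_iff.1 hx (E z))
    refine ⟨?_, by rw [← Nat.card_congr Q.toEquiv, card_J3 hF hω]⟩
    haveI := isSimple_J3 hF hω
    exact MulEquiv.isSimpleGroup Q.symm

end CfsgLib.J3
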